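import Cfsg.Agent.Omega.HOneTwo.TransSide

/-!
# II.0h1, `q = 2`, after the transvection statement: the data `TS` and the two sides

`TS G`: `z`, `C(r 0) ∩ C(z) ≤ M ≤ C(z)`, the four-group `{1, r 0, r 1, r 2}`, `Q p = O₂(C(p))`,
`C = C_G(⟨Q₁, Q₂⟩)` and the facts of #15507: (a), (b), `TS(z)`. `U = ⟨(r 0)^M⟩`, `Δ = (r 0)^M`,
`N p = gen p z = ⟨z^{C(p)}⟩`. `TS.Ms`: the side `(M, U)`, `TS.Hs`: the side `(C(r 0), N (r 0))`.
-/

set_option autoImplicit false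
set_option linter.unusedSectionVars false

namespace Cfsg.Agent.Omega.HOneTwo.Trans

open Subgroup

universe u

variable {G : Type u} [Group G]

/-- `r ^ C(z)` -/
def Delta (z r : G) : Set G := {p | ∃ m, m * z = z * m ∧ p = m * r * m⁻¹}

/-- `⟨r ^ C(z)⟩` -/
def gen (z r : G) : Subgroup G := closure (Delta z r)

/-- `r ^ M` -/
def Dl (M : Subgroup G) (r : G) : Set G := {p | ∃ m ∈ M, p = m * r * m⁻¹}

/-- `⟨r ^ M⟩` -/
def gn (M : Subgroup G) (r : G) : Subgroup G := closure (Dl M r)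

/-- the centre of `Q` -/
def zt (Q : Subgroup G) : Subgroup G := Q ⊓ centralizer (Q : Set G)

theorem mem_zt {Q : Subgroup G} {x : G} : x ∈ zt Q ↔ x ∈ Q ∧ ∀ y ∈ Q, x * y = y * x := by
  unfold zt
  rw [mem_inf, mem_centralizer_iff]
  exact ⟨fun h => ⟨h.1, fun y hy => (h.2 y hy).symm⟩, fun h => ⟨h.1, fun y hy => (h.2 y hy).symm⟩⟩

/-- the data after the transvection statement -/
structure TS (G : Type u) [Group G] where
  z : G
  M : Subgroup G
  r : Fin 3 → G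
  Q : G → Subgroup G
  C : Subgroup G
  z_sq : z * z = 1
  z_ne : z ≠ 1
  r_prod : r 0 * r 1 * r 2 = 1
  M_z : ∀ m ∈ M, m * z = z * m
  M_r : ∀ g, g * r 0 = r 0 * g → g * z = z * g → g ∈ M
  r_Δ : ∀ i, r i ∈ Dl M (r 0)
  U_sq : ∀ u ∈ gn M (r 0), u * u = 1
  Q_conj : ∀ g p x, x ∈ Q p → g * x * g⁻¹ ∈ Q (g * p * g⁻¹)
  Q_cent : ∀ x ∈ Q (r 0), x * r 0 = r 0 * x
  Q_der : ∀ x ∈ Q (r 0), ∀ y ∈ Q (r 0), x * y = y * x ∨ x * y = r 0 * (y * x)
  r_Q : ∀ i j, r i ∈ Q (r j)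
  C_le : ∀ i, C ≤ zt (Q (r i))
  le_C : ∀ i j, i ≠ j → zt (Q (r i)) ⊓ zt (Q (r j)) ≤ C
  z_C : z ∈ C
  r_C : ∀ i, r i ∉ C
  a : ∀ i j, i ≠ j → ∀ x ∈ zt (Q (r i)), x ∈ Q (r j) → x ∈ C ∨ r i * x ∈ C
  b : ∀ i j, i ≠ j → ∀ x ∈ zt (Q (r i)), ∀ y ∈ zt (Q (r j)), x * y * x⁻¹ * y⁻¹ ∈ C
  /-- `|U : U ∩ Q₁| = 2` -/
  ts_idx : ∀ u ∈ gn M (r 0), ∀ u' ∈ gn M (r 0), u ∉ Q (r 0) → u' ∉ Q (r 0) → u * u' ∈ Q (r 0)
  /-- `[U, N₁] = ⟨z r 0⟩` -/
  ts_act : ∀ u ∈ gn M (r 0), ∀ n ∈ gen (r 0) z, n * u = u * n ∨ n * u = z * r 0 * (u * n)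
  ts_ne : ∃ u ∈ gn M (r 0), ∃ n ∈ gen (r 0) z, n * u ≠ u * n
  /-- `O₂(M / C_M(U)) = 1` -/
  o2 : ∀ B : Subgroup G, B ≤ M → (∀ m ∈ M, ∀ b ∈ B, m * b * m⁻¹ ∈ B) →
    (∀ b ∈ B, ∀ u ∈ gn M (r 0), b * b * u = u * (b * b)) → ∀ b ∈ B, ∀ u ∈ gn M (r 0), b * u = u * b

/-! ### `Delta`, `gen` -/

theorem self_mem_Delta (z r : G) : r ∈ Delta z r := ⟨1, by group, by group⟩

theorem self_mem_gen (z r : G) : r ∈ gen z r := subset_closure (self_mem_Delta z r)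

theorem Delta_conj {z r x : G} (g : G) (hx : x ∈ Delta z r) : g * x * g⁻¹ ∈ Delta (g * z * g⁻¹) (g * r * g⁻¹) := by
  obtain ⟨m, hm, rfl⟩ := hx
  refine ⟨g * m * g⁻¹, ?_, by group⟩
  calc g * m * g⁻¹ * (g * z * g⁻¹) = g * (m * z) * g⁻¹ := by group
    _ = g * (z * m) * g⁻¹ := by rw [hm]
    _ = _ := by group

theorem gen_conj {z r x : G} (g : G) (hx : x ∈ gen z r) : g * x * g⁻¹ ∈ gen (g * z * g⁻¹) (g * r * g⁻¹) := by
  unfold gen at hx
  induction hx using closure_induction with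
  | mem x hx => exact subset_closure (Delta_conj g hx)
  | one => rw [mul_one, mul_inv_cancel]; exact one_mem _
  | mul x y _ _ hx hy =>
    have : g * (x * y) * g⁻¹ = (g * x * g⁻¹) * (g * y * g⁻¹) := by group
    rw [this]; exact mul_mem hx hy
  | inv x _ hx =>
    have : g * x⁻¹ * g⁻¹ = (g * x * g⁻¹)⁻¹ := by group
    rw [this]; exact inv_mem hx

/-- `Delta z r` is invariant under `C(z)` -/
theorem Delta_inv {z r x g : G} (hg : g * z = z * g) (hx : x ∈ Delta z r) : g * x * g⁻¹ ∈ Delta z r := by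
  obtain ⟨m, hm, rfl⟩ := hx
  refine ⟨g * m, ?_, by group⟩
  rw [mul_assoc, hm, ← mul_assoc, hg, mul_assoc]

theorem gen_inv {z r x g : G} (hg : g * z = z * g) (hx : x ∈ gen z r) : g * x * g⁻¹ ∈ gen z r := by
  unfold gen at hx
  induction hx using closure_induction with
  | mem x hx => exact subset_closure (Delta_inv hg hx)
  | one => rw [mul_one, mul_inv_cancel]; exact one_mem _
  | mul x y _ _ hx hy =>
    have : g * (x * y) * g⁻¹ = (g * x * g⁻¹) * (g * y * g⁻¹) := by group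
    rw [this]; exact mul_mem hx hy
  | inv x _ hx =>
    have : g * x⁻¹ * g⁻¹ = (g * x * g⁻¹)⁻¹ := by group
    rw [this]; exact inv_mem hx

theorem conj_of_comm {g x : G} (h : g * x = x * g) : g * x * g⁻¹ = x := by rw [h, mul_inv_cancel_right]

theorem comm_of_conj {g x : G} (h : g * x * g⁻¹ = x) : g * x = x * g := by
  rw [mul_inv_eq_iff_eq_mul] at h; exact h

theorem inv_comm {g x : G} (h : g * x = x * g) : g⁻¹ * x = x * g⁻¹ := by
  rw [inv_mul_eq_iff_eq_mul, ← mul_assoc, h, mul_inv_cancel_right]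

theorem inv_conj {g x : G} {X : Subgroup G} (h : ∀ y ∈ X, g⁻¹ * y * g⁻¹⁻¹ ∈ X) (hx : x ∈ X) : g⁻¹ * x * g ∈ X := by
  have := h x hx
  rwa [inv_inv] at this

theorem Delta_inv' {z r x g : G} (hg : g * z = z * g) (hx : x ∈ Delta z r) : g⁻¹ * x * g ∈ Delta z r := by
  have := Delta_inv (inv_comm hg) hx
  rwa [inv_inv] at this

theorem gen_inv' {z r x g : G} (hg : g * z = z * g) (hx : x ∈ gen z r) : g⁻¹ * x * g ∈ gen z r := by
  have := gen_inv (inv_comm hg) hx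
  rwa [inv_inv] at this

/-! ### `Dl`, `gn` -/

theorem self_mem_Dl (M : Subgroup G) (r : G) : r ∈ Dl M r := ⟨1, M.one_mem, by group⟩

theorem self_mem_gn (M : Subgroup G) (r : G) : r ∈ gn M r := subset_closure (self_mem_Dl M r)

theorem Dl_inv {M : Subgroup G} {r x g : G} (hg : g ∈ M) (hx : x ∈ Dl M r) : g * x * g⁻¹ ∈ Dl M r := by
  obtain ⟨m, hm, rfl⟩ := hx
  exact ⟨g * m, mul_mem hg hm, by group⟩

theorem gn_inv {M : Subgroup G} {r x g : G} (hg : g ∈ M) (hx : x ∈ gn M r) : g * x * g⁻¹ ∈ gn M r := by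
  unfold gn at hx
  induction hx using closure_induction with
  | mem x hx => exact subset_closure (Dl_inv hg hx)
  | one => rw [mul_one, mul_inv_cancel]; exact one_mem _
  | mul x y _ _ hx hy =>
    have : g * (x * y) * g⁻¹ = (g * x * g⁻¹) * (g * y * g⁻¹) := by group
    rw [this]; exact mul_mem hx hy
  | inv x _ hx =>
    have : g * x⁻¹ * g⁻¹ = (g * x * g⁻¹)⁻¹ := by group
    rw [this]; exact inv_mem hx

theorem Dl_inv' {M : Subgroup G} {r x g : G} (hg : g ∈ M) (hx : x ∈ Dl M r) : g⁻¹ * x * g ∈ Dl M r := by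
  have := Dl_inv (inv_mem hg) hx
  rwa [inv_inv] at this

theorem gn_inv' {M : Subgroup G} {r x g : G} (hg : g ∈ M) (hx : x ∈ gn M r) : g⁻¹ * x * g ∈ gn M r := by
  have := gn_inv (inv_mem hg) hx
  rwa [inv_inv] at this

namespace TS

variable (D : TS G)

/-- `U` -/
abbrev U : Subgroup G := gn D.M (D.r 0)

/-- `Δ` -/
abbrev Δ : Set G := Dl D.M (D.r 0)

theorem U_comm {u v : G} (hu : u ∈ D.U) (hv : v ∈ D.U) : u * v = v * u := by
  have h1 := D.U_sq _ (D.U.mul_mem hu hv)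
  have h2 := D.U_sq u hu
  have h3 := D.U_sq v hv
  calc u * v = u * (u * v * (u * v)) * v := by rw [h1, mul_one]
    _ = (u * u) * (v * u) * (v * v) := by group
    _ = v * u := by rw [h2, h3, one_mul, mul_one]

theorem r_mem (i : Fin 3) : D.r i ∈ D.U := subset_closure (D.r_Δ i)

theorem Q_conj' {g p x : G} (hg : g * p = p * g) (hx : x ∈ D.Q p) : g * x * g⁻¹ ∈ D.Q p := by
  have := D.Q_conj g p x hx
  rwa [conj_of_comm hg] at this

theorem zt_conj {g p x : G} (hx : x ∈ zt (D.Q p)) : g * x * g⁻¹ ∈ zt (D.Q (g * p * g⁻¹)) := by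
  rw [mem_zt] at hx ⊢
  refine ⟨D.Q_conj g p x hx.1, fun y hy => ?_⟩
  have h1 := D.Q_conj g⁻¹ _ y hy
  have e : g⁻¹ * (g * p * g⁻¹) * g⁻¹⁻¹ = p := by group
  rw [e] at h1
  have h2 := hx.2 _ h1
  calc g * x * g⁻¹ * y = g * (x * (g⁻¹ * y * g⁻¹⁻¹)) * g⁻¹ := by group
    _ = g * (g⁻¹ * y * g⁻¹⁻¹ * x) * g⁻¹ := by rw [h2]
    _ = y * (g * x * g⁻¹) := by group

theorem zt_conj' {g p x : G} (hg : g * p = p * g) (hx : x ∈ zt (D.Q p)) : g * x * g⁻¹ ∈ zt (D.Q p) := by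
  have := D.zt_conj (g := g) hx
  rwa [conj_of_comm hg] at this

theorem z_zt (i : Fin 3) : D.z ∈ zt (D.Q (D.r i)) := D.C_le i D.z_C

theorem N_le_zt (i : Fin 3) : gen (D.r i) D.z ≤ zt (D.Q (D.r i)) := by
  unfold gen
  rw [closure_le]
  rintro x ⟨m, hm, rfl⟩
  exact D.zt_conj' hm (D.z_zt i)

/-- elements of `Q₁` centralise `z` -/
theorem Q_z {x : G} (hx : x ∈ D.Q (D.r 0)) : x * D.z = D.z * x := ((mem_zt.1 (D.z_zt 0)).2 x hx).symm

/-- `Q₁ ≤ M` -/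
theorem Q_M {x : G} (hx : x ∈ D.Q (D.r 0)) : x ∈ D.M := D.M_r x (D.Q_cent x hx) (D.Q_z hx)

theorem N_z {n : G} (hn : n ∈ gen (D.r 0) D.z) : n * D.z = D.z * n := D.Q_z (mem_zt.1 (D.N_le_zt 0 hn)).1

theorem N_M {n : G} (hn : n ∈ gen (D.r 0) D.z) : n ∈ D.M := D.Q_M (mem_zt.1 (D.N_le_zt 0 hn)).1

theorem zr_mem : D.z * D.r 0 ∈ D.U := by
  obtain ⟨u, hu, n, hn, hne⟩ := D.ts_ne
  have h1 := (D.ts_act u hu n hn).resolve_left hne
  have h2 : n * u * n⁻¹ ∈ D.U := gn_inv (D.N_M hn) hu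
  have h3 : n * u * n⁻¹ * u⁻¹ = D.z * D.r 0 := by rw [h1]; group
  rw [← h3]
  exact mul_mem h2 (inv_mem hu)

theorem z_mem : D.z ∈ D.U := by
  have h1 := mul_mem D.zr_mem (inv_mem (D.r_mem 0))
  rwa [mul_inv_cancel_right] at h1

theorem z_r : D.z * D.r 0 = D.r 0 * D.z := D.U_comm D.z_mem (D.r_mem 0)

/-- `U ≤ C(r 0)` -/
theorem U_r {u : G} (hu : u ∈ D.U) : u * D.r 0 = D.r 0 * u := D.U_comm hu (D.r_mem 0)

theorem U_z {u : G} (hu : u ∈ D.U) : u * D.z = D.z * u := D.U_comm hu D.z_mem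

theorem zr_sq : D.z * D.r 0 * (D.z * D.r 0) = 1 := D.U_sq _ D.zr_mem

theorem r_sq (i : Fin 3) : D.r i * D.r i = 1 := D.U_sq _ (D.r_mem i)

/-- `r 0 ∈ N₁` -/
theorem r_mem_N : D.r 0 ∈ gen (D.r 0) D.z := by
  obtain ⟨u, hu, n, hn, hne⟩ := D.ts_ne
  have h1 := (D.ts_act u hu n hn).resolve_left hne
  have h2 : u * n * u⁻¹ ∈ gen (D.r 0) D.z := gen_inv (D.U_r hu) hn
  have h3 : n * (u * n * u⁻¹)⁻¹ = D.z * D.r 0 := by
    calc n * (u * n * u⁻¹)⁻¹ = n * u * (u * n)⁻¹ := by group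
      _ = D.z * D.r 0 := by rw [h1]; group
  have h4 := mul_mem hn (inv_mem h2)
  rw [h3] at h4
  have h5 := mul_mem (inv_mem (self_mem_gen (D.r 0) D.z)) h4
  rwa [inv_mul_cancel_left] at h5

/-- noncommuting `u ∈ U`, `n ∈ N₁` -/
theorem key_act {n : G} (hn : n ∈ gen (D.r 0) D.z) {v : G} (hv : v ∈ D.U) (hnv : n * v ≠ v * n) {u : G}
    (hu : u ∈ D.U) : (u ∈ D.Q (D.r 0) → n * u = u * n) ∧ (u ∉ D.Q (D.r 0) → n * u = D.z * D.r 0 * (u * n)) := by
  have hz := mem_zt.1 (D.N_le_zt 0 hn)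
  refine ⟨fun h => hz.2 u h, fun h => ?_⟩
  have hvQ : v ∉ D.Q (D.r 0) := fun h' => hnv (hz.2 v h')
  have h1 := hz.2 _ (D.ts_idx u hu v hv h hvQ)
  rcases D.ts_act u hu n hn with h2 | h2
  · exfalso
    apply hnv
    apply mul_left_cancel (a := u)
    calc u * (n * v) = n * (u * v) := by rw [← mul_assoc, ← h2, mul_assoc]
      _ = u * (v * n) := by rw [h1, mul_assoc]
  · exact h2

theorem N_sq {n : G} (hn : n ∈ gen (D.r 0) D.z) : n * n = 1 := by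
  have hab : ∀ x ∈ gen (D.r 0) D.z, ∀ y ∈ gen (D.r 0) D.z, x * y = y * x := by
    intro x hx y hy
    exact (mem_zt.1 (D.N_le_zt 0 hx)).2 y (mem_zt.1 (D.N_le_zt 0 hy)).1
  unfold gen at hn
  induction hn using closure_induction with
  | mem x hx =>
    obtain ⟨m, -, rfl⟩ := hx
    calc m * D.z * m⁻¹ * (m * D.z * m⁻¹) = m * (D.z * D.z) * m⁻¹ := by group
      _ = 1 := by rw [D.z_sq]; group
  | one => exact mul_one 1
  | mul x y hx hy hx' hy' =>
    calc x * y * (x * y) = x * (y * x) * y := by group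
      _ = (x * x) * (y * y) := by rw [hab y hy x hx]; group
      _ = 1 := by rw [hx', hy', mul_one]
  | inv x _ hx =>
    calc x⁻¹ * x⁻¹ = (x * x)⁻¹ := by group
      _ = 1 := by rw [hx, inv_one]

/-! ### The side of `M` -/

theorem m_z {m : G} (hm : m ∈ D.M) : m * D.z * m⁻¹ = D.z := conj_of_comm (D.M_z m hm)

theorem m_z' {m : G} (hm : m ∈ D.M) : m⁻¹ * D.z * m⁻¹⁻¹ = D.z := conj_of_comm (inv_comm (D.M_z m hm))

/-- the side `(M, U)` -/
def Ms : Side G where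
  A := D.M
  U := D.U
  Δ := D.Δ
  z := D.z
  N p := gen p D.z
  K p := D.Q p
  U_sq := D.U_sq
  U_conj := fun _ hm _ hu => gn_inv hm hu
  Δ_gen := rfl
  Δ_conj := fun _ hm _ hu => Dl_inv hm hu
  z_mem := D.z_mem
  z_comm := D.M_z
  N_le := by
    rintro p ⟨m, hm, rfl⟩ n hn
    have h1 := gen_conj m⁻¹ hn
    have e : m⁻¹ * (m * D.r 0 * m⁻¹) * m⁻¹⁻¹ = D.r 0 := by group
    rw [e, D.m_z' hm, inv_inv] at h1
    have h2 := D.N_M h1
    have e2 : n = m * (m⁻¹ * n * m) * m⁻¹ := by group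
    rw [e2]
    exact mul_mem (mul_mem hm h2) (inv_mem hm)
  N_conj := by
    intro m hm p _ n hn
    have h1 := gen_conj m hn
    rwa [D.m_z hm] at h1
  act := by
    rintro p ⟨m, hm, rfl⟩ n hn
    have h1 := gen_conj m⁻¹ hn
    have e : m⁻¹ * (m * D.r 0 * m⁻¹) * m⁻¹⁻¹ = D.r 0 := by group
    rw [e, D.m_z' hm, inv_inv] at h1
    by_cases hall : ∀ v ∈ D.U, (m⁻¹ * n * m) * v = v * (m⁻¹ * n * m)
    · left
      intro u hu
      have h2 := hall _ (gn_inv' hm hu)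
      have h3 : n * u = u * n := by
        calc n * u = m * ((m⁻¹ * n * m) * (m⁻¹ * u * m)) * m⁻¹ := by group
          _ = u * n := by rw [h2]; group
      exact conj_of_comm h3
    · right
      push Not at hall
      obtain ⟨v, hv, hnv⟩ := hall
      intro u hu
      have hu' := gn_inv' hm hu
      obtain ⟨k1, k2⟩ := D.key_act h1 hv hnv hu'
      have hQ : u ∈ D.Q (m * D.r 0 * m⁻¹) ↔ m⁻¹ * u * m ∈ D.Q (D.r 0) := by
        constructor
        · intro h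
          have := D.Q_conj m⁻¹ _ _ h
          rwa [e, inv_inv] at this
        · intro h
          have := D.Q_conj m _ _ h
          have e3 : m * (m⁻¹ * u * m) * m⁻¹ = u := by group
          rwa [e3] at this
      refine ⟨fun h => ?_, fun h => ?_⟩
      · have h2 := k1 (hQ.1 h)
        have h3 : n * u = u * n := by
          calc n * u = m * ((m⁻¹ * n * m) * (m⁻¹ * u * m)) * m⁻¹ := by group
            _ = u * n := by rw [h2]; group
        exact conj_of_comm h3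
      · have h2 := k2 fun h' => h (hQ.2 h')
        have hp : m * D.r 0 * m⁻¹ ∈ D.U := subset_closure ⟨m, hm, rfl⟩
        have h3 : n * u = (m * D.r 0 * m⁻¹) * D.z * (u * n) := by
          calc n * u = m * ((m⁻¹ * n * m) * (m⁻¹ * u * m)) * m⁻¹ := by group
            _ = (m * D.z * m⁻¹) * (m * D.r 0 * m⁻¹) * (u * n) := by rw [h2]; group
            _ = _ := by rw [D.m_z hm, D.U_comm D.z_mem hp]
        rw [h3, D.U_comm hu (mul_mem hp D.z_mem)]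
        group
  exN := by
    rintro p ⟨m, hm, rfl⟩
    obtain ⟨u, hu, n, hn, hne⟩ := D.ts_ne
    have h1 := gen_conj m hn
    rw [D.m_z hm] at h1
    refine ⟨_, h1, m * u * m⁻¹, gn_inv hm hu, fun h => hne ?_⟩
    have h2 := comm_of_conj h
    calc n * u = m⁻¹ * (m * n * m⁻¹ * (m * u * m⁻¹)) * m := by group
      _ = u * n := by rw [h2]; group
  zK := by
    rintro p ⟨m, hm, rfl⟩
    have := D.Q_conj m _ _ (mem_zt.1 (D.z_zt 0)).1
    rwa [D.m_z hm] at this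
  pK := by
    rintro p ⟨m, hm, rfl⟩
    exact D.Q_conj m _ _ (D.r_Q 0 0)

theorem Ms_O2 : D.Ms.O2 := D.o2

/-! ### The side of `H = C(r 0)` -/

/-- `U_y = U^h` for `y = z^h`, `h ∈ C(r 0)` -/
def Uy (y : G) : Subgroup G where
  carrier := {x | ∀ h, h * D.r 0 = D.r 0 * h → h * D.z * h⁻¹ = y → h⁻¹ * x * h ∈ D.U}
  one_mem' := by
    intro h _ _
    rw [mul_one, inv_mul_cancel]
    exact one_mem _
  mul_mem' := by
    intro a b ha hb h h1 h2
    have e : h⁻¹ * (a * b) * h = (h⁻¹ * a * h) * (h⁻¹ * b * h) := by group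
    rw [e]
    exact mul_mem (ha h h1 h2) (hb h h1 h2)
  inv_mem' := by
    intro a ha h h1 h2
    have e : h⁻¹ * a⁻¹ * h = (h⁻¹ * a * h)⁻¹ := by group
    rw [e]
    exact inv_mem (ha h h1 h2)

theorem mem_Uy {h : G} (hh : h * D.r 0 = D.r 0 * h) {x : G} : x ∈ D.Uy (h * D.z * h⁻¹) ↔ h⁻¹ * x * h ∈ D.U := by
  constructor
  · intro hx
    exact hx h hh rfl
  · intro hx k hk e
    have h1 : k⁻¹ * h ∈ D.M := by
      apply D.M_r
      · rw [mul_assoc, hh, ← mul_assoc, inv_comm hk, mul_assoc]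
      · have h2 : k⁻¹ * h * D.z * (k⁻¹ * h)⁻¹ = D.z := by
          calc k⁻¹ * h * D.z * (k⁻¹ * h)⁻¹ = k⁻¹ * (h * D.z * h⁻¹) * k := by group
            _ = D.z := by rw [← e]; group
        exact comm_of_conj h2
    have h2 := gn_inv h1 hx
    have e2 : k⁻¹ * h * (h⁻¹ * x * h) * (k⁻¹ * h)⁻¹ = k⁻¹ * x * k := by group
    rwa [e2] at h2

theorem Uy_z : D.Uy D.z = D.U := by
  ext x
  have h1 := D.mem_Uy (h := 1) (x := x) (by rw [one_mul, mul_one])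
  rw [one_mul, inv_one, mul_one, one_mul, mul_one] at h1
  exact h1

theorem Uy_conj {k y x : G} (hk : k * D.r 0 = D.r 0 * k) (hx : x ∈ D.Uy y) :
    k * x * k⁻¹ ∈ D.Uy (k * y * k⁻¹) := by
  intro h hh e
  have h1 := hx (k⁻¹ * h) (by rw [mul_assoc, hh, ← mul_assoc, inv_comm hk, mul_assoc]) (by
    calc k⁻¹ * h * D.z * (k⁻¹ * h)⁻¹ = k⁻¹ * (h * D.z * h⁻¹) * k := by group
      _ = y := by rw [e]; group)
  have e2 : (k⁻¹ * h)⁻¹ * x * (k⁻¹ * h) = h⁻¹ * (k * x * k⁻¹) * h := by group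
  rwa [e2] at h1

theorem Uy_conj' {k y x : G} (hk : k * D.r 0 = D.r 0 * k) (hy : k * y = y * k) (hx : x ∈ D.Uy y) :
    k * x * k⁻¹ ∈ D.Uy y := by
  have := D.Uy_conj hk hx
  rwa [conj_of_comm hy] at this

theorem Uy_le {h : G} (hh : h * D.r 0 = D.r 0 * h) {x : G} (hx : x ∈ D.Uy (h * D.z * h⁻¹)) :
    h⁻¹ * x * h ∈ D.U := (D.mem_Uy hh).1 hx

theorem Uy_r {h : G} (hh : h * D.r 0 = D.r 0 * h) {x : G} (hx : x ∈ D.Uy (h * D.z * h⁻¹)) :
    x * D.r 0 = D.r 0 * x := by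
  have h1 := D.U_r (D.Uy_le hh hx)
  calc x * D.r 0 = h * ((h⁻¹ * x * h) * (h⁻¹ * D.r 0 * h⁻¹⁻¹)) * h⁻¹ := by group
    _ = h * (D.r 0 * (h⁻¹ * x * h)) * h⁻¹ := by rw [conj_of_comm (inv_comm hh), h1]
    _ = (h * D.r 0 * h⁻¹) * x := by group
    _ = D.r 0 * x := by rw [conj_of_comm hh]

theorem y_r {h : G} (hh : h * D.r 0 = D.r 0 * h) : h * D.z * h⁻¹ * D.r 0 = D.r 0 * (h * D.z * h⁻¹) := by
  calc h * D.z * h⁻¹ * D.r 0 = h * (D.z * (h⁻¹ * D.r 0 * h⁻¹⁻¹)) * h⁻¹ := by group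
    _ = h * (D.r 0 * D.z) * h⁻¹ := by rw [conj_of_comm (inv_comm hh), D.z_r]
    _ = (h * D.r 0 * h⁻¹) * (h * D.z * h⁻¹) := by group
    _ = _ := by rw [conj_of_comm hh]

/-- the side `(C(r 0), N₁)` -/
def Hs : Side G where
  A := centralizer {D.r 0}
  U := gen (D.r 0) D.z
  Δ := Delta (D.r 0) D.z
  z := D.r 0
  N y := D.Uy y
  K y := centralizer (D.Uy y : Set G)
  U_sq := fun _ h => D.N_sq h
  U_conj := by
    intro m hm u hu
    exact gen_inv (mem_centralizer_singleton_iff.1 hm) hu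
  Δ_gen := rfl
  Δ_conj := by
    intro m hm u hu
    exact Delta_inv (mem_centralizer_singleton_iff.1 hm) hu
  z_mem := D.r_mem_N
  z_comm := fun m hm => mem_centralizer_singleton_iff.1 hm
  N_le := by
    rintro y ⟨h, hh, rfl⟩ n hn
    rw [mem_centralizer_singleton_iff]
    exact D.Uy_r hh hn
  N_conj := by
    intro m hm p _ n hn
    exact D.Uy_conj (mem_centralizer_singleton_iff.1 hm) hn
  act := by
    rintro y ⟨h, hh, rfl⟩ x hx
    -- `x' = x ^ h ∈ U`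
    have hx' := D.Uy_le hh hx
    have conj_iff : ∀ n : G, (h⁻¹ * x * h) * (h⁻¹ * n * h) = (h⁻¹ * n * h) * (h⁻¹ * x * h) → x * n = n * x := by
      intro n hn
      calc x * n = h * ((h⁻¹ * x * h) * (h⁻¹ * n * h)) * h⁻¹ := by group
        _ = n * x := by rw [hn]; group
    by_cases hxQ : h⁻¹ * x * h ∈ D.Q (D.r 0)
    · left
      intro n hn
      have hn' := gen_inv' hh hn
      apply conj_of_comm
      apply conj_iff
      exact ((mem_zt.1 (D.N_le_zt 0 hn')).2 _ hxQ).symm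
    · right
      intro n hn
      have hn' := gen_inv' hh hn
      refine ⟨fun hK => ?_, fun hK => ?_⟩
      · exact conj_of_comm (mem_centralizer_iff.1 hK x hx)
      · -- `n` does not commute with all of `U_y`
        obtain ⟨v, hv, hnv⟩ : ∃ v ∈ D.U, (h⁻¹ * n * h) * v ≠ v * (h⁻¹ * n * h) := by
          by_contra hcon
          push Not at hcon
          apply hK
          rw [mem_centralizer_iff]
          intro w hw
          have h1 := hcon _ (D.Uy_le hh hw)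
          calc w * n = h * ((h⁻¹ * w * h) * (h⁻¹ * n * h)) * h⁻¹ := by group
            _ = n * w := by rw [← h1]; group
        have h2 := (D.key_act hn' hv hnv hx').2 hxQ
        -- `n' x' = z r₀ x' n'`
        have h3 : (h⁻¹ * x * h) * (h⁻¹ * n * h) = D.z * D.r 0 * ((h⁻¹ * n * h) * (h⁻¹ * x * h)) := by
          rw [h2, ← mul_assoc (D.z * D.r 0), D.zr_sq, one_mul]
        have h4 : D.z * D.r 0 * (h⁻¹ * n * h) = (h⁻¹ * n * h) * (D.z * D.r 0) := by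
          have h5 := mul_mem (self_mem_gen (D.r 0) D.z) D.r_mem_N
          exact (mem_zt.1 (D.N_le_zt 0 h5)).2 _ (mem_zt.1 (D.N_le_zt 0 hn')).1
        calc x * n * x⁻¹ = h * ((h⁻¹ * x * h) * (h⁻¹ * n * h)) * h⁻¹ * x⁻¹ := by group
          _ = h * ((h⁻¹ * n * h) * (D.z * D.r 0) * (h⁻¹ * x * h)) * h⁻¹ * x⁻¹ := by
              rw [h3, ← h4]; group
          _ = n * ((h * D.z * h⁻¹) * (h * D.r 0 * h⁻¹)) := by group
          _ = n * ((h * D.z * h⁻¹) * D.r 0) := by rw [conj_of_comm hh]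
  exN := by
    rintro y ⟨h, hh, rfl⟩
    obtain ⟨u, hu, n, hn, hne⟩ := D.ts_ne
    have h1 : h * u * h⁻¹ ∈ D.Uy (h * D.z * h⁻¹) := by
      rw [D.mem_Uy hh]
      have e : h⁻¹ * (h * u * h⁻¹) * h = u := by group
      rwa [e]
    refine ⟨_, h1, h * n * h⁻¹, gen_inv hh hn, fun h' => hne ?_⟩
    have h2 := comm_of_conj h'
    calc n * u = h⁻¹ * (h * n * h⁻¹ * (h * u * h⁻¹)) * h := by group
      _ = u * n := by rw [← h2]; group
  zK := by
    rintro y ⟨h, hh, rfl⟩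
    rw [mem_centralizer_iff]
    intro x hx
    exact D.Uy_r hh hx
  pK := by
    rintro y ⟨h, hh, rfl⟩
    rw [mem_centralizer_iff]
    intro x hx
    have h1 := D.U_z (D.Uy_le hh hx)
    calc x * (h * D.z * h⁻¹) = h * ((h⁻¹ * x * h) * D.z) * h⁻¹ := by group
      _ = h * D.z * h⁻¹ * x := by rw [h1]; group

end TS

end Cfsg.Agent.Omega.HOneTwo.Trans
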