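import Cfsg.Agent.Omega.HOneTwo.Basic
import Cfsg.Agent.Omega.BTwo.Split

/-!
# II.0h1, the dichotomy (5) of #12123 (field-free)

`BTS V R` (`b = 2`, `C_D(X) ≠ 1` allowed), `z` with `z ∈ Ω₁(Z(Q i))`, `M = C(z) ≥ X`, `V ≤ Ω₁(Z(O₂(M)))`:
`U = ⟨V^M⟩`, `N i = ⟨z^{N(R i)}⟩`.

* `Dt.U_cen_N` : `C_U(N i) = U ∩ Q i`; `Dt.N_cen_U` : `C_{N i}(U) = N i ∩ O₂(M)`;
* `Dt.alpha_iff` : `U ≤ Q i ↔ N i ≤ O₂(M)` (case (α), `[U, N i] = 1`);
* `Dt.U_inf_Q` : `U ∩ Q i = (U ∩ W i)(U ∩ Q i ∩ Q j)`; `Dt.N_U_comm` : `[N i, U ∩ Q j] ≤ R i · C_D(X)`.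
* `HT.toBTS`, `HT.dt` : the situation `HT`.
-/

set_option autoImplicit false
set_option linter.unusedSectionVars false

namespace Cfsg.Agent.Omega.HOneTwo

open Subgroup Cfsg Cfsg.Agent.ZN Cfsg.Agent.MinSimple.VModule Cfsg.Agent.Omega.BTwo
open Cfsg.Agent.Omega.MinPar

universe u

variable {G : Type u} [Group G] {ι : Type*}

/-- the data of (5) -/
structure Dt (V : Subgroup G) (R : ι → Subgroup G) (z : G) (M : Subgroup G) : Prop where
  M_eq : M = centralizer ({z} : Set G)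
  X_M : XX V R ≤ M
  V_M : V ≤ zc (o2 M)
  z_Q : ∀ i, z ∈ zc (QQ (R i))

/-- `U = ⟨V^M⟩` -/
abbrev UM (V M : Subgroup G) : Subgroup G := cl V M

/-- `N = ⟨z^{N(R)}⟩` -/
abbrev NN (R : Subgroup G) (z : G) : Subgroup G := cl (zpowers z) (normalizer (R : Set G))

section

variable {V : Subgroup G} {R : ι → Subgroup G} {z : G} {M : Subgroup G} (b : BT V R) (d : Dt V R z M)

theorem cmem {H : Subgroup G} {g x : G} (hg : g ∈ H) (hx : x ∈ H) : g * x * g⁻¹ ∈ H :=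
  H.mul_mem (H.mul_mem hg hx) (H.inv_mem hg)

theorem cmem' {H : Subgroup G} {g x : G} (hg : g ∈ normalizer (H : Set G)) (hx : x ∈ H) :
    g * x * g⁻¹ * x⁻¹ ∈ H := H.mul_mem (conj_mem_of_normalizer hg hx) (H.inv_mem hx)

theorem rel_ne [Finite G] (H K : Subgroup G) : H.relIndex K ≠ 0 := by
  intro h
  have h1 := relIndex_dvd_card H K
  rw [h, Nat.zero_dvd] at h1
  exact Nat.card_pos.ne' h1

theorem z_mem_NN (R : Subgroup G) (z : G) : z ∈ NN R z := le_cl _ _ (mem_zpowers z)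

include d

theorem Dt.mem_M {g : G} : g ∈ M ↔ g * z = z * g := by
  rw [d.M_eq, mem_centralizer_singleton_iff]

theorem Dt.U_le : UM V M ≤ zc (o2 M) :=
  cl_le d.V_M ((le_normalizer_o2 M).trans (normalizer_le_normalizer_zc _))

theorem Dt.U_le_o2 : UM V M ≤ o2 M := d.U_le.trans (zc_le _)

theorem Dt.U_le_M : UM V M ≤ M := d.U_le_o2.trans (MinSimple.VModule.o2_le _)

theorem Dt.U_isPGroup : IsPGroup 2 (UM V M) := (o2_isPGroup M).to_le d.U_le_o2

theorem Dt.U_comm {u v : G} (hu : u ∈ UM V M) (hv : v ∈ UM V M) : u * v = v * u :=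
  (mem_zc.1 (d.U_le hv)).2.1 u (d.U_le_o2 hu)

theorem Dt.U_sq {u : G} (hu : u ∈ UM V M) : u * u = 1 := by
  rw [← pow_two]; exact (mem_zc.1 (d.U_le hu)).2.2

theorem Dt.U_le_cen : UM V M ≤ centralizer (V : Set G) := by
  intro u hu
  rw [mem_centralizer_iff]
  exact fun v hv => d.U_comm (le_cl V M hv) hu

theorem Dt.X_le_NU : XX V R ≤ normalizer (UM V M : Set G) := d.X_M.trans (le_normalizer_cl V M)

theorem Dt.N_le (i : ι) : NN (R i) z ≤ zc (QQ (R i)) := by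
  refine cl_le ?_ ((le_normalizer_O2 _).trans (normalizer_le_normalizer_zc _))
  rw [zpowers_le]
  exact d.z_Q i

theorem Dt.N_le_Q (i : ι) : NN (R i) z ≤ QQ (R i) := (d.N_le i).trans (zc_le _)

theorem Dt.Q_le_M (i : ι) : QQ (R i) ≤ M := by
  intro g hg
  rw [d.mem_M]
  exact (mem_zc.1 (d.z_Q i)).2.1 g hg

theorem Dt.N_le_M (i : ι) : NN (R i) z ≤ M := (d.N_le_Q i).trans (d.Q_le_M i)

theorem Dt.N_isPGroup (i : ι) : IsPGroup 2 (NN (R i) z) := (O2_isPGroup _).to_le (d.N_le_Q i)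

theorem Dt.N_comm {i : ι} {n q : G} (hn : n ∈ NN (R i) z) (hq : q ∈ QQ (R i)) : q * n = n * q :=
  (mem_zc.1 (d.N_le i hn)).2.1 q hq

theorem Dt.N_sq {i : ι} {n : G} (hn : n ∈ NN (R i) z) : n * n = 1 := by
  rw [← pow_two]; exact (mem_zc.1 (d.N_le i hn)).2.2

include b

theorem Dt.U_le_N (i : ι) : UM V M ≤ normalizer (R i : Set G) := d.U_le_cen.trans (b.cen_le_N i)

/-- `N i ≤ C(W i)` -/
theorem Dt.N_le_cen (i : ι) : NN (R i) z ≤ centralizer (WW V (R i) : Set G) := by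
  intro n hn
  rw [mem_centralizer_iff]
  exact fun w hw => d.N_comm hn (b.W_le_Q i hw)

theorem Dt.cj_NN {g : G} (hg : g ∈ M) {i j : ι} (h : cj g (R i) = R j) : cj g (NN (R i) z) = NN (R j) z := by
  have _ := b
  have key : ∀ g ∈ M, ∀ i j : ι, cj g (R i) = R j → cj g (NN (R i) z) ≤ NN (R j) z := by
    intro g hg i j h
    have e : cj g (zpowers z) = zpowers z := by
      rw [cj_eq_self_iff]
      refine centralizer_le_normalizer _ ?_
      rw [mem_centralizer_iff]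
      rintro _ ⟨k, rfl⟩
      exact ((show Commute g z from d.mem_M.1 hg).zpow_right k).symm
    rw [NN, cl, cj_iSup]
    refine iSup_le fun m => ?_
    have h1 : g * (m : G) * g⁻¹ ∈ normalizer (R j : Set G) := by
      rw [← h, normalizer_cj]
      exact conj_mem_cj m.2
    have e2 : cj g (cj (m : G) (zpowers z)) = cj (g * m * g⁻¹) (zpowers z) := by
      have e3 : cj g⁻¹ (zpowers z) = zpowers z := by
        nth_rewrite 1 [← e]
        rw [cj_inv_cj]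
      rw [cj_mul, cj_mul, e3]
    rw [e2]
    exact cj_le_cl h1
  apply le_antisymm (key g hg i j h)
  have h' : cj g⁻¹ (R j) = R i := by rw [← h, cj_inv_cj]
  have h3 := cj_mono (g := g) (key g⁻¹ (inv_mem hg) j i h')
  rwa [cj_cj_inv] at h3

/-- `C_U(N i) = U ∩ Q i` -/
theorem Dt.U_cen_N (i : ι) : UM V M ⊓ centralizer (NN (R i) z : Set G) = UM V M ⊓ QQ (R i) := by
  apply le_antisymm
  · refine le_inf inf_le_left ?_
    have hCM : normalizer (R i : Set G) ⊓ centralizer (NN (R i) z : Set G) ≤ M := by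
      rintro g ⟨-, hg⟩
      rw [d.mem_M]
      exact (mem_centralizer_iff.1 hg z (z_mem_NN (R i) z)).symm
    refine le_O2_of_chain (B := normalizer (R i : Set G) ⊓ centralizer (NN (R i) z : Set G))
      (C := normalizer (R i : Set G) ⊓ centralizer (NN (R i) z : Set G))
      (inf_le_inf_right _ (d.U_le_N b i)) le_rfl inf_le_left (d.U_isPGroup.to_le inf_le_left) ?_ ?_ ?_
    · rintro g ⟨hg, hg'⟩ u ⟨hu, hu'⟩
      exact ⟨conj_mem_of_normalizer (le_normalizer_cl V M (hCM ⟨hg, hg'⟩)) hu, cmem hg' hu'⟩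
    · exact fun g hg x hx => cmem hg hx
    · rintro g hg x ⟨hx, hx'⟩
      refine ⟨cmem hg hx, ?_⟩
      exact conj_mem_of_normalizer
        (normalizer_le_normalizer_centralizer _ (le_normalizer_cl _ _ hg)) hx'
  · refine le_inf inf_le_left ?_
    rintro q ⟨-, hq⟩
    rw [mem_centralizer_iff]
    exact fun n hn => (d.N_comm hn hq).symm

/-- `C_{N i}(U) = N i ∩ O₂(M)` -/
theorem Dt.N_cen_U (i : ι) : NN (R i) z ⊓ centralizer (UM V M : Set G) = NN (R i) z ⊓ o2 M := by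
  apply le_antisymm
  · refine le_inf inf_le_left ?_
    have hCM : M ⊓ centralizer (UM V M : Set G) ≤ normalizer (R i : Set G) := by
      rintro g ⟨-, hg⟩
      exact b.cen_le_N i (centralizer_le (le_cl V M) hg)
    refine le_O2_of_chain (B := M ⊓ centralizer (UM V M : Set G))
      (C := M ⊓ centralizer (UM V M : Set G))
      (inf_le_inf_right _ (d.N_le_M i)) le_rfl inf_le_left ((d.N_isPGroup i).to_le inf_le_left) ?_ ?_ ?_
    · rintro g ⟨hg, hg'⟩ u ⟨hu, hu'⟩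
      exact ⟨conj_mem_of_normalizer (le_normalizer_cl _ _ (hCM ⟨hg, hg'⟩)) hu, cmem hg' hu'⟩
    · exact fun g hg x hx => cmem hg hx
    · rintro g hg x ⟨hx, hx'⟩
      refine ⟨cmem hg hx, ?_⟩
      exact conj_mem_of_normalizer
        (normalizer_le_normalizer_centralizer _ (le_normalizer_cl V M hg)) hx'
  · refine le_inf inf_le_left ?_
    rintro q ⟨-, hq⟩
    rw [mem_centralizer_iff]
    exact fun u hu => ((mem_zc.1 (d.U_le hu)).2.1 q hq).symm

/-- case (α): `[U, N i] = 1` iff `U ≤ Q i` -/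
theorem Dt.U_le_Q_iff (i : ι) : UM V M ≤ QQ (R i) ↔ UM V M ≤ centralizer (NN (R i) z : Set G) := by
  rw [← inf_eq_left (a := UM V M) (b := QQ (R i)), ← d.U_cen_N b i, inf_eq_left]

/-- case (α): `[U, N i] = 1` iff `N i ≤ O₂(M)` -/
theorem Dt.N_le_o2_iff (i : ι) : NN (R i) z ≤ o2 M ↔ NN (R i) z ≤ centralizer (UM V M : Set G) := by
  rw [← inf_eq_left (a := NN (R i) z) (b := o2 M), ← d.N_cen_U b i, inf_eq_left]

/-- case (α) -/
theorem Dt.alpha_iff (i : ι) : UM V M ≤ QQ (R i) ↔ NN (R i) z ≤ o2 M := by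
  rw [d.U_le_Q_iff b, d.N_le_o2_iff b, le_centralizer_iff]

/-- case (α) does not depend on `i` -/
theorem Dt.alpha_indep (i j : ι) : UM V M ≤ QQ (R i) ↔ UM V M ≤ QQ (R j) := by
  have key : ∀ i j : ι, UM V M ≤ QQ (R i) → UM V M ≤ QQ (R j) := by
    intro i j h
    obtain ⟨x, hx, e⟩ := b.trans_X_one i j
    have h1 := cj_mono (g := x) h
    rwa [b.cj_QQ e, cj_eq_self_iff.2 (d.X_le_NU hx)] at h1
  exact ⟨key i j, key j i⟩

/-- case (α): `⟨U^{N(R i)}⟩ ≤ Q i` -/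
theorem Dt.alpha_cl {i : ι} (h : UM V M ≤ QQ (R i)) :
    cl (UM V M) (normalizer (R i : Set G)) ≤ QQ (R i) := by
  have _ := b
  have _ := d
  exact cl_le h (le_normalizer_O2 _)

/-- case (α): `⟨N_i^M⟩ ≤ O₂(M)` -/
theorem Dt.alpha_cl' {i : ι} (h : UM V M ≤ QQ (R i)) : cl (NN (R i) z) M ≤ o2 M :=
  cl_le ((d.alpha_iff b i).1 h) (le_normalizer_o2 M)

/-- case (α): `W i` induces on `U` transvections with centre `R i` -/
theorem Dt.alpha_comm {i : ι} (h : UM V M ≤ QQ (R i)) {u w : G} (hu : u ∈ UM V M)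
    (hw : w ∈ WW V (R i)) : u * w * u⁻¹ * w⁻¹ ∈ R i := by
  have _ := d
  exact b.WQ i (h hu) hw

/-! ### `U ∩ Q i = (U ∩ W i)(U ∩ Q i ∩ Q j)` -/

theorem Dt.CC_le_NCC : XX V R ≤ normalizer (CC R : Set G) := by
  have _ := d
  have key : ∀ x ∈ XX V R, cj x (CC R) ≤ CC R := by
    intro x hx
    refine le_iInf fun k => ?_
    obtain ⟨j, hj⟩ := b.perm_inv (b.X_le_NV hx) k
    rw [← b.cj_QQ hj]
    exact cj_mono (iInf_le _ j)
  intro x hx
  rw [← cj_eq_self_iff]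
  apply le_antisymm (key x hx)
  have h := cj_mono (g := x) (key x⁻¹ (inv_mem hx))
  rwa [cj_cj_inv] at h

/-- `t ∈ U ∩ Q j`, `w ∈ W i` moving `R j`: `[t, w] ∈ U ∩ W i`, and in `Q i ∩ Q j` only if `t` is -/
theorem Dt.mem_CC_of_comm {i j : ι} (hij : i ≠ j) {w t : G} (hw : w ∈ WW V (R i))
    (hwj : cj w (R j) ≠ R j) (ht : t ∈ QQ (R j)) (h : w * t * w⁻¹ * t⁻¹ ∈ CC R) : t ∈ CC R := by
  obtain ⟨k, hk⟩ := b.perm w (b.W_le_NV i hw) j
  have hkj : k ≠ j := by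
    rintro rfl
    exact hwj hk
  have h1 : w * t * w⁻¹ ∈ QQ (R j) := by
    have e : w * t * w⁻¹ = w * t * w⁻¹ * t⁻¹ * t := by group
    rw [e]
    exact mul_mem (mem_iInf.1 h j) ht
  have h2 : w * t * w⁻¹ ∈ QQ (R k) := by
    rw [← b.cj_QQ hk]
    exact conj_mem_cj ht
  have h3 : w * t * w⁻¹ ∈ CC R := by
    rw [b.C_eq hkj]
    exact ⟨h2, h1⟩
  have h4 := conj_inv_mem_of_normalizer (d.CC_le_NCC b (W_le_X V R i hw)) h3
  have e : w⁻¹ * (w * t * w⁻¹) * w = t := by group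
  rwa [e] at h4

/-- **(5)** `U ∩ Q i = (U ∩ W i)(U ∩ Q i ∩ Q j)` -/
theorem Dt.U_inf_Q [Finite G] (i : ι) :
    UM V M ⊓ QQ (R i) = (UM V M ⊓ WW V (R i)) ⊔ (UM V M ⊓ CC R) := by
  obtain ⟨j, hj, -⟩ := b.third i i
  obtain ⟨k, hk, hkj⟩ := b.third i j
  have hij : i ≠ j := Ne.symm hj
  obtain ⟨w, hw, e⟩ := b.trans i hj hk
  have hwj : cj w (R j) ≠ R j := by
    rw [e]
    exact fun h => hkj (b.R_index h)
  set A := UM V M ⊓ QQ (R j) with hA
  set B := UM V M ⊓ QQ (R i) with hB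
  set C := UM V M ⊓ CC R with hC
  set W := UM V M ⊓ WW V (R i) with hW
  have hCB : C ≤ B := inf_le_inf_left _ (iInf_le _ i)
  have hWB : W ≤ B := inf_le_inf_left _ (b.W_le_Q i)
  have hwU : w ∈ normalizer (UM V M : Set G) := d.X_le_NU (W_le_X V R i hw)
  -- indices
  have h1 : C.relIndex A = C.relIndex B := by
    obtain ⟨x, hx, ex⟩ := b.trans_X_one j i
    have eA : cj x A = B := by rw [hA, cj_inf, cj_eq_self_iff.2 (d.X_le_NU hx), b.cj_QQ ex]
    have eC : cj x C = C := by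
      rw [hC, cj_inf, cj_eq_self_iff.2 (d.X_le_NU hx), cj_eq_self_iff.2 (d.CC_le_NCC b hx)]
    rw [← eA]
    nth_rewrite 2 [← eC]
    exact (relIndex_map_map_of_injective _ _ (MulAut.conj x).injective).symm
  let f : A →* G :=
    { toFun := fun t => w * (t : G) * w⁻¹ * (t : G)⁻¹
      map_one' := by simp
      map_mul' := by
        rintro ⟨s, hs⟩ ⟨t, ht⟩
        change w * (s * t) * w⁻¹ * (s * t)⁻¹ = w * s * w⁻¹ * s⁻¹ * (w * t * w⁻¹ * t⁻¹)
        have h2 : s⁻¹ * (w * t * w⁻¹) = w * t * w⁻¹ * s⁻¹ :=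
          d.U_comm (inv_mem hs.1) (conj_mem_of_normalizer hwU ht.1)
        have h3 : t⁻¹ * s⁻¹ = s⁻¹ * t⁻¹ := d.U_comm (inv_mem ht.1) (inv_mem hs.1)
        calc w * (s * t) * w⁻¹ * (s * t)⁻¹ = w * s * w⁻¹ * (w * t * w⁻¹) * (t⁻¹ * s⁻¹) := by group
          _ = w * s * w⁻¹ * ((w * t * w⁻¹) * s⁻¹) * t⁻¹ := by rw [h3]; group
          _ = w * s * w⁻¹ * s⁻¹ * (w * t * w⁻¹ * t⁻¹) := by rw [← h2]; group }
  have hf : ∀ t : A, f t ∈ W := by
    rintro ⟨t, ht⟩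
    change w * t * w⁻¹ * t⁻¹ ∈ W
    refine ⟨(UM V M).mul_mem (conj_mem_of_normalizer hwU ht.1) ((UM V M).inv_mem ht.1), ?_⟩
    have e1 : w * t * w⁻¹ * t⁻¹ = w * (t * w⁻¹ * t⁻¹) := by group
    rw [e1]
    exact mul_mem hw (conj_mem_of_normalizer (b.cen_le_NW i (d.U_le_cen ht.1)) (inv_mem hw))
  have h2 : C.comap f = C.subgroupOf A := by
    ext t
    rw [mem_comap, mem_subgroupOf]
    constructor
    · intro h
      exact ⟨t.2.1, d.mem_CC_of_comm b hij hw hwj t.2.2 h.2⟩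
    · intro h
      refine ⟨(hf t).1, ?_⟩
      exact (CC R).mul_mem (conj_mem_of_normalizer (d.CC_le_NCC b (W_le_X V R i hw)) h.2)
        ((CC R).inv_mem h.2)
  have h3 : C.relIndex A ≤ C.relIndex W := by
    have h4 : (C.comap f).index = C.relIndex f.range := index_comap C f
    rw [h2] at h4
    have h5 : C.relIndex A = C.relIndex f.range := h4
    rw [h5]
    have h6 : f.range ≤ W := by
      rintro _ ⟨t, rfl⟩
      exact hf t
    exact relIndex_le_of_le_right h6 (rel_ne C W)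
  apply le_antisymm _ (sup_le hWB hCB)
  -- in `B`
  have hn : (C.subgroupOf B).Normal := by
    refine ⟨fun x hx y => ?_⟩
    have h4 : (y : G) * x = x * y := d.U_comm y.2.1 x.2.1
    have h5 : y * x * y⁻¹ = x := by
      apply Subtype.ext
      change (y : G) * x * (y : G)⁻¹ = x
      rw [h4, mul_inv_cancel_right]
    rwa [h5]
  have h4 : (C.subgroupOf B).relIndex (W.subgroupOf B ⊔ C.subgroupOf B) *
      (W.subgroupOf B ⊔ C.subgroupOf B).index = (C.subgroupOf B).index :=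
    relIndex_mul_index le_sup_right
  rw [relIndex_sup_right, relIndex_subgroupOf hWB] at h4
  have h5 : (C.subgroupOf B).index = C.relIndex B := rfl
  rw [h5, ← h1] at h4
  have h6 : C.relIndex A ≠ 0 := rel_ne C A
  have h7 : (W.subgroupOf B ⊔ C.subgroupOf B).index = 1 := by
    have h8 : (W.subgroupOf B ⊔ C.subgroupOf B).index ≠ 0 := by
      intro h
      rw [h, mul_zero] at h4
      exact h6 h4.symm
    by_contra h9
    have h10 : 2 ≤ (W.subgroupOf B ⊔ C.subgroupOf B).index := by omega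
    have h11 : C.relIndex W * 2 ≤ C.relIndex A := by
      rw [← h4]
      exact Nat.mul_le_mul_left _ h10
    omega
  rw [index_eq_one] at h7
  intro x hx
  have h8 : (⟨x, hx⟩ : B) ∈ W.subgroupOf B ⊔ C.subgroupOf B := by rw [h7]; exact mem_top _
  have h9 : (W.subgroupOf B ⊔ C.subgroupOf B).map B.subtype ≤ W ⊔ C := by
    rw [Subgroup.map_sup]
    exact sup_le_sup ((subgroupOf_map_subtype _ _).le.trans inf_le_left)
      ((subgroupOf_map_subtype _ _).le.trans inf_le_left)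
  exact h9 ⟨_, h8, rfl⟩

end

/-! ### `[N i, U ∩ Q j] ≤ R i C_D(X)` -/

section

variable {V : Subgroup G} {R : ι → Subgroup G} {z : G} {M : Subgroup G} (b : BTS V R) (d : Dt V R z M)
include b d

/-- **(5)** `[N i, U ∩ Q j] ≤ D ∩ C(W i)` -/
theorem Dt.N_U_comm' [Finite G] {i j : ι} (hij : i ≠ j) {n u : G} (hn : n ∈ NN (R i) z) (hu : u ∈ UM V M)
    (hu' : u ∈ QQ (R j)) : n * u * n⁻¹ * u⁻¹ ∈ DD V R ⊓ centralizer (WW V (R i) : Set G) := by
  have h1 : u ∈ (UM V M ⊓ WW V (R j)) ⊔ (UM V M ⊓ CC R) := by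
    rw [← d.U_inf_Q b.toBT j]
    exact ⟨hu, hu'⟩
  have hle : UM V M ⊓ CC R ≤ normalizer (UM V M ⊓ WW V (R j) : Subgroup G) := by
    intro x hx
    refine centralizer_le_normalizer _ ?_
    rw [mem_centralizer_iff]
    exact fun y hy => d.U_comm hy.1 hx.1
  rw [← SetLike.mem_coe, coe_mul_of_right_le_normalizer_left _ _ hle] at h1
  obtain ⟨s, hs, t, ht, rfl⟩ := h1
  have hnt : t * n = n * t := d.N_comm hn ((mem_iInf.1 ht.2) i)
  have hsU : s ∈ UU V R j := ⟨hs.2, d.U_le_cen hs.1⟩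
  have h2 := b.cen_W_U hij (d.N_le_cen b.toBT i hn) hsU
  have e : n * (s * t) * n⁻¹ * (s * t)⁻¹ = n * s * n⁻¹ * s⁻¹ := by
    calc n * (s * t) * n⁻¹ * (s * t)⁻¹ = n * s * (t * n⁻¹) * t⁻¹ * s⁻¹ := by group
      _ = n * s * (n⁻¹ * t) * t⁻¹ * s⁻¹ := by
          rw [((show Commute t n from hnt).inv_right).eq]
      _ = n * s * n⁻¹ * s⁻¹ := by group
  change n * (s * t) * n⁻¹ * (s * t)⁻¹ ∈ _
  rw [e]
  exact h2

/-- **(5)** `[N i, U ∩ Q j] ≤ R i · C_D(X)` -/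
theorem Dt.N_U_comm [Finite G] {i j : ι} (hij : i ≠ j) {n u : G} (hn : n ∈ NN (R i) z) (hu : u ∈ UM V M)
    (hu' : u ∈ QQ (R j)) : ∃ a ∈ R i, a * (n * u * n⁻¹ * u⁻¹) ∈ DD V R ⊓ CenX V R := by
  have h := d.N_U_comm' b hij hn hu hu'
  exact b.cen_DW h.1 h.2

end

/-! ### the situation `HT` -/

section

variable [Finite G] {S : Sylow 2 G} {P V : Subgroup G} {R : ι → Subgroup G} {o : ι} (b : HT S P V R o)
include b

theorem HT.toBTS : BTS V R where
  toBT := b.toBT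
  nonloc := fun i T hT _ _ h1 h2 => b.nonloc i T hT (b.P_V.trans h1) h2
  cenQ := b.cenQ

theorem HT.dt {z : G} (hz : z ∈ zc (S : Subgroup G) ⊓ centralizer (P : Set G)) (hz1 : z ≠ 1) :
    Dt V R z (centralizer ({z} : Set G)) where
  M_eq := rfl
  X_M := b.X_le_cen hz
  V_M := b.V_le_zc_o2 (b.isLoc_cen hz.1 hz1) (b.trans_of_X (b.X_le_cen hz))
  z_Q := by
    intro i
    obtain ⟨x, hx, e⟩ := b.trans_X_one o i
    have h1 := b.zc_le_zc_Q hz.1
    have h2 : x * z * x⁻¹ = z := by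
      rw [mem_centralizer_iff.1 (b.cz_le hz) x hx, mul_inv_cancel_right]
    have h3 : cj x (zc (QQ (R o))) = zc (QQ (R i)) := by
      rw [← b.cj_QQ e]
      exact (zc_map (MulAut.conj x).toMonoidHom (MulAut.conj x).injective _).symm
    rw [← h3, ← h2]
    exact conj_mem_cj h1

end

end Cfsg.Agent.Omega.HOneTwo
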