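import Cfsg.Agent.Omega.HOneTwo.TwoPartB
import Cfsg.Agent.Omega.HTwo.Par
import Cfsg.Agent.Omega.NTwo.Par
import Cfsg.Agent.Involutions.BaerSuzuki

/-!
# II.0h1, `q = 2`: the constructor of `TS.TB`

`TB.of`: `TS.TB D S` for a Sylow 2-subgroup `S ≤ C(r 0) ∩ C(z)` if `Q p = O₂(C(p))` and the centralisers of the
central involutions of `S` have characteristic 2.
-/

set_option autoImplicit false
set_option linter.unusedSectionVars false

namespace Cfsg.Agent.Omega.HOneTwo.Trans

open Subgroup Cfsg.Agent.Omega.BTwo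

universe u

variable {G : Type u} [Group G]

/-- two involutions with `(x y)^4 = 1` generate a 2-group -/
theorem isPGroup_pair {x y : G} (hx : x * x = 1) (hy : y * y = 1) (h : (x * y) ^ 4 = 1) :
    IsPGroup 2 (closure {x, y} : Subgroup G) := by
  have hxi : x⁻¹ = x := inv_eq_of_mul_eq_one_left hx
  have hyi : y⁻¹ = y := inv_eq_of_mul_eq_one_left hy
  have h1 : IsPGroup 2 (zpowers (x * y)) := by
    rintro ⟨w, hw⟩
    obtain ⟨k, rfl⟩ := mem_zpowers_iff.mp hw
    refine ⟨2, Subtype.ext ?_⟩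
    change ((x * y) ^ k) ^ (2 ^ 2) = 1
    have : ((x * y) ^ k) ^ (2 ^ 2) = ((x * y) ^ 4) ^ k := by
      rw [← zpow_natCast, ← zpow_mul, ← zpow_natCast, ← zpow_mul, mul_comm]
      norm_num
    rw [this, h, one_zpow]
  have h2 : IsPGroup 2 (zpowers x) := by
    rintro ⟨w, hw⟩
    obtain ⟨k, rfl⟩ := mem_zpowers_iff.mp hw
    refine ⟨1, Subtype.ext ?_⟩
    change (x ^ k) ^ (2 ^ 1) = 1
    have : (x ^ k) ^ (2 ^ 1) = (x * x) ^ k := by
      rw [← pow_two, ← zpow_natCast, ← zpow_mul, ← zpow_natCast, ← zpow_mul, mul_comm]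
      norm_num
    rw [this, hx, one_zpow]
  have hinv : x * (x * y) * x⁻¹ = (x * y)⁻¹ := by
    rw [mul_inv_rev, hyi, ← mul_assoc x, hx, one_mul]
  have hn : zpowers x ≤ normalizer (zpowers (x * y) : Set G) := by
    rw [zpowers_le, mem_normalizer_iff]
    intro w
    have key : ∀ w ∈ zpowers (x * y), x * w * x⁻¹ ∈ zpowers (x * y) := by
      intro w hw
      obtain ⟨k, rfl⟩ := mem_zpowers_iff.mp hw
      rw [← conj_zpow, hinv]
      exact Subgroup.zpow_mem _ (Subgroup.inv_mem _ (mem_zpowers _)) k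
    refine ⟨key w, fun hw => ?_⟩
    have h3 := key _ hw
    have e : x * (x * w * x⁻¹) * x⁻¹ = w := by
      calc x * (x * w * x⁻¹) * x⁻¹ = (x * x) * w * (x * x)⁻¹ := by group
        _ = w := by rw [hx]; group
    rwa [e] at h3
  have h3 := IsPGroup.to_sup_of_normal_right' h2 h1 hn
  refine h3.to_le ?_
  rw [closure_le]
  rintro w (rfl | hw)
  · exact mem_sup_left (mem_zpowers _)
  · rw [Set.mem_singleton_iff.1 hw]
    have h4 : x * (x * y) ∈ zpowers x ⊔ zpowers (x * y) :=
      Subgroup.mul_mem _ (mem_sup_left (mem_zpowers _)) (mem_sup_right (mem_zpowers _))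
    rwa [← mul_assoc, hx, one_mul] at h4

namespace TS

variable {D : TS G}

theorem TB.of [Finite G] (S : Sylow 2 G) (hQ : D.Q (D.r 0) = O2 (centralizer {D.r 0}))
    (S_r : ∀ s ∈ (S : Subgroup G), s * D.r 0 = D.r 0 * s) (S_z : ∀ s ∈ (S : Subgroup G), s * D.z = D.z * s)
    (hC : HTwo.Par.Char2 (S : Subgroup G)) : D.TB (S : Subgroup G) := by
  have hSr : (S : Subgroup G) ≤ centralizer {D.r 0} := fun s hs => mem_centralizer_singleton_iff.2 (S_r s hs)
  have hQS : D.Q (D.r 0) ≤ (S : Subgroup G) := by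
    rw [hQ]; exact HTwo.Par.O2_le_sylow S hSr
  refine ⟨S.isPGroup', hQS, S_r, S_z, ?_, ?_, ?_⟩
  · -- `O₂(H₁ / C(N₁)) = 1`
    intro B hBA hBn hsq b hb
    have hz : ∀ b ∈ B, b * D.z = D.z * b := by
      intro b hb
      have hN : centralizer {D.r 0} ≤
          normalizer ((centralizer {D.r 0} ⊓ centralizer (D.Hs.U : Set G) : Subgroup G) : Set G) := by
        intro h hh
        have key : ∀ h ∈ centralizer {D.r 0}, ∀ x ∈ centralizer {D.r 0} ⊓ centralizer (D.Hs.U : Set G),
            h * x * h⁻¹ ∈ centralizer {D.r 0} ⊓ centralizer (D.Hs.U : Set G) := by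
          rintro h hh x ⟨hx, hx'⟩
          have hx' : ∀ u ∈ D.Hs.U, u * x = x * u := mem_centralizer_iff.1 hx'
          refine mem_inf.2 ⟨Subgroup.mul_mem _ (Subgroup.mul_mem _ hh hx) (Subgroup.inv_mem _ hh),
            mem_centralizer_iff.2 ?_⟩
          intro u hu
          have h1 := hx' _ (D.Hs.U_conj h⁻¹ (Subgroup.inv_mem _ hh) u hu)
          calc u * (h * x * h⁻¹) = h * ((h⁻¹ * u * h⁻¹⁻¹) * x) * h⁻¹ := by group
            _ = h * x * h⁻¹ * u := by rw [h1]; group
        rw [mem_normalizer_iff]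
        intro x
        refine ⟨key h hh x, fun hx => ?_⟩
        have h1 := key h⁻¹ (Subgroup.inv_mem _ hh) _ hx
        have e : h⁻¹ * (h * x * h⁻¹) * h⁻¹⁻¹ = x := by group
        rwa [e] at h1
      have hBN : centralizer {D.r 0} ≤ normalizer (B : Set G) := by
        intro h hh
        rw [mem_normalizer_iff]
        intro x
        refine ⟨hBn h hh x, fun hx => ?_⟩
        have h1 := hBn h⁻¹ (Subgroup.inv_mem _ hh) _ hx
        have e : h⁻¹ * (h * x * h⁻¹) * h⁻¹⁻¹ = x := by group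
        rwa [e] at h1
      obtain ⟨x, hx, h1⟩ := NTwo.exists_mul S hSr hN hBA hBN (fun k hk =>
        ⟨Subgroup.mul_mem _ (hBA hk) (hBA hk), mem_centralizer_iff.2 fun u hu => (hsq k hk u hu).symm⟩) b hb
      have h2 := mem_centralizer_iff.1 h1.2 D.z (D.Hs.Δ_le D.zHs)
      calc b * D.z = x * (x⁻¹ * b * D.z) := by group
        _ = x * (D.z * (x⁻¹ * b)) := by rw [h2]
        _ = (x * D.z) * x⁻¹ * b := by group
        _ = D.z * b := by rw [S_z x hx]; group
    intro u hu
    have h1 : B ≤ centralizer (D.Hs.U : Set G) := by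
      intro b hb
      have h2 : D.Hs.U ≤ centralizer {b} := by
        show closure (Delta (D.r 0) D.z) ≤ _
        rw [closure_le]
        rintro y ⟨h, hh, rfl⟩
        rw [SetLike.mem_coe, mem_centralizer_singleton_iff]
        have h3 := hz _ (hBn h⁻¹ (Subgroup.inv_mem _ (mem_centralizer_singleton_iff.2 hh)) b hb)
        calc h * D.z * h⁻¹ * b = h * (D.z * (h⁻¹ * b * h⁻¹⁻¹)) * h⁻¹ := by group
          _ = b * (h * D.z * h⁻¹) := by rw [← h3]; group
      rw [mem_centralizer_iff]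
      intro u hu
      exact mem_centralizer_singleton_iff.1 (h2 hu)
    exact (mem_centralizer_iff.1 (h1 hb) u hu).symm
  · -- Baer-Suzuki
    intro u hu huQ
    by_contra hcon
    push Not at hcon
    apply huQ
    rw [hQ]
    have hur : u ∈ centralizer {D.r 0} := mem_centralizer_singleton_iff.2 (D.U_r hu)
    have : Fact (Nat.Prime 2) := ⟨Nat.prime_two⟩
    refine ⟨⟨u, hur⟩, Involutions.BaerSuzuki.mem_pCore_of_conj_pairs _ fun g => ?_, rfl⟩
    have huu := D.mul_self hu
    refine isPGroup_pair (Subtype.ext huu) (Subtype.ext ?_) (Subtype.ext ?_)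
    · show (g : G) * u * (g : G)⁻¹ * ((g : G) * u * (g : G)⁻¹) = 1
      calc (g : G) * u * (g : G)⁻¹ * ((g : G) * u * (g : G)⁻¹) = g * (u * u) * (g : G)⁻¹ := by group
        _ = 1 := by rw [huu]; group
    · exact hcon g (mem_centralizer_singleton_iff.1 g.2)
  · -- `⟨r^{C(f)}⟩` is abelian
    intro f hf hf1 hfS
    have hr0 : D.r 0 ∈ (S : Subgroup G) := hQS (D.r_Q 0 0)
    have hSf : (S : Subgroup G) ≤ centralizer {f} := fun s hs => mem_centralizer_singleton_iff.2 (hfS s hs)
    have hO := HTwo.Par.O2_le_sylow S hSf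
    have hrO : D.r 0 ∈ O2 (centralizer {f}) := by
      refine hC f hf1 hf (fun s hs => (hfS s hs).symm) (mem_inf.2 ⟨hSf hr0, mem_centralizer_iff.2 ?_⟩)
      intro s hs
      exact S_r s (hO hs)
    have hn := le_normalizer_O2 (centralizer {f})
    have hle : gen f (D.r 0) ≤ O2 (centralizer {f}) ⊓ centralizer (O2 (centralizer {f}) : Set G) := by
      unfold gen
      rw [closure_le]
      rintro x ⟨m, hm, rfl⟩
      have hmf := mem_centralizer_singleton_iff.2 hm
      refine mem_inf.2 ⟨conj_mem_of_normalizer (hn hmf) hrO, mem_centralizer_iff.2 ?_⟩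
      intro y hy
      have h1 := conj_mem_of_normalizer (Subgroup.inv_mem _ (hn hmf)) hy
      have h2 := S_r _ (hO h1)
      calc y * (m * D.r 0 * m⁻¹) = m * ((m⁻¹ * y * m⁻¹⁻¹) * D.r 0) * m⁻¹ := by group
        _ = m * D.r 0 * m⁻¹ * y := by rw [h2]; group
    intro x hx y hy
    exact (mem_centralizer_iff.1 (hle hy).2 x (hle hx).1)

end TS

end Cfsg.Agent.Omega.HOneTwo.Trans
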