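import Cfsg.Agent.Omega.HOneTwo.EndM
import Cfsg.Agent.Omega.HTwo.EightPos

/-!
# II.0h1, `q = 2`, F4-type: `FF` from the position `Pos`, `TSz` and `|N_r| ≠ 8`

* `TSPos.ff_of : TS.FF (ts p h) S`.
-/

set_option autoImplicit false
set_option linter.unusedSectionVars false

namespace Cfsg.Agent.Omega.HTwo.TSPos

open Subgroup Cfsg Cfsg.Agent.ZN Cfsg.Agent.Omega.MinPar
open Cfsg.Agent.Omega.BTwo Cfsg.Agent.Omega.HOneTwo Cfsg.Agent.Omega.HTwo.Hat
open Cfsg.Agent.Omega.HTwo.Entry (Pos)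
open Cfsg.Agent.Omega.HTwo.AlphaP (MP)
open Cfsg.Agent.Omega.HOne.Cut (TSz)
open Cfsg.Agent.Omega.HOneTwo.Trans

universe u v

variable {G : Type u} [Group G] [Finite G] {S : Sylow 2 G} {P V : Subgroup G} {ι : Type v}
  {R : ι → Subgroup G} {o : ι} {r z : G}

section

variable (p : Pos S P V R o r z)
include p

/-- `S` fixes or swaps `r 1`, `r 2` -/
theorem S_V_or (h : TSz V R o r z) {s : G} (hs : s ∈ (S : Subgroup G)) :
    s * (ts p h).r 1 * s⁻¹ = (ts p h).r 1 ∨ s * (ts p h).r 1 * s⁻¹ = (ts p h).r 2 := by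
  have h1 := AlphaOne.comm_mem_R p.toHT (p.S_V hs) (p.S_R hs) (gg_V p (rho p 1))
  have e1 : (ts p h).r 1 = gg p (rho p 1) := rfl
  have e2 : (ts p h).r 2 = gg p (rho p 2) := rfl
  have e3 := gg_prod p (rho_ne p (i := 0) (j := 1) (by decide)) (rho_ne p (i := 0) (j := 2) (by decide))
    (rho_ne p (i := 1) (j := 2) (by decide))
  rw [rho_zero, gg_o] at e3
  rw [e1, e2]
  rcases (p.r_iff _).1 h1 with h2 | h2
  · left
    exact mul_inv_eq_one.1 h2
  · right
    rw [mul_inv_eq_iff_eq_mul] at h2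
    rw [h2]
    exact mul_eq_one_iff_eq_inv.1 e3 |>.trans (inv_eq_of_mul_eq_one_left (gg_sq p _))

/-- **`FF`** -/
theorem ff_of (h : TSz V R o r z) (h8 : Nat.card (gen r z) ≠ 8) : TS.FF (ts p h) S where
  hQ := fun _ => rfl
  F := OM.of_O2 (fun _ => rfl) (by
    intro c hc u hu
    rw [ts_U] at hu
    exact (mem_zc.1 (U_zc p hu)).2.1 c hc) (by
    rw [ts_U]
    exact (U_zc p).trans (zc_le _))
  B := Bz.of_TB (tb p h)
  hk := by
    intro hk
    apply h8
    have h1 := Bz.card_eight hk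
    rw [ts_r, ts_z] at h1
    exact h1
  S_r := fun s hs => by rw [ts_r]; exact S_r p s hs
  S_z := fun s hs => S_z p s hs
  S_V := fun s hs => S_V_or p h hs
  cM := fun g hg hc => char2_M p ⟨hg, (cen_iff p).2 hc⟩
  cz := by
    intro g hg hc
    rw [ts_z] at hg hc ⊢
    exact (p.isLoc_cen (z_zc p) p.z_ne).char2 S p.char2 ⟨mem_centralizer_singleton_iff.2 hg, (cen_iff p).2 hc⟩

end

end Cfsg.Agent.Omega.HTwo.TSPos
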