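import Cfsg.Agent.Omega.HOne.TvHSide
import Cfsg.Agent.Omega.HTwo.Entry

/-!
# II.0h1, `q = 2`: the BS-trick ((E) of helper202's #17185, helper766's #17168, helper699's #17406)

* `exists_conj` : Baer-Suzuki for an involution `u` of `H` acting on `NN` with `O₂(H/C_H(NN)) = 1`:
  some conjugate `h u h⁻¹` (`h ∈ H`) is with `u` in no common 2-group;
* `eq_of` : abstract form of `c₀ = z`;
* `eq_z` : `TvH M r t Q N`, `JConst M r t Q N c`, `JEnd M r Q N c`, `S ≤ M ≤ C(z)`, `z ∈ Z₀`,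
  `N r = ⟨Z₀^{C(r)}⟩`, `G` of characteristic 2 type: `c = z`.
-/

set_option autoImplicit false

namespace Cfsg.Agent.Omega.HOneTwo.BSTrick

open Subgroup Cfsg Cfsg.Agent.ZN Cfsg.Agent.Omega.MinPar
open Cfsg.Agent.MinSimple.VModule (zc_le_zl o2_isPGroup)
open Cfsg.Agent.Omega.HOne.TvDef
open Cfsg.Agent.Omega.HOne.TvHSide (le_normalizer_of le_normalizer_inf_centralizer red_of)

universe u

variable {G : Type u} [Group G] [Finite G]

/-- **Baer-Suzuki for an involution of `H` acting on `NN`** -/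
theorem exists_conj {H NN : Subgroup G} (hNH : H ≤ normalizer (NN : Set G))
    (hred : ∀ K : Subgroup G, K ≤ H → H ≤ normalizer (K : Set G) →
      (∀ x ∈ K, ∃ k : ℕ, x ^ 2 ^ k ∈ centralizer (NN : Set G)) → K ≤ centralizer (NN : Set G))
    {u : G} (hu : u ∈ H) (huu : u * u = 1) (hun : u ∉ centralizer (NN : Set G)) :
    ∃ h ∈ H, ∀ T : Subgroup G, IsPGroup 2 T → u ∈ T → h * u * h⁻¹ ∈ T → False := by
  have hCH := le_normalizer_inf_centralizer hNH
  set C : Subgroup G := H ⊓ centralizer (NN : Set G) with hC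
  have hn : (C.subgroupOf H).Normal := normal_subgroupOf_of_le_normalizer hCH
  set f := QuotientGroup.mk' (C.subgroupOf H) with hf
  have hf1 : ∀ y : H, f y = 1 → (y : G) ∈ C := by
    intro y hy
    exact (QuotientGroup.eq_one_iff (N := C.subgroupOf H) y).1 hy
  set a := f ⟨u, hu⟩ with ha
  have haa : a * a = 1 := by
    rw [ha, ← map_mul]
    have : (⟨u, hu⟩ : H) * ⟨u, hu⟩ = 1 := Subtype.ext huu
    rw [this, map_one]
  obtain ⟨g, hg1, hgo, hgi⟩ := Involutions.BaerSuzuki.exists_odd_inverted a haa (by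
    intro h1
    have h2 := hred (((normalClosure {a}).comap f).map H.subtype) (map_subtype_le _) ?_ ?_
    · have h3 : u ∈ ((normalClosure {a}).comap f).map H.subtype :=
        ⟨⟨u, hu⟩, subset_normalClosure rfl, rfl⟩
      exact hun (h2 h3)
    · refine le_normalizer_of ?_
      rintro x hx _ ⟨y, hy, rfl⟩
      refine ⟨⟨x, hx⟩ * y * ⟨x, hx⟩⁻¹, ?_, rfl⟩
      change f _ ∈ normalClosure {a}
      rw [map_mul, map_mul, map_inv]
      exact normalClosure_normal.conj_mem _ hy _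
    · rintro _ ⟨y, hy, rfl⟩
      obtain ⟨k, hk⟩ := h1 ⟨f y, hy⟩
      refine ⟨k, ?_⟩
      have h2 : f (y ^ 2 ^ k) = 1 := by
        rw [map_pow]
        exact congrArg Subtype.val hk
      exact (hf1 _ h2).2)
  obtain ⟨⟨h, hh⟩, rfl⟩ := QuotientGroup.mk'_surjective (C.subgroupOf H) g
  refine ⟨h, hh, fun T hT hT1 hT2 => hg1 ?_⟩
  have hainv : a⁻¹ = a := inv_eq_of_mul_eq_one_left haa
  obtain ⟨k, hk⟩ := hT ⟨u * (h * u * h⁻¹), T.mul_mem hT1 hT2⟩
  have hk' : (u * (h * u * h⁻¹)) ^ 2 ^ k = 1 := congrArg Subtype.val hk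
  have h3 : f ((⟨u, hu⟩ : H) * (⟨h, hh⟩ * ⟨u, hu⟩ * ⟨h, hh⟩⁻¹)) = (f ⟨h, hh⟩)⁻¹ ^ 2 := by
    rw [map_mul, map_mul, map_mul, map_inv, ← ha]
    change a * (f ⟨h, hh⟩ * a * (f ⟨h, hh⟩)⁻¹) = _
    calc a * (f ⟨h, hh⟩ * a * (f ⟨h, hh⟩)⁻¹) = a * f ⟨h, hh⟩ * a * (f ⟨h, hh⟩)⁻¹ := by group
      _ = a * f ⟨h, hh⟩ * a⁻¹ * (f ⟨h, hh⟩)⁻¹ := by rw [hainv]
      _ = (f ⟨h, hh⟩)⁻¹ * (f ⟨h, hh⟩)⁻¹ := by rw [hgi]
      _ = _ := by rw [sq]
  have h4 : ((⟨u, hu⟩ : H) * (⟨h, hh⟩ * ⟨u, hu⟩ * ⟨h, hh⟩⁻¹)) ^ 2 ^ k = 1 := Subtype.ext hk'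
  have h5 : (f ⟨h, hh⟩) ^ 2 ^ (k + 1) = 1 := by
    have := congrArg f h4
    rw [map_pow, h3, map_one, ← pow_mul, inv_pow, inv_eq_one] at this
    rw [pow_succ, mul_comm]
    exact this
  have h6 : orderOf (f ⟨h, hh⟩) ∣ 2 ^ (k + 1) := orderOf_dvd_of_pow_eq_one h5
  have h7 : Nat.Coprime (orderOf (f ⟨h, hh⟩)) (2 ^ (k + 1)) :=
    Nat.Coprime.pow_right _ (Nat.coprime_two_right.2 hgo)
  exact orderOf_eq_one_iff.1 (h7.eq_one_of_dvd h6)

variable {M : Subgroup G} {r t z c : G} {Q N : G → Subgroup G}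

omit [Finite G] in
theorem le_normalizer_N (h : TvH M r t Q N) :
    centralizer ({r} : Set G) ≤ normalizer (N r : Set G) := by
  refine le_normalizer_of fun x hx n hn => ?_
  have h1 := h.Nc x r n hn
  rw [mem_centralizer_singleton_iff] at hx
  have e : x * r * x⁻¹ = r := by
    rw [mul_inv_eq_iff_eq_mul]
    exact hx
  rwa [e] at h1

omit [Finite G] in
/-- two elements in a 2-group, the second normalising -/
theorem common {A : Subgroup G} {u w f : G} (hA : IsPGroup 2 A) (hu : u ∈ A) (hww : w * w = 1)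
    (hAn : ∀ x, x * f = f * x → ∀ a ∈ A, x * a * x⁻¹ ∈ A) (hw : w * f = f * w) :
    ∃ T : Subgroup G, IsPGroup 2 T ∧ u ∈ T ∧ w ∈ T := by
  have h1 : zpowers w ≤ normalizer (A : Set G) := by
    rw [zpowers_le, mem_normalizer_iff]
    intro x
    refine ⟨fun hx => hAn w hw x hx, fun hx => ?_⟩
    have hwi : w⁻¹ = w := inv_eq_of_mul_eq_one_left hww
    have h2 := hAn w hw _ hx
    have e : w * (w * x * w⁻¹) * w⁻¹ = (w * w) * x * (w⁻¹ * w⁻¹) := by group
    rw [e, hwi, hww, one_mul, mul_one] at h2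
    exact h2
  have h2 : IsPGroup 2 (zpowers w) := MinSimple.Basic.isPGroup_zpowers (by rw [sq]; exact hww)
  refine ⟨zpowers w ⊔ A, IsPGroup.to_sup_of_normal_right' h2 hA h1, mem_sup_right hu,
    mem_sup_left (mem_zpowers w)⟩

/-- **the BS-trick, abstract form** -/
theorem eq_of (h : TvH M r t Q N) (hc : JConst M r t Q N c) (hE : JEnd M r Q N c)
    (hred : ∀ K : Subgroup G, K ≤ centralizer ({r} : Set G) →
      centralizer ({r} : Set G) ≤ normalizer (K : Set G) →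
      (∀ x ∈ K, ∃ k : ℕ, x ^ 2 ^ k ∈ centralizer (N r : Set G)) → K ≤ centralizer (N r : Set G))
    (hzN : z ∈ N r) (hz1 : z ≠ 1) (hzz : z * z = 1) (hMz : ∀ m ∈ M, m * z = z * m)
    (hA : ∀ f, f * f = 1 → f ≠ 1 → (∀ m ∈ M, m * f = f * m) →
      ∃ A : Subgroup G, IsPGroup 2 A ∧ UU M r ≤ A ∧ ∀ x, x * f = f * x → ∀ a ∈ A, x * a * x⁻¹ ∈ A) :
    c = z := by
  by_contra hcz
  obtain ⟨hc1, hcU, hcZ, hMc, -⟩ := hc
  have hM : ∀ s ∈ UU M r, s ∈ M := by
    have : UU M r ≤ M := by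
      unfold UU
      rw [closure_le]
      rintro _ ⟨m, hm, rfl⟩
      exact M.mul_mem (M.mul_mem hm (h.Q_le h.r_mem)) (M.inv_mem hm)
    exact this
  obtain ⟨u, hu, huQ⟩ := h.beta
  have huu : u * u = 1 := h.UU_sq hu
  have hrU : r ∈ UU M r := Om_le_UU Om_base
  have hur : u ∈ centralizer ({r} : Set G) := by
    rw [mem_centralizer_singleton_iff]
    exact h.UU_comm hu hrU
  have hun : u ∉ centralizer (N r : Set G) := by
    intro h1
    exact huQ (h.UN u hu fun n hn => (mem_centralizer_iff.1 h1 n hn).symm)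
  obtain ⟨g, hg, hgT⟩ := exists_conj (le_normalizer_N h) hred hur huu hun
  set w := g * u * g⁻¹ with hw
  have hww : w * w = 1 := by
    calc w * w = g * (u * u) * g⁻¹ := by rw [hw]; group
      _ = 1 := by rw [huu]; group
  rw [mem_centralizer_singleton_iff] at hg
  have hgr' : g⁻¹ * r = r * g⁻¹ := by
    calc g⁻¹ * r = g⁻¹ * (r * g) * g⁻¹ := by group
      _ = g⁻¹ * (g * r) * g⁻¹ := by rw [hg]
      _ = _ := by group
  rw [mem_centralizer_singleton_iff] at hur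
  have hwr : w * r = r * w := by
    calc w * r = g * u * (g⁻¹ * r) := by rw [hw]; group
      _ = g * (u * r) * g⁻¹ := by rw [hgr']; group
      _ = (g * r) * u * g⁻¹ := by rw [hur]; group
      _ = _ := by rw [hg, hw]; group
  -- no admissible `f` commutes with `w`
  have key : ∀ f, f * f = 1 → f ≠ 1 → (∀ m ∈ M, m * f = f * m) → w * f ≠ f * w := by
    intro f hf hf1 hfM hwf
    obtain ⟨A, hA1, hA2, hA3⟩ := hA f hf hf1 hfM
    obtain ⟨T, hT, hT1, hT2⟩ := common hA1 (hA2 hu) hww hA3 hwf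
    exact hgT T hT hT1 hT2
  have hNg : ∀ n ∈ N r, g⁻¹ * n * g ∈ N r := by
    intro n hn
    have h1 := h.Nc g⁻¹ r n hn
    have e : g⁻¹ * r * g⁻¹⁻¹ = r := by rw [hgr']; group
    rw [e, inv_inv] at h1
    exact h1
  -- the index of the centraliser of `w`
  have hidx : ∀ m ∈ N r, ∀ n ∈ N r, w * m ≠ m * w → w * n ≠ n * w → w * (m * n) = m * n * w := by
    intro m hm n hn h1 h2
    have mv : ∀ x ∈ N r, w * x ≠ x * w → ∃ v ∈ UU M r, v * (g⁻¹ * x * g) ≠ (g⁻¹ * x * g) * v := by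
      intro x _ hx
      refine ⟨u, hu, fun h3 => hx ?_⟩
      calc w * x = g * (u * (g⁻¹ * x * g)) * g⁻¹ := by rw [hw]; group
        _ = g * ((g⁻¹ * x * g) * u) * g⁻¹ := by rw [h3]
        _ = _ := by rw [hw]; group
    have h3 := hE.2.2 _ (hNg m hm) _ (hNg n hn) (mv m hm h1) (mv n hn h2) u hu
    calc w * (m * n) = g * (u * ((g⁻¹ * m * g) * (g⁻¹ * n * g))) * g⁻¹ := by rw [hw]; group
      _ = g * ((g⁻¹ * m * g) * (g⁻¹ * n * g) * u) * g⁻¹ := by rw [h3]
      _ = _ := by rw [hw]; group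
  -- `r c ∈ N r`
  have hrc : r * c ∈ N r := by
    rw [mem_centralizer_iff] at hun
    push Not at hun
    obtain ⟨n, hn, h1⟩ := hun
    have h2 : u * n * u⁻¹ * n⁻¹ = r * c := by
      rcases hE.1 u hu n hn with h2 | h2
      · exfalso
        apply h1
        have : u * n = n * u := by
          have h3 : u * n * u⁻¹ * n⁻¹ * (n * u) = 1 * (n * u) := by rw [h2]
          simpa [mul_assoc] using h3
        exact this.symm
      · exact h2
    rw [← h2]
    refine mul_mem ?_ (inv_mem hn)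
    have h3 := h.Nc u r n hn
    have e : u * r * u⁻¹ = r := by rw [hur]; group
    rwa [e] at h3
  have hcc : c * c = 1 := h.UU_sq hcU
  have hcr : c * r = r * c := h.UU_comm hcU hrU
  have hcm : c ∈ M := hM c hcU
  have hzc : z * c = c * z := (hMz c hcm).symm
  have h1 : w * z ≠ z * w := key z hzz hz1 hMz
  have h2 : w * c ≠ c * w := key c hcc hc1 hMc
  have h3 : w * (r * c) ≠ r * c * w := by
    intro h4
    apply h2
    have h5 : r * (w * c) = r * (c * w) := by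
      rw [← mul_assoc, ← hwr, mul_assoc, h4, mul_assoc]
    exact mul_left_cancel h5
  have h4 := hidx z hzN (r * c) hrc h1 h3
  -- `w` commutes with `z c`
  have hrz : r * z = z * r := hMz r (h.Q_le h.r_mem)
  have h5 : w * (z * c) = z * c * w := by
    have e1 : z * (r * c) = r * (z * c) := by rw [← mul_assoc, ← hrz, mul_assoc]
    rw [e1] at h4
    have h6 : r * (w * (z * c)) = r * (z * c * w) := by
      rw [← mul_assoc, ← hwr, mul_assoc, h4, mul_assoc]
    exact mul_left_cancel h6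
  refine key (z * c) ?_ ?_ ?_ h5
  · calc z * c * (z * c) = z * (c * z) * c := by group
      _ = z * (z * c) * c := by rw [hzc]
      _ = (z * z) * (c * c) := by group
      _ = 1 := by rw [hzz, hcc, one_mul]
  · intro h6
    apply hcz
    have h7 : z * (z * c) = z * 1 := by rw [h6]
    rw [← mul_assoc, hzz, one_mul, mul_one] at h7
    exact h7
  · intro m hm
    rw [← mul_assoc, hMz m hm, mul_assoc, hMc m hm, mul_assoc]

/-- the groups `A_f = ⟨Ω₁Z(S)^{C(f)}⟩` -/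
theorem exists_A (S : Sylow 2 G) (hG : IsCharacteristicTwoType G) (hSM : (S : Subgroup G) ≤ M)
    (hr : r ∈ zc (S : Subgroup G)) {f : G} (hff : f * f = 1) (hf1 : f ≠ 1)
    (hMf : ∀ m ∈ M, m * f = f * m) :
    ∃ A : Subgroup G, IsPGroup 2 A ∧ UU M r ≤ A ∧ ∀ x, x * f = f * x → ∀ a ∈ A, x * a * x⁻¹ ∈ A := by
  have hM : M ≤ centralizer ({f} : Set G) := by
    intro m hm
    rw [mem_centralizer_singleton_iff]
    exact hMf m hm
  have hloc : IsLoc (S : Subgroup G) (centralizer ({f} : Set G)) :=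
    isLoc_centralizer S (by rw [sq]; exact hff) hf1 (hSM.trans hM)
  refine ⟨zl (S : Subgroup G) (centralizer ({f} : Set G)), ?_, ?_, ?_⟩
  · exact (o2_isPGroup _).to_le ((hloc.zl_le S hG).trans (zc_le _))
  · unfold UU
    rw [closure_le]
    rintro _ ⟨m, hm, rfl⟩
    exact (mem_normalizer_iff.1 (le_normalizer_zl _ _ (hM hm)) r).1 (zc_le_zl _ _ hr)
  · intro x hx a ha
    exact (mem_normalizer_iff.1 (le_normalizer_zl _ _ ((mem_centralizer_singleton_iff).2 hx)) a).1 ha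

/-- **(E): `c₀ = z`.** -/
theorem eq_z (S : Sylow 2 G) (hG : IsCharacteristicTwoType G) (h : TvH M r t Q N)
    (hc : JConst M r t Q N c) (hE : JEnd M r Q N c) {Z₀ : Set G} (hSM : (S : Subgroup G) ≤ M)
    (hr : r ∈ zc (S : Subgroup G)) (hZS : ∀ x ∈ (S : Subgroup G), ∀ y ∈ Z₀, x * y = y * x)
    (hZN : Z₀ ⊆ N r)
    (hNN : N r ≤ closure {x | ∃ g ∈ centralizer ({r} : Set G), ∃ y ∈ Z₀, g * y * g⁻¹ = x})
    (hz : z ∈ Z₀) (hz1 : z ≠ 1) (hzz : z * z = 1) (hMz : ∀ m ∈ M, m * z = z * m) : c = z := by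
  have hSr : (S : Subgroup G) ≤ centralizer ({r} : Set G) := by
    intro x hx
    rw [mem_centralizer_singleton_iff]
    exact ((mem_zc.1 hr).2.1 x hx)
  exact eq_of h hc hE (red_of hSr S.isPGroup' (MinSimple.Basic.not_dvd_relIndex S hSr) hZS
    (le_normalizer_N h) hZN hNN) (hZN hz) hz1 hzz hMz
    fun f hff hf1 hMf => exists_A S hG hSM hr hff hf1 hMf

/-- **(E) in the position `Pos`, `N r = ⟨z^{C(r)}⟩`.** -/
theorem Pos.eq_z {S : Sylow 2 G} {P V : Subgroup G} {ι : Type*} {R : ι → Subgroup G} {o : ι}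
    (p : HTwo.Entry.Pos S P V R o r z) (h : TvH M r t Q N)
    (hc : JConst M r t Q N c) (hE : JEnd M r Q N c) (hSM : (S : Subgroup G) ≤ M)
    (hMz : M ≤ centralizer ({z} : Set G)) (hzN : z ∈ N r)
    (hNN : N r ≤ closure {x | ∃ g ∈ centralizer ({r} : Set G), g * z * g⁻¹ = x}) : c = z := by
  have hSr : (S : Subgroup G) ≤ centralizer ({r} : Set G) := by
    rw [← p.normalizer_eq]
    exact p.S_R
  have hrS : r ∈ zc (S : Subgroup G) := by
    rw [mem_zc]
    have hrS' : r ∈ (S : Subgroup G) := p.toHT.V_le_S (p.toHT.R_le o p.r_mem)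
    exact ⟨hrS', fun s hs => mem_centralizer_singleton_iff.1 (hSr hs), by rw [sq]; exact p.r_sq⟩
  refine BSTrick.eq_z S p.char2 h hc hE (Z₀ := {z}) hSM hrS ?_ ?_ ?_ rfl p.z_ne p.z_sq ?_
  · rintro x hx _ rfl
    exact (mem_zc.1 p.z_mem.1).2.1 x hx
  · rintro _ rfl
    exact hzN
  · refine hNN.trans (closure_mono ?_)
    rintro x ⟨g, hg, e⟩
    exact ⟨g, hg, z, rfl, e⟩
  · intro m hm
    exact mem_centralizer_singleton_iff.1 (hMz hm)

/-- `JEnd` for the constant `z` -/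
theorem Pos.jend {S : Sylow 2 G} {P V : Subgroup G} {ι : Type*} {R : ι → Subgroup G} {o : ι}
    (p : HTwo.Entry.Pos S P V R o r z) (h : TvH M r t Q N)
    (hm : ∃ c, JConst M r t Q N c ∧ JEnd M r Q N c) (hSM : (S : Subgroup G) ≤ M)
    (hMz : M ≤ centralizer ({z} : Set G)) (hzN : z ∈ N r)
    (hNN : N r ≤ closure {x | ∃ g ∈ centralizer ({r} : Set G), g * z * g⁻¹ = x}) :
    JEnd M r Q N z := by
  obtain ⟨c, hc, hE⟩ := hm
  rw [← Pos.eq_z p h hc hE hSM hMz hzN hNN]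
  exact hE

end Cfsg.Agent.Omega.HOneTwo.BSTrick
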