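import Cfsg.Agent.Omega.BTwo.Cen
import Cfsg.Agent.Omega.MinPar

/-!
# II.0h1, `q = 2`: the situation, (0) and (4) of #12123

`HT S P V R o`: `b = 2` (`BT V R`), points of order 2, `G` of characteristic 2 type, `S` a Sylow 2-subgroup in
`P ∩ N(V) ∩ N(R o)`, `P ≤ N(V)` transitive on the points, `[Ω₁(Z(S)), P] ≤ V`.

* `HT.nonloc` (0): no 2-subgroup `≠ 1` is normalised by `P` and `N(R i)`; `HT.cenQ`;
* `HT.zc_eq` (4): `Ω₁(Z(S)) = R o × C_Z(P)`, `HT.cz_eq`: `C_Z(P) = Z ∩ C(X)`;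
* `HT.o2_le_cen`: `O₂(M)` centralises `V` for `M ≥ S, X` local; `HT.cl_le_zc`: `⟨(R o)^M⟩ ≤ Ω₁(Z(O₂(M)))`;
* `HT.cl_z_le`: `⟨z^{N(R o)}⟩ ≤ Ω₁(Z(O₂(N(R o)))) ∩ C(W o)` for `z ∈ C_Z(P)`; `HT.exists_conj_ne`.
-/

set_option autoImplicit false
set_option linter.unusedSectionVars false

namespace Cfsg.Agent.Omega.HOneTwo

open Subgroup Cfsg Cfsg.Agent.ZN Cfsg.Agent.MinSimple.VModule Cfsg.Agent.Omega.BTwo
open Cfsg.Agent.Omega.MinPar

universe u

variable {G : Type u} [Group G] {ι : Type*}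

/-- the situation of II.0h1 for `q = 2` -/
structure HT (S : Sylow 2 G) (P V : Subgroup G) (R : ι → Subgroup G) (o : ι) : Prop extends BT V R where
  card_R : ∀ i, Nat.card (R i) = 2
  char2 : IsCharacteristicTwoType G
  S_V : (S : Subgroup G) ≤ normalizer (V : Set G)
  S_R : (S : Subgroup G) ≤ normalizer (R o : Set G)
  S_P : (S : Subgroup G) ≤ P
  P_V : P ≤ normalizer (V : Set G)
  P_trans : ∀ i, ∃ x ∈ P, cj x (R o) = R i
  P_Z : ∀ x ∈ P, ∀ z ∈ zc (S : Subgroup G), x * z * x⁻¹ * z⁻¹ ∈ V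

/-! ### normal closures `⟨A^M⟩` -/

/-- `⟨A^M⟩` -/
def cl (A M : Subgroup G) : Subgroup G := ⨆ m : M, cj (m : G) A

theorem cj_le_cl {A M : Subgroup G} {m : G} (hm : m ∈ M) : cj m A ≤ cl A M :=
  le_iSup (fun m : M => cj (m : G) A) ⟨m, hm⟩

theorem le_cl (A M : Subgroup G) : A ≤ cl A M := by
  have := cj_le_cl (A := A) (one_mem M)
  rwa [cj_one] at this

theorem le_normalizer_cl (A M : Subgroup G) : M ≤ normalizer (cl A M : Set G) := by
  intro g hg
  rw [← cj_eq_self_iff]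
  apply le_antisymm
  · rw [cl, cj_iSup]
    refine iSup_le fun h => ?_
    rw [← cj_mul]
    exact cj_le_cl (mul_mem hg h.2)
  · rw [cl]
    refine iSup_le fun h => ?_
    have := cj_mono (g := g) (cj_le_cl (A := A) (mul_mem (inv_mem hg) h.2))
    rwa [cj_mul, cj_cj_inv] at this

theorem cl_le {A M B : Subgroup G} (hA : A ≤ B) (hM : M ≤ normalizer (B : Set G)) : cl A M ≤ B :=
  iSup_le fun m => by
    have h1 := cj_mono (g := (m : G)) hA
    rwa [cj_eq_self_iff.2 (hM m.2)] at h1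

theorem WW_eq_cl (V R : Subgroup G) : WW V R = cl V (normalizer (R : Set G)) := rfl

/-! ### groups of order 2 -/

section two

variable {S : Sylow 2 G} {P V : Subgroup G} {R : ι → Subgroup G} {o : ι}

theorem eq_of_card_two {A : Subgroup G} (hA : Nat.card A = 2) {a x : G} (ha : a ∈ A) (ha1 : a ≠ 1)
    (hx : x ∈ A) (hx1 : x ≠ 1) : x = a := by
  obtain ⟨y, -, hy⟩ := (Nat.card_eq_two_iff' (1 : A)).1 hA
  have h1 := hy ⟨a, ha⟩ (fun h => ha1 (congrArg Subtype.val h))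
  have h2 := hy ⟨x, hx⟩ (fun h => hx1 (congrArg Subtype.val h))
  exact congrArg Subtype.val (h2.trans h1.symm)

theorem normalizer_le_cen_of_card {A : Subgroup G} (hA : Nat.card A = 2) :
    normalizer (A : Set G) ≤ centralizer (A : Set G) := by
  intro g hg
  rw [mem_centralizer_iff]
  intro a ha
  by_cases ha1 : a = 1
  · rw [ha1, one_mul, mul_one]
  have h1 : g * a * g⁻¹ ∈ A := conj_mem_of_normalizer hg ha
  have h2 : g * a * g⁻¹ ≠ 1 := fun h => ha1 (conj_eq_one_iff.1 h)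
  have h3 : g * a * g⁻¹ = a := eq_of_card_two hA ha ha1 h1 h2
  rw [mul_inv_eq_iff_eq_mul] at h3
  exact h3.symm

variable (b : HT S P V R o)
include b

/-- the nontrivial element of a point -/
theorem HT.exists_gen (i : ι) : ∃ r, r ≠ 1 ∧ r * r = 1 ∧ ∀ x, x ∈ R i ↔ x = 1 ∨ x = r := by
  obtain ⟨r, hr, hr1⟩ := b.exists_ne i
  refine ⟨r, hr1, b.V_sq r (b.R_le i hr), fun x => ⟨fun hx => ?_, ?_⟩⟩
  · by_contra hc
    push Not at hc
    exact hc.2 (eq_of_card_two (b.card_R i) hr hr1 hx hc.1)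
  · rintro (rfl | rfl)
    · exact one_mem _
    · exact hr

/-- an element normalising all the points centralises `V` -/
theorem HT.cen_of_norm {g : G} (h : ∀ i, g ∈ normalizer (R i : Set G)) : g ∈ centralizer (V : Set G) := by
  obtain ⟨i, j, hij⟩ := b.exists_pair
  rw [← b.R_sup i j hij]
  exact mem_cen_sup (normalizer_le_cen_of_card (b.card_R i) (h i))
    (normalizer_le_cen_of_card (b.card_R j) (h j))

theorem HT.cen_of_norm_two {i j : ι} (hij : i ≠ j) {g : G} (hi : g ∈ normalizer (R i : Set G))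
    (hj : g ∈ normalizer (R j : Set G)) : g ∈ centralizer (V : Set G) := by
  rw [← b.R_sup i j hij]
  exact mem_cen_sup (normalizer_le_cen_of_card (b.card_R i) hi)
    (normalizer_le_cen_of_card (b.card_R j) hj)

/-- there are three points -/
theorem HT.eq_of_ne {i j k l : ι} (hij : i ≠ j) (hik : i ≠ k) (hjk : j ≠ k) : l = i ∨ l = j ∨ l = k := by
  by_contra hc
  push Not at hc
  obtain ⟨hli, hlj, hlk⟩ := hc
  obtain ⟨ri, hi1, hi2, hi⟩ := b.exists_gen i
  obtain ⟨rj, hj1, hj2, hj⟩ := b.exists_gen j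
  -- the elements of `V` are `1, ri, rj, ri rj`
  have hV : ∀ v ∈ V, v ∈ R i ∨ v ∈ R j ∨ v = ri * rj := by
    intro v hv
    obtain ⟨a, ha, c, hc, rfl⟩ := b.exists_mul hij hv
    rcases (hi a).1 ha with rfl | rfl
    · rw [one_mul]; exact Or.inr (Or.inl hc)
    · rcases (hj c).1 hc with rfl | rfl
      · rw [mul_one]; exact Or.inl ha
      · exact Or.inr (Or.inr rfl)
  have key : ∀ m, m ≠ i → m ≠ j → ri * rj ∈ R m := by
    intro m hmi hmj
    obtain ⟨x, hx, hx1⟩ := b.exists_ne m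
    rcases hV x (b.R_le m hx) with h | h | h
    · exact absurd (b.eq_one hmi hx h) hx1
    · exact absurd (b.eq_one hmj hx h) hx1
    · rwa [h] at hx
  have h1 := b.eq_one hlk (key l hli hlj) (key k (Ne.symm hik) (Ne.symm hjk))
  have h2 : ri = rj := by
    rw [mul_eq_one_iff_eq_inv, b.inv_eq (b.R_le j ((hj rj).2 (Or.inr rfl)))] at h1
    exact h1
  exact hi1 (b.eq_one hij ((hi ri).2 (Or.inr rfl)) (by rw [h2]; exact (hj rj).2 (Or.inr rfl)))

theorem HT.one_lt : ∃ j k : ι, j ≠ o ∧ k ≠ o ∧ j ≠ k := by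
  obtain ⟨j, hj, -⟩ := b.third o o
  obtain ⟨k, hk, hk'⟩ := b.third o j
  exact ⟨j, k, hj, hk, Ne.symm hk'⟩

theorem HT.S_ne : (S : Subgroup G) ≠ ⊥ := by
  intro h
  have h1 : IsPGroup 2 (R o) := by
    intro x
    refine ⟨1, ?_⟩
    rw [pow_one, pow_two]
    exact Subtype.ext (b.V_sq _ (b.R_le o x.2))
  have h2 := le_of_le_normalizer S h1 b.S_R
  rw [h] at h2
  exact b.R_ne o (le_bot_iff.1 h2)

variable [Finite G]

theorem HT.isLoc_N : IsLoc (S : Subgroup G) (normalizer (R o : Set G)) :=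
  isLoc_normalizer S (by
    intro x
    refine ⟨1, ?_⟩
    rw [pow_one, pow_two]
    exact Subtype.ext (b.V_sq _ (b.R_le o x.2))) (b.R_ne o) b.S_R

theorem HT.Q_le_S : QQ (R o) ≤ (S : Subgroup G) := b.isLoc_N.o2_le S

theorem HT.W_le_S : WW V (R o) ≤ (S : Subgroup G) := (b.W_le_Q o).trans b.Q_le_S

theorem HT.V_le_S : V ≤ (S : Subgroup G) := (V_le_WW V (R o)).trans b.W_le_S

theorem HT.Q_le_P : QQ (R o) ≤ P := b.Q_le_S.trans b.S_P

theorem HT.V_le_P : V ≤ P := b.V_le_S.trans b.S_P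

/-- `W i ≤ P` -/
theorem HT.W_le_P (i : ι) : WW V (R i) ≤ P := by
  obtain ⟨x, hx, e⟩ := b.P_trans i
  rw [← b.cj_WW e, cj_le_iff]
  exact fun w hw => mul_mem (mul_mem hx (b.W_le_S.trans b.S_P hw)) (inv_mem hx)

theorem HT.X_le_P : XX V R ≤ P := iSup_le fun i => b.W_le_P i

/-- `C(Q i) ≤ Q i` in `N(R i)` -/
theorem HT.cenQ (i : ι) : normalizer (R i : Set G) ⊓ centralizer (QQ (R i) : Set G) ≤ QQ (R i) := by
  obtain ⟨x, -, e⟩ := b.P_trans i
  have h1 : normalizer (R o : Set G) ⊓ centralizer (QQ (R o) : Set G) ≤ QQ (R o) :=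
    b.isLoc_N.char2 S b.char2
  have h2 := cj_mono (g := x) h1
  rwa [cj_inf, ← normalizer_cj, ← centralizer_cj, b.cj_QQ e, e] at h2

/-- `O₂(M)` centralises `V` for a local `M ≥ S` transitive on the points -/
theorem HT.o2_le_cen {M : Subgroup G} (hM : IsLoc (S : Subgroup G) M)
    (ht : ∀ i, ∃ x ∈ M, cj x (R o) = R i) : o2 M ≤ centralizer (V : Set G) := by
  have h1 : ∀ i, o2 M ≤ normalizer (R i : Set G) := by
    intro i
    obtain ⟨x, hx, e⟩ := ht i
    have h2 := cj_mono (g := x) ((hM.o2_le S).trans b.S_R)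
    rwa [← normalizer_cj, e, cj_eq_self_iff.2 (le_normalizer_o2 M hx)] at h2
  exact fun g hg => b.cen_of_norm fun i => h1 i hg

theorem HT.V_le_zc_o2 {M : Subgroup G} (hM : IsLoc (S : Subgroup G) M)
    (ht : ∀ i, ∃ x ∈ M, cj x (R o) = R i) : V ≤ zc (o2 M) := by
  have h1 := b.o2_le_cen hM ht
  have h2 : V ≤ o2 M := by
    refine le_trans ?_ (hM.char2 S b.char2)
    exact le_inf (b.V_le_S.trans hM.le) (le_centralizer_iff.1 h1)
  intro v hv
  refine mem_zc.2 ⟨h2 hv, fun c hc => ?_, by rw [pow_two]; exact b.V_sq v hv⟩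
  exact (mem_centralizer_iff.1 (h1 hc) v hv).symm

/-- `V` is not normalised together with ... : a subgroup `T` with `V ≤ C(V^h)`, `h` as in `mt`, is impossible -/
theorem HT.false_of_comm {h : G} (hh : ∀ j k, j ≠ o → k ≠ o → ∃ v ∈ V, cj (h * v * h⁻¹) (R j) = R k)
    (hc : ∀ v ∈ V, h * v * h⁻¹ ∈ centralizer (V : Set G)) : False := by
  obtain ⟨j, k, hj, hk, hjk⟩ := b.one_lt
  obtain ⟨v, hv, e⟩ := hh j k hj hk
  have h1 : cj (h * v * h⁻¹) (R j) = R j := by
    rw [cj_eq_self_iff]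
    exact centralizer_le_normalizer _ (centralizer_le (b.R_le j) (hc v hv))
  exact hjk (b.R_index (h1.symm.trans e))

/-- **(0)** no 2-subgroup `≠ 1` is normalised by `P` (or any overgroup of `S` transitive on the points) and
`N(R o)` -/
theorem HT.nonloc_o {A T : Subgroup G} (hA : ∀ i, ∃ x ∈ A, cj x (R o) = R i) (hT : IsPGroup 2 T)
    (h1 : A ≤ normalizer (T : Set G)) (h2 : normalizer (R o : Set G) ≤ normalizer (T : Set G)) :
    T = ⊥ := by
  by_contra hne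
  have hM : IsLoc (S : Subgroup G) (normalizer (T : Set G)) :=
    isLoc_normalizer S hT hne (b.S_R.trans h2)
  have ht : ∀ i, ∃ x ∈ normalizer (T : Set G), cj x (R o) = R i := by
    intro i
    obtain ⟨x, hx, e⟩ := hA i
    exact ⟨x, h1 hx, e⟩
  obtain ⟨h, hh, H⟩ := b.mt o
  refine b.false_of_comm (h := h) (fun j k hj hk => (H j k hj hk).1) fun v hv => ?_
  apply b.o2_le_cen hM ht
  exact conj_mem_of_normalizer (le_normalizer_o2 _ (h2 hh)) (zc_le _ (b.V_le_zc_o2 hM ht hv))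

/-- **(0)** `P`, `N(R i)` normalise no 2-subgroup `≠ 1` -/
theorem HT.nonloc (i : ι) : NonLoc P (normalizer (R i : Set G)) := by
  intro T hT h1 h2
  obtain ⟨x, hx, e⟩ := b.P_trans i
  refine b.nonloc_o b.P_trans hT h1 ?_
  have h3 := cj_mono (g := x⁻¹) h2
  rwa [← normalizer_cj, ← normalizer_cj, cj_eq_self_iff.2 (h1 (inv_mem hx)), ← e, cj_inv_cj] at h3

/-! ### (4) -/

/-- `C_P(V)` centralises `Ω₁(Z(S))` -/
theorem HT.cen_zc {c z : G} (hc : c ∈ P) (hcV : c ∈ centralizer (V : Set G)) (hz : z ∈ zc (S : Subgroup G)) :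
    c * z = z * c := by
  have hsyl := MinSimple.Basic.not_dvd_relIndex S b.S_P
  -- `[zl, P] ≤ V`
  have hVP : P ≤ normalizer (V : Set G) := b.P_V
  have h1 : zl (S : Subgroup G) P ≤ V ⊔ zc (S : Subgroup G) := by
    refine zl_le le_sup_right ?_
    intro x hx
    rw [← cj_eq_self_iff]
    have key : ∀ x ∈ P, cj x (V ⊔ zc (S : Subgroup G)) ≤ V ⊔ zc (S : Subgroup G) := by
      intro x hx
      rw [cj_sup, cj_eq_self_iff.2 (hVP hx)]
      refine sup_le le_sup_left ?_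
      rw [cj_le_iff]
      intro z hz
      have e : x * z * x⁻¹ = x * z * x⁻¹ * z⁻¹ * z := by group
      rw [e]
      exact mul_mem (mem_sup_left (b.P_Z x hx z hz)) (mem_sup_right hz)
    apply le_antisymm (key x hx)
    have h2 := cj_mono (g := x) (key x⁻¹ (inv_mem hx))
    rwa [cj_cj_inv] at h2
  have hcomm : ∀ v ∈ V, ∀ z ∈ zc (S : Subgroup G), v * z = z * v := fun v hv z hz =>
    (mem_zc.1 hz).2.1 v (b.V_le_S hv)
  -- decomposition of the elements of `V ⊔ Z`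
  have hdec : ∀ w ∈ V ⊔ zc (S : Subgroup G), ∃ v ∈ V, ∃ z ∈ zc (S : Subgroup G), w = v * z := by
    intro w hw
    have h3 : zc (S : Subgroup G) ≤ normalizer (V : Set G) := (zc_le _).trans b.S_V
    rw [← SetLike.mem_coe, coe_mul_of_right_le_normalizer_left _ _ h3] at hw
    obtain ⟨v, hv, z, hz, rfl⟩ := hw
    exact ⟨v, hv, z, hz, rfl⟩
  have hsq : ∀ c ∈ P ⊓ centralizer (V : Set G), ∀ w ∈ V ⊔ zc (S : Subgroup G), c ^ 2 * w = w * c ^ 2 := by
    rintro c ⟨hc, hcV⟩ w hw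
    obtain ⟨v, hv, z, hz, rfl⟩ := hdec w hw
    set f := c * z * c⁻¹ * z⁻¹ with hf
    have hfV : f ∈ V := b.P_Z c hc z hz
    have h2 : c * f = f * c := (mem_centralizer_iff.1 hcV f hfV).symm
    have h3 : c * v = v * c := (mem_centralizer_iff.1 hcV v hv).symm
    have h4 : c * z = f * z * c := by rw [hf]; group
    have h5 : c ^ 2 * z = z * c ^ 2 := by
      calc c ^ 2 * z = c * (c * z) := by rw [pow_two, mul_assoc]
        _ = (c * f) * z * c := by rw [h4]; group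
        _ = f * (c * z) * c := by rw [h2]; group
        _ = (f * f) * z * c ^ 2 := by rw [h4, pow_two]; group
        _ = z * c ^ 2 := by rw [b.V_sq f hfV, one_mul]
    have h6 : c ^ 2 * v = v * c ^ 2 := (show Commute c v from h3).pow_left 2
    calc c ^ 2 * (v * z) = (c ^ 2 * v) * z := by group
      _ = v * (c ^ 2 * z) := by rw [h6]; group
      _ = v * z * c ^ 2 := by rw [h5]; group
  have h7 : P ⊓ centralizer (V : Set G) ≤ centralizer (zl (S : Subgroup G) P : Set G) := by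
    refine MinSimple.Basic.le_centralizer_zl_of_pow b.S_P S.isPGroup' hsyl inf_le_left ?_ ?_
    · intro g hg
      have h8 := normalizer_le_normalizer_centralizer V (hVP hg)
      rw [← cj_eq_self_iff] at h8 ⊢
      rw [cj_inf, h8, cj_of_mem hg]
    · intro x hx
      refine ⟨1, ?_⟩
      rw [pow_one, mem_centralizer_iff]
      exact fun w hw => (hsq x hx w (h1 hw)).symm
  exact (mem_centralizer_iff.1 (h7 ⟨hc, hcV⟩) z (zc_le_zl _ _ hz)).symm

/-- `N_P(R o)` centralises `Ω₁(Z(S))` -/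
theorem HT.norm_zc {c z : G} (hc : c ∈ P) (hcR : c ∈ normalizer (R o : Set G))
    (hz : z ∈ zc (S : Subgroup G)) : c * z = z * c := by
  obtain ⟨j, k, hj, hk, hjk⟩ := b.one_lt
  obtain ⟨l, hl⟩ := b.perm c (b.P_V hc) j
  have hlo : l ≠ o := by
    rintro rfl
    exact hj (b.R_index (cj_injective (hl.trans (cj_eq_self_iff.2 hcR).symm)))
  obtain ⟨w, hw, e⟩ := b.trans o hlo hj
  have h1 : w * c ∈ normalizer (R j : Set G) := by
    rw [← cj_eq_self_iff, cj_mul, hl, e]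
  have h2 : w * c ∈ normalizer (R o : Set G) := mul_mem (b.W_le_N o hw) hcR
  have hwP : w ∈ P := b.W_le_P o hw
  have h3 := b.cen_zc (mul_mem hwP hc) (b.cen_of_norm_two hj h1 h2) hz
  have h4 : w * z = z * w := (mem_zc.1 hz).2.1 w (b.W_le_S hw)
  have h5 : w * (c * z) = w * (z * c) := by
    calc w * (c * z) = w * c * z := by group
      _ = z * (w * c) := h3
      _ = (z * w) * c := by group
      _ = w * (z * c) := by rw [← h4]; group
  exact mul_left_cancel h5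

/-- **(4)** every `z ∈ Ω₁(Z(S))` is the product of an element of `R o` and an element of `C_Z(P)` -/
theorem HT.exists_zc {z : G} (hz : z ∈ zc (S : Subgroup G)) :
    ∃ r ∈ R o, ∃ y ∈ zc (S : Subgroup G) ⊓ centralizer (P : Set G), z = r * y := by
  obtain ⟨j, k, hj, hk, hjk⟩ := b.one_lt
  obtain ⟨x, hx, ex⟩ := b.P_trans j
  obtain ⟨y, hy, ey⟩ := b.P_trans k
  -- the conjugate of `z` by `g ∈ P` depends only on `(R o)^g`
  have hdep : ∀ g ∈ P, ∀ g' ∈ P, cj g (R o) = cj g' (R o) → g * z * g⁻¹ = g' * z * g'⁻¹ := by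
    intro g hg g' hg' h
    have h1 : g'⁻¹ * g ∈ normalizer (R o : Set G) := by
      rw [← cj_eq_self_iff, cj_mul, h, cj_inv_cj]
    have h2 := b.norm_zc (mul_mem (inv_mem hg') hg) h1 hz
    have h3 : g'⁻¹ * g * z * (g'⁻¹ * g)⁻¹ = z := by rw [h2]; group
    calc g * z * g⁻¹ = g' * (g'⁻¹ * g * z * (g'⁻¹ * g)⁻¹) * g'⁻¹ := by group
      _ = g' * z * g'⁻¹ := by rw [h3]
  -- the three conjugates lie in `V z`
  have hV : ∀ g ∈ P, ∃ v ∈ V, g * z * g⁻¹ = v * z := fun g hg =>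
    ⟨_, b.P_Z g hg z hz, by group⟩
  have hzV : ∀ v ∈ V, v * z = z * v := fun v hv => (mem_zc.1 hz).2.1 v (b.V_le_S hv)
  have hz2 : z * z = 1 := by rw [← pow_two]; exact (mem_zc.1 hz).2.2
  have hcm : ∀ g ∈ P, ∀ g' ∈ P, g * z * g⁻¹ * (g' * z * g'⁻¹) = g' * z * g'⁻¹ * (g * z * g⁻¹) := by
    intro g hg g' hg'
    obtain ⟨v, hv, e⟩ := hV g hg
    obtain ⟨v', hv', e'⟩ := hV g' hg'
    rw [e, e']
    calc v * z * (v' * z) = v * (z * v') * z := by group
      _ = v * v' * (z * z) := by rw [← hzV v' hv']; group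
      _ = v' * v * (z * z) := by rw [b.V_comm v hv v' hv']
      _ = v' * (v * z) * z := by group
      _ = v' * (z * v) * z := by rw [hzV v hv]
      _ = v' * z * (v * z) := by group
  set t := z * (x * z * x⁻¹) * (y * z * y⁻¹) with ht
  obtain ⟨v₁, hv₁, e₁⟩ := hV x hx
  obtain ⟨v₂, hv₂, e₂⟩ := hV y hy
  have htv : t = v₁ * v₂ * z := by
    rw [ht, e₁, e₂]
    calc z * (v₁ * z) * (v₂ * z) = (z * v₁) * (z * v₂) * z := by group
      _ = (v₁ * z) * (v₂ * z) * z := by rw [← hzV v₁ hv₁, ← hzV v₂ hv₂]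
      _ = v₁ * (z * v₂) * (z * z) := by group
      _ = v₁ * v₂ * z := by rw [← hzV v₂ hv₂, hz2]; group
  -- `t` is centralised by `P`
  have htP : t ∈ centralizer (P : Set G) := by
    rw [mem_centralizer_iff]
    intro g hg
    have hg : g ∈ P := hg
    suffices h : g * t * g⁻¹ = t by
      rw [mul_inv_eq_iff_eq_mul] at h
      exact h
    have h1 : g * t * g⁻¹ = (g * z * g⁻¹) * ((g * x) * z * (g * x)⁻¹) * ((g * y) * z * (g * y)⁻¹) := by
      rw [ht]; group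
    rw [h1]
    have hgx := mul_mem hg hx
    have hgy := mul_mem hg hy
    -- the points `(R o)^g, (R j)^g, (R k)^g` are all the points
    obtain ⟨a₀, ha₀⟩ := b.perm g (b.P_V hg) o
    obtain ⟨a₁, ha₁⟩ := b.perm g (b.P_V hg) j
    obtain ⟨a₂, ha₂⟩ := b.perm g (b.P_V hg) k
    have n01 : a₀ ≠ a₁ := by
      rintro rfl
      exact hj (b.R_index (cj_injective (ha₁.trans ha₀.symm)))
    have n02 : a₀ ≠ a₂ := by
      rintro rfl
      exact hk (b.R_index (cj_injective (ha₂.trans ha₀.symm)))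
    have n12 : a₁ ≠ a₂ := by
      rintro rfl
      exact hjk (b.R_index (cj_injective (ha₁.trans ha₂.symm)))
    have hx' : cj (g * x) (R o) = R a₁ := by rw [cj_mul, ex, ha₁]
    have hy' : cj (g * y) (R o) = R a₂ := by rw [cj_mul, ey, ha₂]
    -- values
    have val : ∀ h ∈ P, ∀ a, cj h (R o) = R a →
        (a = o → h * z * h⁻¹ = z) ∧ (a = j → h * z * h⁻¹ = x * z * x⁻¹) ∧
        (a = k → h * z * h⁻¹ = y * z * y⁻¹) := by
      intro h hh a e
      refine ⟨?_, ?_, ?_⟩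
      · rintro rfl
        have := hdep h hh 1 (one_mem P) (by rw [e, cj_one])
        rw [this]; group
      · rintro rfl
        exact hdep h hh x hx (e.trans ex.symm)
      · rintro rfl
        exact hdep h hh y hy (e.trans ey.symm)
    obtain ⟨A0, A1, A2⟩ := val g hg a₀ ha₀
    obtain ⟨B0, B1, B2⟩ := val (g * x) hgx a₁ hx'
    obtain ⟨C0, C1, C2⟩ := val (g * y) hgy a₂ hy'
    have c1 := hcm 1 (one_mem P) x hx
    have c2 := hcm 1 (one_mem P) y hy
    have c3 := hcm x hx y hy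
    rw [one_mul, inv_one, mul_one] at c1 c2
    rw [ht]
    generalize x * z * x⁻¹ = p at *
    generalize y * z * y⁻¹ = q at *
    have d := fun l => b.eq_of_ne (l := l) (Ne.symm hj) (Ne.symm hk) hjk
    rcases d a₀ with h0 | h0 | h0 <;> rcases d a₁ with h1 | h1 | h1 <;>
      rcases d a₂ with h2 | h2 | h2 <;>
      first
      | exact absurd (h0.trans h1.symm) n01
      | exact absurd (h0.trans h2.symm) n02
      | exact absurd (h1.trans h2.symm) n12
      | skip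
    · rw [A0 h0, B1 h1, C2 h2]
    · rw [A0 h0, B2 h1, C1 h2, mul_assoc, ← c3, ← mul_assoc]
    · rw [A1 h0, B0 h1, C2 h2, c1]
    · rw [A1 h0, B2 h1, C0 h2, mul_assoc, ← c2, ← mul_assoc, ← c1]
    · rw [A2 h0, B0 h1, C1 h2, ← c2, mul_assoc, ← c3, ← mul_assoc]
    · rw [A2 h0, B1 h1, C0 h2, ← c3, mul_assoc, ← c2, ← mul_assoc, ← c1]
  have hvS : v₁ * v₂ ∈ V := mul_mem hv₁ hv₂
  -- `v₁ v₂ ∈ V ∩ C(S) = R o`
  have hvc : ∀ s ∈ (S : Subgroup G), s * (v₁ * v₂) = v₁ * v₂ * s := by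
    intro s hs
    have h1 : s * t = t * s := mem_centralizer_iff.1 htP s (b.S_P hs)
    have h2 : s * z = z * s := (mem_zc.1 hz).2.1 s hs
    rw [htv] at h1
    apply mul_right_cancel (b := z)
    calc s * (v₁ * v₂) * z = s * (v₁ * v₂ * z) := by group
      _ = v₁ * v₂ * (z * s) := by rw [h1]; group
      _ = v₁ * v₂ * s * z := by rw [← h2]; group
  have hvR : v₁ * v₂ ∈ R o := by
    obtain ⟨i, hi⟩ := b.R_cov _ hvS
    by_cases hio : i = o
    · rwa [hio] at hi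
    obtain ⟨m, hm1, hm2⟩ := b.third o i
    obtain ⟨w, hw, e⟩ := b.trans o hio hm1
    have h1 : w * (v₁ * v₂) * w⁻¹ = v₁ * v₂ := by rw [hvc w (b.W_le_S hw)]; group
    have h2 : v₁ * v₂ ∈ R m := by
      rw [← e, ← h1]
      exact conj_mem_cj hi
    rw [b.eq_one (Ne.symm hm2) hi h2]
    exact one_mem _
  refine ⟨(v₁ * v₂)⁻¹, inv_mem hvR, t, ⟨?_, htP⟩, by rw [htv]; group⟩
  rw [htv]
  refine mem_zc.2 ⟨mul_mem (b.V_le_S hvS) (zc_le _ hz), fun s hs => ?_, ?_⟩
  · calc s * (v₁ * v₂ * z) = (s * (v₁ * v₂)) * z := by group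
      _ = v₁ * v₂ * (s * z) := by rw [hvc s hs]; group
      _ = v₁ * v₂ * z * s := by rw [(mem_zc.1 hz).2.1 s hs]; group
  · rw [pow_two]
    calc v₁ * v₂ * z * (v₁ * v₂ * z) = (v₁ * v₂ * z) * (z * (v₁ * v₂)) := by rw [hzV _ hvS]
      _ = v₁ * v₂ * (z * z) * (v₁ * v₂) := by group
      _ = 1 := by rw [hz2, mul_one, b.V_sq _ hvS]

/-- **(4)** `Ω₁(Z(S)) = R o C_Z(P)` -/
theorem HT.zc_eq : zc (S : Subgroup G) = R o ⊔ (zc (S : Subgroup G) ⊓ centralizer (P : Set G)) := by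
  apply le_antisymm
  · intro z hz
    obtain ⟨r, hr, y, hy, rfl⟩ := b.exists_zc hz
    exact mul_mem (mem_sup_left hr) (mem_sup_right hy)
  · refine sup_le ?_ inf_le_left
    intro r hr
    refine mem_zc.2 ⟨b.V_le_S (b.R_le o hr), fun s hs => ?_, by rw [pow_two]; exact b.V_sq r (b.R_le o hr)⟩
    exact (mem_centralizer_iff.1 (normalizer_le_cen_of_card (b.card_R o) (b.S_R hs)) r hr).symm

theorem HT.R_le_zc : R o ≤ zc (S : Subgroup G) := le_sup_left.trans_eq b.zc_eq.symm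

/-- `C_Z(P) ≤ C(X)` -/
theorem HT.cz_le : zc (S : Subgroup G) ⊓ centralizer (P : Set G) ≤ centralizer (XX V R : Set G) :=
  inf_le_right.trans (centralizer_le b.X_le_P)

/-- `C_Z(P) = Z ∩ C(X)` -/
theorem HT.cz_eq : zc (S : Subgroup G) ⊓ centralizer (P : Set G) =
    zc (S : Subgroup G) ⊓ centralizer (XX V R : Set G) := by
  apply le_antisymm (le_inf inf_le_left b.cz_le)
  rintro z ⟨hz, hzX⟩
  obtain ⟨r, hr, y, hy, rfl⟩ := b.exists_zc hz
  have h1 : r ∈ centralizer (XX V R : Set G) := by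
    have := (centralizer (XX V R : Set G)).mul_mem hzX ((centralizer (XX V R : Set G)).inv_mem (b.cz_le hy))
    rwa [mul_inv_cancel_right] at this
  rw [b.cen_VX (b.R_le o hr) h1, one_mul]
  exact hy

/-- `R o ∩ C_Z(P) = 1` -/
theorem HT.R_inf_cz : V ⊓ (zc (S : Subgroup G) ⊓ centralizer (P : Set G)) = ⊥ := by
  rw [eq_bot_iff]
  rintro z ⟨hz, hz'⟩
  exact b.cen_VX hz (b.cz_le hz')

/-- `C_{C_Z(P)}(N(R o)) = 1` -/
theorem HT.exists_conj_ne {z : G} (hz : z ∈ zc (S : Subgroup G) ⊓ centralizer (P : Set G)) (hz1 : z ≠ 1) :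
    ∃ h ∈ normalizer (R o : Set G), h * z * h⁻¹ ≠ z := by
  by_contra hc
  push Not at hc
  have hT : IsPGroup 2 (zpowers z) := MinSimple.Basic.isPGroup_zpowers (mem_zc.1 hz.1).2.2
  have hP : P ≤ normalizer (zpowers z : Set G) := by
    rw [MinSimple.Basic.normalizer_zpowers_eq (mem_zc.1 hz.1).2.2]
    intro g hg
    rw [mem_centralizer_singleton_iff]
    exact mem_centralizer_iff.1 hz.2 g hg
  have hN : normalizer (R o : Set G) ≤ normalizer (zpowers z : Set G) := by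
    rw [MinSimple.Basic.normalizer_zpowers_eq (mem_zc.1 hz.1).2.2]
    intro g hg
    rw [mem_centralizer_singleton_iff]
    exact mul_inv_eq_iff_eq_mul.1 (hc g hg)
  exact hz1 (zpowers_eq_bot.1 (b.nonloc_o b.P_trans hT hP hN))

/-! ### the modules `U` and `N_1` -/

theorem HT.isLoc_cen {z : G} (hz : z ∈ zc (S : Subgroup G)) (hz1 : z ≠ 1) :
    IsLoc (S : Subgroup G) (centralizer ({z} : Set G)) := by
  have _ := b
  refine isLoc_centralizer S (mem_zc.1 hz).2.2 hz1 ?_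
  intro g hg
  rw [mem_centralizer_singleton_iff]
  exact (mem_zc.1 hz).2.1 g hg

theorem HT.P_le_cen {z : G} (hz : z ∈ zc (S : Subgroup G) ⊓ centralizer (P : Set G)) :
    P ≤ centralizer ({z} : Set G) := by
  have _ := b
  intro g hg
  rw [mem_centralizer_singleton_iff]
  exact mem_centralizer_iff.1 hz.2 g hg

theorem HT.X_le_cen {z : G} (hz : z ∈ zc (S : Subgroup G) ⊓ centralizer (P : Set G)) :
    XX V R ≤ centralizer ({z} : Set G) := b.X_le_P.trans (b.P_le_cen hz)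

theorem HT.trans_of_X {M : Subgroup G} (h : XX V R ≤ M) (i : ι) : ∃ x ∈ M, cj x (R o) = R i := by
  obtain ⟨x, hx, e⟩ := b.trans_X_one o i
  exact ⟨x, h hx, e⟩

/-- `⟨V^M⟩ ≤ Ω₁(Z(O₂(M)))`, `M` local containing `S` and transitive on the points -/
theorem HT.cl_V_le {M : Subgroup G} (hM : IsLoc (S : Subgroup G) M)
    (ht : ∀ i, ∃ x ∈ M, cj x (R o) = R i) : cl V M ≤ zc (o2 M) :=
  cl_le (b.V_le_zc_o2 hM ht) ((le_normalizer_o2 M).trans (normalizer_le_normalizer_zc _))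

/-- `⟨(R o)^M⟩ = ⟨V^M⟩` -/
theorem HT.cl_R_eq {M : Subgroup G} (ht : ∀ i, ∃ x ∈ M, cj x (R o) = R i) : cl (R o) M = cl V M := by
  apply le_antisymm
  · exact cl_le ((b.R_le o).trans (le_cl V M)) (le_normalizer_cl V M)
  · refine cl_le ?_ (le_normalizer_cl _ M)
    obtain ⟨i, j, hij⟩ := b.exists_pair
    rw [← b.R_sup i j hij]
    obtain ⟨x, hx, ex⟩ := ht i
    obtain ⟨y, hy, ey⟩ := ht j
    rw [← ex, ← ey]
    exact sup_le (cj_le_cl hx) (cj_le_cl hy)

/-- `Ω₁(Z(S)) ≤ Ω₁(Z(Q o))` -/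
theorem HT.zc_le_zc_Q : zc (S : Subgroup G) ≤ zc (QQ (R o)) :=
  zc_le_zc_o2 b.S_R S.isPGroup' (MinSimple.Basic.not_dvd_relIndex S b.S_R) (b.cenQ o)

/-- `⟨z^{N(R o)}⟩ ≤ Ω₁(Z(Q o))` -/
theorem HT.cl_z_le {z : G} (hz : z ∈ zc (S : Subgroup G)) :
    cl (zpowers z) (normalizer (R o : Set G)) ≤ zc (QQ (R o)) := by
  refine cl_le ?_ ((le_normalizer_O2 _).trans (normalizer_le_normalizer_zc _))
  rw [zpowers_le]
  exact b.zc_le_zc_Q hz

omit [Finite G] in
theorem HT.zc_Q_le (i : ι) : zc (QQ (R i)) ≤ centralizer (WW V (R i) : Set G) :=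
  (zc_le_centralizer _).trans (centralizer_le (b.W_le_Q i))

omit [Finite G] in
theorem HT.zc_Q_le' (i : ι) : zc (QQ (R i)) ≤ QQ (R i) := by
  have _ := b
  exact zc_le _

end two

end Cfsg.Agent.Omega.HOneTwo
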