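import Cfsg.Agent.Omega.BTwo.Cen

/-!
# II.0h1, `b = 2`, `C_V(E) ≠ 1`: the elements `[v, c]`, `c ∈ C(W i)`, `v ∈ W j` (#12123 (3)), field-free

`B i = C(W i)`, `C_X = C(X)`.  The outputs of #12123 (2) which are used here are the fields of `Emb`.
-/

set_option autoImplicit false

namespace Cfsg.Agent.Omega.HOneTwo

open Subgroup Cfsg.Agent.Omega.BTwo

variable {G : Type*} [Group G] {ι : Type*}

/-- `B i = C(W i)` -/
abbrev BB (V : Subgroup G) (R : ι → Subgroup G) (i : ι) : Subgroup G :=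
  centralizer (WW V (R i) : Set G)

/-- `C_X = C(X)` -/
abbrev CX (V : Subgroup G) (R : ι → Subgroup G) : Subgroup G := centralizer (XX V R : Set G)

/-- `b = 2` with the outputs of (2) -/
structure Emb (V : Subgroup G) (R : ι → Subgroup G) : Prop extends BT V R where
  BQ : ∀ i, BB V R i ≤ QQ (R i)
  BD : ∀ i, ∀ d ∈ DD V R, d ∈ BB V R i → ∃ a ∈ R i, ∃ c, c ∈ DD V R ∧ c ∈ CX V R ∧ d = a * c
  BQ2 : ∀ i j, i ≠ j → ∀ c ∈ BB V R i, c ∈ QQ (R j) → ∃ a ∈ R i, ∃ x ∈ CX V R, c = a * x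

section

variable {V : Subgroup G} {R : ι → Subgroup G} (b : BT V R)
include b

omit b in
theorem cen_V {i : ι} {c v : G} (hc : c ∈ BB V R i) (hv : v ∈ V) : c * v = v * c :=
  (mem_centralizer_iff.1 (cen_W_le V (R i) hc) v hv).symm

omit b in
theorem cen_DD {i : ι} {c d : G} (hc : c ∈ BB V R i) (hd : d ∈ DD V R) : c * d = d * c :=
  (mem_centralizer_iff.1 hc d (D_le_W V R i hd)).symm

/-- an element of `W j` outside `U j` moves every point `R i`, `i ≠ j` -/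
theorem moves {i j : ι} (hij : i ≠ j) {v : G} (hv : v ∈ WW V (R j)) (hvU : v ∉ UU V R j) :
    ∃ k, k ≠ i ∧ k ≠ j ∧ cj v (R i) = R k := by
  obtain ⟨k, hk⟩ := b.perm v (b.W_le_NV j hv) i
  refine ⟨k, ?_, ?_, hk⟩
  · rintro rfl
    exact hvU (mem_inf.2 ⟨hv, b.mem_cen_Q hij (b.W_le_Q j hv) hk⟩)
  · rintro rfl
    have h1 : cj v (R k) = R k := cj_eq_self_iff.2 (b.W_le_N k hv)
    exact hij (b.R_index (cj_injective (hk.trans h1.symm)))

theorem conj_BB {g c : G} {i k : ι} (h : cj g (R i) = R k) (hc : c ∈ BB V R i) :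
    g * c * g⁻¹ ∈ BB V R k := by
  rw [BB, ← b.cj_WW h, centralizer_cj]
  exact conj_mem_cj hc

/-- `[B i, U j] ≤ D ∩ B i` -/
theorem comm_BU {i j : ι} (hij : i ≠ j) {c u : G} (hc : c ∈ BB V R i) (hu : u ∈ UU V R j) :
    c * u * c⁻¹ * u⁻¹ ∈ DD V R ∧ c * u * c⁻¹ * u⁻¹ ∈ BB V R i := by
  have hcV := cen_W_le V (R i) hc
  have huV := UU_le_cen j hu
  have hc2 := conj_mem_of_normalizer (normalizer_le_normalizer_centralizer _ (b.cen_le_NW i huV))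
    (inv_mem hc)
  have e : c * u * c⁻¹ * u⁻¹ = c * (u * c⁻¹ * u⁻¹) := by group
  have h1 : c * u * c⁻¹ * u⁻¹ ∈ BB V R i := by
    rw [e]
    exact mul_mem hc hc2
  have h2 : c * u * c⁻¹ * u⁻¹ ∈ UU V R j :=
    mul_mem (conj_mem_of_normalizer (b.cen_le_NU j hcV) hu) (inv_mem hu)
  refine ⟨?_, h1⟩
  rw [← b.UK hij]
  exact mem_inf.2 ⟨h2, b.cen_W_le_K i h1⟩

/-- `[W j, B i] ≤ U j` -/
theorem comm_WB {i j : ι} {c v : G} (hc : c ∈ BB V R i) (hv : v ∈ WW V (R j)) :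
    v * c * v⁻¹ * c⁻¹ ∈ UU V R j := by
  have e : v * c * v⁻¹ * c⁻¹ = (c * v * c⁻¹ * v⁻¹)⁻¹ := by group
  rw [e]
  exact inv_mem (b.cen_W_W hc hv)

/-- `[B i, B j] ≤ C_X` -/
theorem comm_BB {i j : ι} (hij : i ≠ j) {c c' : G} (hc : c ∈ BB V R i) (hc' : c' ∈ BB V R j) :
    c * c' * c⁻¹ * c'⁻¹ ∈ CX V R := by
  have n1 := normalizer_le_normalizer_centralizer _ (b.cen_le_NW j (cen_W_le V (R i) hc))
  have n2 := normalizer_le_normalizer_centralizer _ (b.cen_le_NW i (cen_W_le V (R j) hc'))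
  refine b.mem_cen_X hij ?_ (mul_mem (conj_mem_of_normalizer n1 hc') (inv_mem hc'))
  have e : c * c' * c⁻¹ * c'⁻¹ = c * (c' * c⁻¹ * c'⁻¹) := by group
  rw [e]
  exact mul_mem hc (conj_mem_of_normalizer n2 (inv_mem hc))

/-- `c ↦ [v, c]` is a homomorphism modulo `D` -/
theorem comm_mul {i j : ι} (hij : i ≠ j) {c c' v : G} (hc : c ∈ BB V R i) (hc' : c' ∈ BB V R i)
    (hv : v ∈ WW V (R j)) : ∃ d ∈ DD V R,
    v * (c * c') * v⁻¹ * (c * c')⁻¹ = (v * c * v⁻¹ * c⁻¹) * d * (v * c' * v⁻¹ * c'⁻¹) := by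
  refine ⟨_, (comm_BU b hij hc (comm_WB b hc' hv)).1, ?_⟩
  group

theorem U_ND (j : ι) : UU V R j ≤ normalizer (DD V R : Set G) := (UU_le_YY j).trans b.Y_le_ND

end

section

variable {V : Subgroup G} {R : ι → Subgroup G} (b : Emb V R)
include b

/-- **(3) kernel**: `[v, c] ∈ D` with `v ∈ W j - U j` only for `c ∈ R i C_X` -/
theorem Emb.ker {i j : ι} (hij : i ≠ j) {c v : G} (hc : c ∈ BB V R i) (hv : v ∈ WW V (R j))
    (hvU : v ∉ UU V R j) (h : v * c * v⁻¹ * c⁻¹ ∈ DD V R) : ∃ a ∈ R i, ∃ x ∈ CX V R, c = a * x := by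
  obtain ⟨k, hki, -, hk⟩ := moves b.toBT hij hv hvU
  have h1 : v * c * v⁻¹ ∈ QQ (R k) := b.BQ k (conj_BB b.toBT hk hc)
  have h2 : v * c * v⁻¹ * c⁻¹ ∈ QQ (R k) := b.W_le_Q k (D_le_W V R k h)
  have h3 : c ∈ QQ (R k) := by
    have e : c = (v * c * v⁻¹ * c⁻¹)⁻¹ * (v * c * v⁻¹) := by group
    rw [e]
    exact mul_mem (inv_mem h2) h1
  exact b.BQ2 i k (Ne.symm hki) c hc h3

/-- **(3)** `[B i, U j] ≤ R i × D₀` -/
theorem Emb.comm_BU' {i j : ι} (hij : i ≠ j) {c u : G} (hc : c ∈ BB V R i) (hu : u ∈ UU V R j) :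
    ∃ a ∈ R i, ∃ d, d ∈ DD V R ∧ d ∈ CX V R ∧ c * u * c⁻¹ * u⁻¹ = a * d := by
  obtain ⟨h1, h2⟩ := comm_BU b.toBT hij hc hu
  exact b.BD i _ h1 h2

/-- **(3)** `B i / R i C_X` is elementary abelian: squares -/
theorem Emb.sq {i : ι} {c : G} (hc : c ∈ BB V R i) : ∃ a ∈ R i, ∃ x ∈ CX V R, c * c = a * x := by
  obtain ⟨j, hji, -⟩ := b.third i i
  have hij := Ne.symm hji
  obtain ⟨k, hki, hkj⟩ := b.third i j
  obtain ⟨v, hv, e⟩ := b.trans j hij hkj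
  have hvU : v ∉ UU V R j := by
    intro h
    have h1 : cj v (R i) = R i := cj_eq_self_iff.2 (b.cen_le_N i (UU_le_cen j h))
    exact hki (b.R_index (e.symm.trans h1))
  obtain ⟨d, hd, e1⟩ := comm_mul b.toBT hij hc hc hv
  refine b.ker hij (mul_mem hc hc) hv hvU ?_
  rw [e1]
  have hu := comm_WB b.toBT hc hv
  set u := v * c * v⁻¹ * c⁻¹
  have e2 : u * d * u = (u * d * u⁻¹) * (u * u) := by group
  rw [e2]
  exact mul_mem (conj_mem_of_normalizer (U_ND b.toBT j hu) hd)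
    (V_le_D V R (b.R_le j (b.W_sq j (UU_le_WW j hu))))

/-- **(3)** `B i / R i C_X` is elementary abelian: commutators -/
theorem Emb.comm {i : ι} {c c' : G} (hc : c ∈ BB V R i) (hc' : c' ∈ BB V R i) :
    ∃ a ∈ R i, ∃ x ∈ CX V R, c * c' * c⁻¹ * c'⁻¹ = a * x := by
  obtain ⟨a1, ha1, x1, hx1, e1⟩ := b.sq (mul_mem hc hc')
  obtain ⟨a2, ha2, x2, hx2, e2⟩ := b.sq (inv_mem hc)
  obtain ⟨a3, ha3, x3, hx3, e3⟩ := b.sq (inv_mem hc')
  -- `[c, c'] = (c c')² (c'⁻¹ c⁻² c') c'⁻²`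
  have hc'i : c' ∈ BB V R i := hc'
  have hcC : ∀ x ∈ CX V R, c'⁻¹ * x * c' ∈ CX V R := by
    intro x hx
    refine conj_inv_mem_of_normalizer (normalizer_le_normalizer_centralizer _ (b.NV_le_NX ?_)) hx
    exact cen_le_NV V (cen_W_le V (R i) hc')
  refine ⟨a1 * (a2 * a3), mul_mem ha1 (mul_mem ha2 ha3), x1 * ((c'⁻¹ * x2 * c') * x3),
    mul_mem hx1 (mul_mem (hcC _ hx2) hx3), ?_⟩
  have hV : ∀ x ∈ CX V R, ∀ a ∈ R i, x * a = a * x := fun x hx a ha =>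
    (mem_centralizer_iff.1 hx a (W_le_X V R i (V_le_WW V (R i) (b.R_le i ha)))).symm
  have k1 := hV x1 hx1 a2 ha2
  have k2 : c'⁻¹ * a2 * c' = a2 := by
    rw [mul_assoc, ← cen_V hc' (b.R_le i ha2)]; group
  have k3 := hV _ (hcC _ hx2) a3 ha3
  have k4 := hV x1 hx1 a3 ha3
  calc c * c' * c⁻¹ * c'⁻¹ = (c * c' * (c * c')) * (c'⁻¹ * (c⁻¹ * c⁻¹) * c') * (c'⁻¹ * c'⁻¹) := by group
    _ = a1 * x1 * (c'⁻¹ * (a2 * x2) * c') * (a3 * x3) := by rw [e1, e2, e3]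
    _ = a1 * x1 * (c'⁻¹ * a2 * c') * (c'⁻¹ * x2 * c' * a3) * x3 := by group
    _ = a1 * (x1 * a2) * (a3 * (c'⁻¹ * x2 * c')) * x3 := by rw [k2, k3]; group
    _ = a1 * a2 * (x1 * a3) * (c'⁻¹ * x2 * c') * x3 := by rw [k1]; group
    _ = _ := by rw [k4]; group

omit b in
theorem cen_XV (b : BT V R) {x v : G} (hx : x ∈ CX V R) (hv : v ∈ V) : x * v = v * x := by
  obtain ⟨i⟩ := b.nonempty
  exact (mem_centralizer_iff.1 hx v (W_le_X V R i (V_le_WW V (R i) hv))).symm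

/-- **(3)** `c` commutes with all its conjugates `v c v⁻¹`, `v ∈ W j`; and `[v, c]² = [v, r]` if
`c² = r x`, `r ∈ R i`, `x ∈ C_X` -/
theorem Emb.comm_conj {i j : ι} (hij : i ≠ j) {c v : G} (hc : c ∈ BB V R i) (hv : v ∈ WW V (R j)) :
    c * (v * c * v⁻¹) = v * c * v⁻¹ * c ∧ ∀ r ∈ R i, ∀ x ∈ CX V R, c * c = r * x →
      (v * c * v⁻¹ * c⁻¹) * (v * c * v⁻¹ * c⁻¹) = v * r * v⁻¹ * r⁻¹ := by
  have hu := comm_WB b.toBT hc hv
  have hvX := W_le_X V R j hv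
  -- the square of `v c v⁻¹`
  have hsq : ∀ r ∈ R i, ∀ x ∈ CX V R, c * c = r * x →
      (v * c * v⁻¹) * (v * c * v⁻¹) * (c * c)⁻¹ = v * r * v⁻¹ * r⁻¹ := by
    intro r hr x hx e
    have h1 : v * x * v⁻¹ = x := by
      rw [mem_centralizer_iff.1 hx v hvX, mul_inv_cancel_right]
    calc (v * c * v⁻¹) * (v * c * v⁻¹) * (c * c)⁻¹ = v * (c * c) * v⁻¹ * (c * c)⁻¹ := by group
      _ = v * r * v⁻¹ * (v * x * v⁻¹) * x⁻¹ * r⁻¹ := by rw [e]; group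
      _ = v * r * v⁻¹ * r⁻¹ := by rw [h1]; group
  have hcomm : c * (v * c * v⁻¹) = v * c * v⁻¹ * c := by
    by_cases hvU : v ∈ UU V R j
    · -- `[v, c] ∈ D`
      have h1 : v * c * v⁻¹ * c⁻¹ ∈ DD V R := by
        have e : v * c * v⁻¹ * c⁻¹ = (c * v * c⁻¹ * v⁻¹)⁻¹ := by group
        rw [e]
        exact inv_mem (comm_BU b.toBT hij hc hvU).1
      have h2 := cen_DD hc h1
      calc c * (v * c * v⁻¹) = c * (v * c * v⁻¹ * c⁻¹) * c := by group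
        _ = v * c * v⁻¹ * c := by rw [h2]; group
    · obtain ⟨k, hki, hkj, hk⟩ := moves b.toBT hij hv hvU
      have hc' := conj_BB b.toBT hk hc
      set c' := v * c * v⁻¹ with hc'def
      set u := c' * c⁻¹ with hudef
      -- `d₀ = [c, c']`
      have hd1 : c * c' * c⁻¹ * c'⁻¹ ∈ CX V R := comm_BB b.toBT (Ne.symm hki) hc hc'
      have hd2 : c * c' * c⁻¹ * c'⁻¹ ∈ DD V R := by
        have e : c * c' * c⁻¹ * c'⁻¹ = c * u * c⁻¹ * u⁻¹ := by rw [hudef]; group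
        rw [e]
        exact (comm_BU b.toBT hij hc hu).1
      set d := c * c' * c⁻¹ * c'⁻¹ with hddef
      have k1 : c * d = d * c := cen_DD hc hd2
      have k2 : c' * d = d * c' := cen_DD hc' hd2
      obtain ⟨r, hr, x, hx, e⟩ := b.sq hc
      have e1 := hsq r hr x hx e
      -- `u² = d⁻¹ [v, r]`
      have e2 : u * u = d⁻¹ * (v * r * v⁻¹ * r⁻¹) := by
        rw [← e1]
        have k3 : c⁻¹ * c' = d⁻¹ * (c' * c⁻¹) := by
          have k4 : c' = d * (c⁻¹ * c') * c := by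
            calc c' = c⁻¹ * (c * c' * c⁻¹ * c'⁻¹) * c' * c := by group
              _ = c⁻¹ * d * c' * c := rfl
              _ = c⁻¹ * (d * c) * (c⁻¹ * c') * c := by group
              _ = c⁻¹ * (c * d) * (c⁻¹ * c') * c := by rw [k1]
              _ = d * (c⁻¹ * c') * c := by group
          calc c⁻¹ * c' = d⁻¹ * (d * (c⁻¹ * c') * c) * c⁻¹ := by group
            _ = d⁻¹ * (c' * c⁻¹) := by rw [← k4]; group
        have k5 : c' * d⁻¹ = d⁻¹ * c' := by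
          calc c' * d⁻¹ = d⁻¹ * (d * c') * d⁻¹ := by group
            _ = d⁻¹ * c' := by rw [← k2]; group
        calc u * u = c' * (c⁻¹ * c') * c⁻¹ := by rw [hudef]; group
          _ = (c' * d⁻¹) * c' * c⁻¹ * c⁻¹ := by rw [k3]; group
          _ = d⁻¹ * (c' * c' * (c * c)⁻¹) := by rw [k5]; group
      have h1 : u * u ∈ R j := b.W_sq j (UU_le_WW j hu)
      have h2 : v * r * v⁻¹ * r⁻¹ ∈ R j := b.QV j v (b.W_le_Q j hv) r (b.R_le i hr)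
      have h3 : d ∈ R j := by
        have e3 : d = (v * r * v⁻¹ * r⁻¹) * (u * u)⁻¹ := by rw [e2]; group
        rw [e3]
        exact mul_mem h2 (inv_mem h1)
      have h4 : d = 1 := b.cen_VX (b.R_le j h3) hd1
      calc c * c' = d * (c' * c) := by rw [hddef]; group
        _ = c' * c := by rw [h4, one_mul]
  refine ⟨hcomm, fun r hr x hx e => ?_⟩
  rw [← hsq r hr x hx e]
  set c' := v * c * v⁻¹
  have k : c⁻¹ * c' = c' * c⁻¹ := by
    calc c⁻¹ * c' = c⁻¹ * (c' * c) * c⁻¹ := by group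
      _ = c' * c⁻¹ := by rw [← hcomm]; group
  calc c' * c⁻¹ * (c' * c⁻¹) = c' * (c⁻¹ * c') * c⁻¹ := by group
    _ = c' * c' * (c * c)⁻¹ := by rw [k]; group

/-- **(3)** the form: `[c, y] = a d` (`a ∈ R i`, `d ∈ D₀`) implies `[[v, c], y] = [v, a]`, `y ∈ U j` -/
theorem Emb.comm_u {i j : ι} (_hij : i ≠ j) {c v y a d : G} (hc : c ∈ BB V R i) (hv : v ∈ WW V (R j))
    (hy : y ∈ UU V R j) (ha : a ∈ R i) (hd : d ∈ DD V R) (hdX : d ∈ CX V R)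
    (e : c * y * c⁻¹ * y⁻¹ = a * d) :
    (v * c * v⁻¹ * c⁻¹) * y * (v * c * v⁻¹ * c⁻¹)⁻¹ * y⁻¹ = v * a * v⁻¹ * a⁻¹ := by
  have hvX := W_le_X V R j hv
  have haV := b.R_le i ha
  -- `[c', y]`
  have hy' : v⁻¹ * y * v * y⁻¹ ∈ V := by
    have := b.R_le j (b.WU (inv_mem hv) hy)
    rwa [inv_inv] at this
  set t := v⁻¹ * y * v * y⁻¹ with ht
  have h1 : c * (t * y) * c⁻¹ * (t * y)⁻¹ = a * d := by
    have k1 := cen_V hc hy'
    have k2 : t * (a * d) = (a * d) * t := by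
      have k3 := b.V_comm t hy' a haV
      have k4 := b.D_comm (V_le_D V R hy') hd
      calc t * (a * d) = t * a * d := by group
        _ = a * (t * d) := by rw [k3]; group
        _ = a * d * t := by rw [k4]; group
    calc c * (t * y) * c⁻¹ * (t * y)⁻¹ = c * t * (y * c⁻¹ * y⁻¹) * t⁻¹ := by group
      _ = t * (c * y * c⁻¹ * y⁻¹) * t⁻¹ := by rw [k1]; group
      _ = a * d := by rw [e, k2]; group
  have h2 : (v * c * v⁻¹) * y * (v * c * v⁻¹)⁻¹ * y⁻¹ = v * a * v⁻¹ * d := by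
    have k1 : t * y = v⁻¹ * y * v := by rw [ht]; group
    rw [k1] at h1
    have k2 : v * d * v⁻¹ = d := by
      rw [mem_centralizer_iff.1 hdX v hvX, mul_inv_cancel_right]
    calc (v * c * v⁻¹) * y * (v * c * v⁻¹)⁻¹ * y⁻¹
        = v * (c * (v⁻¹ * y * v) * c⁻¹ * (v⁻¹ * y * v)⁻¹) * v⁻¹ := by group
      _ = v * a * v⁻¹ * (v * d * v⁻¹) := by rw [h1]; group
      _ = v * a * v⁻¹ * d := by rw [k2]
  have h3 : c⁻¹ * y * c * y⁻¹ = (a * d)⁻¹ := by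
    have k1 : (a * d) * c = c * (a * d) := by
      have k2 := cen_V hc haV
      have k3 := cen_DD hc hd
      calc a * d * c = a * (c * d) := by rw [k3]; group
        _ = c * a * d := by rw [k2]; group
        _ = c * (a * d) := by group
    calc c⁻¹ * y * c * y⁻¹ = c⁻¹ * (c * y * c⁻¹ * y⁻¹)⁻¹ * c := by group
      _ = c⁻¹ * (a * d)⁻¹ * c := by rw [e]
      _ = (c⁻¹ * (a * d * c))⁻¹ := by group
      _ = (a * d)⁻¹ := by rw [k1]; group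
  -- `c' = v c v⁻¹` centralises `a d`
  obtain ⟨k, hk⟩ := b.perm v (b.W_le_NV j hv) i
  have hc' := conj_BB b.toBT hk hc
  have k5 : (v * c * v⁻¹) * (a * d) = (a * d) * (v * c * v⁻¹) := by
    have k2 := cen_V hc' haV
    have k3 := cen_DD hc' hd
    calc (v * c * v⁻¹) * (a * d) = (v * c * v⁻¹ * a) * d := by group
      _ = a * ((v * c * v⁻¹) * d) := by rw [k2]; group
      _ = a * d * (v * c * v⁻¹) := by rw [k3]; group
  have k6 : (a * d)⁻¹ * (v * a * v⁻¹ * d) = v * a * v⁻¹ * a⁻¹ := by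
    have hva : v * a * v⁻¹ ∈ V := conj_mem_of_normalizer (b.W_le_NV j hv) haV
    have k7 := b.D_comm (V_le_D V R hva) hd
    have k8 := b.V_comm _ hva _ (inv_mem haV)
    calc (a * d)⁻¹ * (v * a * v⁻¹ * d) = d⁻¹ * a⁻¹ * (v * a * v⁻¹ * d) := by group
      _ = d⁻¹ * (a⁻¹ * d) * (v * a * v⁻¹) := by rw [k7]; group
      _ = d⁻¹ * (d * a⁻¹) * (v * a * v⁻¹) := by rw [b.D_comm (V_le_D V R (inv_mem haV)) hd]
      _ = a⁻¹ * (v * a * v⁻¹) := by group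
      _ = v * a * v⁻¹ * a⁻¹ := by rw [k8]
  set c' := v * c * v⁻¹
  have k9 : c' * (a * d)⁻¹ = (a * d)⁻¹ * c' := by
    calc c' * (a * d)⁻¹ = (a * d)⁻¹ * (a * d * c') * (a * d)⁻¹ := by group
      _ = (a * d)⁻¹ * c' := by rw [← k5]; group
  calc c' * c⁻¹ * y * (c' * c⁻¹)⁻¹ * y⁻¹ = c' * (c⁻¹ * y * c * y⁻¹) * y * c'⁻¹ * y⁻¹ := by group
    _ = (a * d)⁻¹ * (c' * y * c'⁻¹ * y⁻¹) := by rw [h3, k9]; group
    _ = v * a * v⁻¹ * a⁻¹ := by rw [h2, k6]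

/-- **(3)** SIEGEL: `b ∈ B j` acts on `W i` with `[W i, b] ≤ ⟨u_b⟩ V D₀`, if `|W i : U i| = 2` -/
theorem Emb.siegel {i j : ι} (hij : i ≠ j) {c w : G} (hc : c ∈ BB V R j) (hw : w ∈ WW V (R i))
    (h2 : ∀ x ∈ WW V (R i), x ∈ UU V R i ∨ w⁻¹ * x ∈ UU V R i) {x : G} (hx : x ∈ WW V (R i)) :
    ∃ z ∈ V, ∃ d, d ∈ DD V R ∧ d ∈ CX V R ∧
      (c * x * c⁻¹ * x⁻¹ = z * d ∨ c * x * c⁻¹ * x⁻¹ = (c * w * c⁻¹ * w⁻¹) * (z * d)) := by
  rcases h2 x hx with h | h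
  · obtain ⟨a, ha, d, hd, hdX, e⟩ := b.comm_BU' (Ne.symm hij) hc h
    exact ⟨a, b.R_le j ha, d, hd, hdX, Or.inl e⟩
  · obtain ⟨a, ha, d, hd, hdX, e⟩ := b.comm_BU' (Ne.symm hij) hc h
    refine ⟨w * a * w⁻¹, conj_mem_of_normalizer (b.W_le_NV i hw) (b.R_le j ha), d, hd, hdX, Or.inr ?_⟩
    have k2 : w * d * w⁻¹ = d := by
      rw [mem_centralizer_iff.1 hdX w (W_le_X V R i hw), mul_inv_cancel_right]
    calc c * x * c⁻¹ * x⁻¹
        = (c * w * c⁻¹ * w⁻¹) * (w * (c * (w⁻¹ * x) * c⁻¹ * (w⁻¹ * x)⁻¹) * w⁻¹) := by group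
      _ = (c * w * c⁻¹ * w⁻¹) * ((w * a * w⁻¹) * (w * d * w⁻¹)) := by rw [e]; group
      _ = _ := by rw [k2]

end

end Cfsg.Agent.Omega.HOneTwo
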