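import Cfsg.Agent.Omega.HOneTwo.OpSys

/-!
# II.0h1, `q = 2`, F4-type: (19), (20) of #16429, abstract form

* `OpSys.coc` : (20): a family `τ v ∈ Σ_v` with `T_v τ_w = T_w τ_v` (`v ⟂ w`), `τ_{v+w} = τ_w + T_w τ_v + T_v τ_w + T_v T_w τ_v`
  (`f v w = 1`) is `τ v = T v y` (rank ≥ 6: `Three f p q`);
* `OpSys.three_of` : `Three f p q` from two orthogonal hyperbolic pairs in `⟨p, q⟩^⟂`;
* `OpSys.dead_two` : (19): rank 4, `|T_r Σ_q| ≤ 2`: a quadratic form on `S` which is zero on all `Σ_v` has polar form 0.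
-/

set_option autoImplicit false
set_option linter.unusedSectionVars false
set_option linter.dupNamespace false

namespace Cfsg.Agent.Omega.HOneTwo.OpSys

namespace OpSys

variable {E S : Type*} [AddCommGroup E] [AddCommGroup S] {f : E → E → ZMod 2} {T : E → S →+ S}

/-- every `r ∈ ⟨p,q⟩^⟂` is orthogonal to a hyperbolic pair of `⟨p, q⟩^⟂` -/
def Three (f : E → E → ZMod 2) (p q : E) : Prop :=
  ∀ r, f p r = 0 → f q r = 0 → ∃ s s', f p s = 0 ∧ f q s = 0 ∧ f r s = 0 ∧ f p s' = 0 ∧ f q s' = 0 ∧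
    f r s' = 0 ∧ f s s' = 1

theorem three_of (h : OpSys f T) {p q a a' b b' : E} (pa : f p a = 0) (qa : f q a = 0) (pa' : f p a' = 0)
    (qa' : f q a' = 0) (pb : f p b = 0) (qb : f q b = 0) (pb' : f p b' = 0) (qb' : f q b' = 0)
    (haa : f a a' = 1) (hbb : f b b' = 1) (hab : f a b = 0) (hab' : f a b' = 0) (ha'b : f a' b = 0)
    (ha'b' : f a' b' = 0) : Three f p q := by
  intro r _ _
  -- the general step
  have key : ∀ {a a' b : E}, f p a = 0 → f q a = 0 → f p a' = 0 → f q a' = 0 → f p b = 0 → f q b = 0 →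
      f a a' = 1 → f a b = 0 → f a' b = 0 → f r a = 1 → f r b = 1 →
      ∃ s s', f p s = 0 ∧ f q s = 0 ∧ f r s = 0 ∧ f p s' = 0 ∧ f q s' = 0 ∧ f r s' = 0 ∧ f s s' = 1 := by
    intro a a' b pa qa pa' qa' pb qb haa hab ha'b hra hrb
    have hba : f b a = 0 := by rw [h.symm]; exact hab
    have hba' : f b a' = 0 := by rw [h.symm]; exact ha'b
    rcases z2 (f r a') with e | e
    · refine ⟨a + b, a', ?_, ?_, ?_, pa', qa', e, ?_⟩
      · rw [h.addr, pa, pb, add_zero]
      · rw [h.addr, qa, qb, add_zero]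
      · rw [h.addr, hra, hrb]; decide
      · rw [h.add, haa, hba', add_zero]
    · refine ⟨a + b, a' + a, ?_, ?_, ?_, ?_, ?_, ?_, ?_⟩
      · rw [h.addr, pa, pb, add_zero]
      · rw [h.addr, qa, qb, add_zero]
      · rw [h.addr, hra, hrb]; decide
      · rw [h.addr, pa, pa', add_zero]
      · rw [h.addr, qa, qa', add_zero]
      · rw [h.addr, hra, e]; decide
      · rw [h.add, h.addr, h.addr, haa, h.alt, hba', hba]; decide
  have haa' : f a' a = 1 := by rw [h.symm]; exact haa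
  rcases z2 (f r a) with e1 | e1
  · rcases z2 (f r a') with e2 | e2
    · exact ⟨a, a', pa, qa, e1, pa', qa', e2, haa⟩
    · rcases z2 (f r b) with e3 | e3
      · rcases z2 (f r b') with e4 | e4
        · exact ⟨b, b', pb, qb, e3, pb', qb', e4, hbb⟩
        · exact key pa' qa' pa qa pb' qb' haa' ha'b' hab' e2 e4
      · exact key pa' qa' pa qa pb qb haa' ha'b hab e2 e3
  · rcases z2 (f r b) with e3 | e3
    · rcases z2 (f r b') with e4 | e4
      · exact ⟨b, b', pb, qb, e3, pb', qb', e4, hbb⟩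
      · exact key pa qa pa' qa' pb' qb' haa hab' ha'b' e1 e4
    · exact key pa qa pa' qa' pb qb haa hab ha'b e1 e3

/-- the family conditions -/
structure Coc (f : E → E → ZMod 2) (T : E → S →+ S) (τ : E → S) : Prop where
  mem : ∀ v, τ v ∈ (T v).range
  comm : ∀ v w, f v w = 0 → T v (τ w) = T w (τ v)
  conj : ∀ v w, f v w = 1 → τ (v + w) = τ w + T w (τ v) + T v (τ w) + T v (T w (τ v))

/-- `T · y` is such a family -/
theorem coc_sub (h : OpSys f T) {τ : E → S} (hτ : Coc f T τ) (y : S) : Coc f T (fun v => τ v + T v y) where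
  mem := fun v => AddSubgroup.add_mem _ (hτ.mem v) ⟨y, rfl⟩
  comm := fun v w hvw => by
    show T v (τ w + T w y) = T w (τ v + T v y)
    rw [map_add, map_add, hτ.comm v w hvw, h.comm v w hvw]
  conj := fun v w hvw => by
    show τ (v + w) + T (v + w) y = τ w + T w y + T w (τ v + T v y) + T v (τ w + T w y) +
      T v (T w (τ v + T v y))
    rw [hτ.conj v w hvw, h.conj v w hvw y]
    simp only [map_add]
    rw [h.tri v w hvw y]
    abel

theorem coc_zero (h : OpSys f T) {τ : E → S} (hτ : Coc f T τ) {p q : E} (hpq : f p q = 1)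
    (hm : Three f p q) (hp : τ p = 0) (hq : τ q = 0) : ∀ v, τ v = 0 := by
  have hqp : f q p = 1 := by rw [h.symm]; exact hpq
  -- `r ⟂ p, q`
  have h1 : ∀ r, f p r = 0 → f q r = 0 → τ r = 0 := by
    intro r hpr hqr
    refine h.lemE (r := p) (r' := q) (by rw [h.symm]; exact hpr) (by rw [h.symm]; exact hqr) hpq (hτ.mem r) ?_ ?_
    · rw [hτ.comm p r hpr, hp, map_zero]
    · rw [hτ.comm q r hqr, hq, map_zero]
  -- `p + r`, `q + r`
  have h2 : ∀ p', (p' = p ∨ p' = q) → ∀ r, f p r = 0 → f q r = 0 → τ (p' + r) = 0 := by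
    intro p' hp' r hpr hqr
    obtain ⟨s, s', hps, hqs, hrs, hps', hqs', hrs', hss⟩ := hm r hpr hqr
    have e1 : f p' s = 0 := by rcases hp' with rfl | rfl <;> assumption
    have e2 : f p' s' = 0 := by rcases hp' with rfl | rfl <;> assumption
    have e3 : f (p' + r) s = 0 := by rw [h.add, e1, hrs, add_zero]
    have e4 : f (p' + r) s' = 0 := by rw [h.add, e2, hrs', add_zero]
    refine h.lemE (r := s) (r' := s') e3 e4 hss (hτ.mem _) ?_ ?_
    · rw [← hτ.comm _ _ e3, h1 s hps hqs, map_zero]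
    · rw [← hτ.comm _ _ e4, h1 s' hps' hqs', map_zero]
  intro v
  obtain ⟨s, hs1, hs2, _, hv⟩ := h.proj hpq v
  rw [hv]
  rcases z2 (f p v) with a | a <;> rcases z2 (f q v) with b' | b'
  · rw [a, b']; simp only [zero_ne_one, if_false, add_zero]; exact h1 s hs1 hs2
  · rw [a, b']; simp only [zero_ne_one, if_false, if_true, add_zero]
    rw [add_comm s p]; exact h2 p (Or.inl rfl) s hs1 hs2
  · rw [a, b']; simp only [zero_ne_one, if_false, if_true, add_zero]
    rw [add_comm s q]; exact h2 q (Or.inr rfl) s hs1 hs2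
  · rw [a, b']; simp only [if_true]
    have hf : f (p + s) q = 1 := by rw [h.add, hpq, h.symm s q, hs2, add_zero]
    rw [add_comm s p, hτ.conj (p + s) q hf, hq, h2 p (Or.inl rfl) s hs1 hs2]
    simp only [map_zero, add_zero]

/-- **(20)**, abstract form -/
theorem coc (h : OpSys f T) {τ : E → S} (hτ : Coc f T τ) {p q : E} (hpq : f p q = 1)
    (hm : Three f p q) : ∃ y, ∀ v, τ v = T v y := by
  have hqp : f q p = 1 := by rw [h.symm]; exact hpq
  obtain ⟨y1, hy1⟩ := hτ.mem p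
  have h1 := h.coc_sub hτ y1
  -- `y2`
  have h2 : τ q + T q y1 ∈ (T q).range := h1.mem q
  set y2 := T p (τ q + T q y1) with hy2
  have e2 : T q y2 = τ q + T q y1 := h.fix hpq h2
  have e1 : T p y2 = 0 := h.sq p _
  have h3 := h.coc_zero (h.coc_sub h1 y2) hpq hm
    (by show τ p + T p y1 + T p y2 = 0; rw [hy1, e1, add_zero, h.twoS])
    (by show τ q + T q y1 + T q y2 = 0; rw [e2, h.twoS])
  refine ⟨y1 + y2, fun v => ?_⟩
  have h4 : τ v + T v y1 + T v y2 = 0 := h3 v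
  rw [map_add]
  exact h.eq_of_add (by rw [← add_assoc]; exact h4)

/-- **(19)**, abstract form: `κ` quadratic, zero on all `Σ_v`, `|Σ_q|`, `|Σ_p|` small: the polar form `B` is zero -/
theorem dead_two (h : OpSys f T) {p q r r' : E} (hpq : f p q = 1) (hpr : f p r = 0) (hqr : f q r = 0)
    (hpr' : f p r' = 0) (hqr' : f q r' = 0) (hrr : f r r' = 1) (sum : (T p).range ⊔ (T q).range = ⊤)
    (B : S → S → ZMod 2) (Bl : ∀ x y w, B (x + y) w = B x w + B y w) (Br : ∀ x y w, B w (x + y) = B w x + B w y)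
    (κ : S → ZMod 2) (hκ : ∀ x y, κ (x + y) = κ x + κ y + B x y) (hκ0 : ∀ v, ∀ x ∈ (T v).range, κ x = 0)
    (h2 : ∀ r, f p r = 0 → f q r = 0 → ∀ x ∈ (T q).range, ∀ y ∈ (T q).range, T r x ≠ 0 → T r y ≠ 0 →
      T r x = T r y) : ∀ x y, B x y = 0 := by
  have hqp : f q p = 1 := by rw [h.symm]; exact hpq
  have B0 : ∀ v, ∀ x ∈ (T v).range, ∀ y ∈ (T v).range, B x y = 0 := by
    intro v x hx y hy
    have h3 := hκ x y
    rw [hκ0 v _ (AddSubgroup.add_mem _ hx hy), hκ0 v x hx, hκ0 v y hy] at h3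
    simpa using h3.symm
  have Bsymm : ∀ x y, B x y = B y x := by
    intro x y
    have h3 := hκ x y
    have h4 := hκ y x
    rw [add_comm y x, add_comm (κ y)] at h4
    exact add_left_cancel (h3.symm.trans h4)
  have Bz : ∀ x, B x 0 = 0 := by
    intro x
    have := Br 0 0 x
    rw [add_zero] at this
    exact left_eq_add.mp this
  have Bzl : ∀ x, B 0 x = 0 := fun x => by rw [Bsymm]; exact Bz x
  -- `B (T_s p-part) (T_s' q-part) = 0` for all `s, s' ∈ {r, r'}`
  -- elements of `Σ_p` : `T_p c`, `c ∈ Σ_q`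
  have key0 : ∀ s, f p s = 0 → f q s = 0 → ∀ c ∈ (T q).range, ∀ d ∈ (T q).range,
      B (T s (T p c)) (T s d) = 0 := fun s _ _ c _ d _ => B0 s _ ⟨_, rfl⟩ _ ⟨_, rfl⟩
  -- `c ∈ T_r Σ_q` : `B (T_p c) (T_r' c) = 0`
  have key1 : ∀ s', f p s' = 0 → f q s' = 0 → ∀ c ∈ (T q).range, B (T p c) (T s' c) = 0 := by
    intro s' hps' hqs' c hc
    have h3 := h.key hpq hps' hqs' hc
    have h4 := hκ (T p c) (T s' c)
    rw [← h3, hκ0 (p + s') _ ⟨_, rfl⟩, hκ0 p _ ⟨_, rfl⟩, hκ0 s' _ ⟨_, rfl⟩] at h4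
    simpa using h4.symm
  have key2 : ∀ s s', f p s = 0 → f q s = 0 → f p s' = 0 → f q s' = 0 → ∀ c ∈ (T q).range,
      ∀ d ∈ (T q).range, B (T p (T s c)) (T s' (T s d)) = 0 := by
    intro s s' hps hqs hps' hqs' c hc d hd
    by_cases e1 : T s c = 0
    · rw [e1, map_zero, Bzl]
    by_cases e2 : T s d = 0
    · rw [e2, map_zero, Bz]
    rw [h2 s hps hqs c hc d hd e1 e2]
    exact key1 s' hps' hqs' _ (h.mem_of_comm hqs hd)
  -- `B(T_s T_p c, T_s' d) = 0` for `{s, s'} = {r, r'}`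
  have key3 : ∀ s s', f p s = 0 → f q s = 0 → f p s' = 0 → f q s' = 0 → f s s' = 1 →
      ∀ c ∈ (T q).range, ∀ d ∈ (T q).range, B (T s (T p c)) (T s' d) = 0 := by
    intro s s' hps hqs hps' hqs' hss c hc d hd
    have hss' : f s' s = 1 := by rw [h.symm]; exact hss
    -- `T_s' d = T_s' T_s T_s' d`
    rw [← h.tri s' s hss' d, h.comm s p (by rw [h.symm]; exact hps)]
    exact key2 s s' hps hqs hps' hqs' c hc _ (h.mem_of_comm hqs' hd)
  -- `B (T_p c) d = 0`
  have key4 : ∀ c ∈ (T q).range, ∀ d ∈ (T q).range, B (T p c) d = 0 := by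
    intro c hc d hd
    have hrr' : f r' r = 1 := by rw [h.symm]; exact hrr
    have hc' := h.split hqr hqr' hrr hc
    have hd' := h.split hqr hqr' hrr hd
    have m1 := h.mem_of_comm hqr hc
    have m2 := h.mem_of_comm hqr' hc
    have m3 := h.mem_of_comm hqr hd
    have m4 := h.mem_of_comm hqr' hd
    rw [hc', hd', map_add, Bl, Br, Br, h.comm p r hpr (T r' c), h.comm p r' hpr' (T r c)]
    rw [key0 r hpr hqr _ m2 _ m4, key3 r r' hpr hqr hpr' hqr' hrr _ m2 _ m3,
      key3 r' r hpr' hqr' hpr hqr hrr' _ m1 _ m4, key0 r' hpr' hqr' _ m1 _ m3]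
    simp
  -- the end
  have key5 : ∀ x ∈ (T p).range, ∀ y ∈ (T q).range, B x y = 0 := by
    intro x hx y hy
    rw [← h.fix hqp hx]
    exact key4 _ ⟨_, rfl⟩ y hy
  intro x y
  have hx : x ∈ (T p).range ⊔ (T q).range := by rw [sum]; trivial
  have hy : y ∈ (T p).range ⊔ (T q).range := by rw [sum]; trivial
  obtain ⟨a, ha, b, hb, rfl⟩ := AddSubgroup.mem_sup.1 hx
  obtain ⟨c, hc, d, hd, rfl⟩ := AddSubgroup.mem_sup.1 hy
  rw [Bl, Br, Br, B0 p a ha c hc, B0 q b hb d hd, key5 a ha d hd, Bsymm b c, key5 c hc b hb]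
  simp

end OpSys

end Cfsg.Agent.Omega.HOneTwo.OpSys
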