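import Cfsg.Agent.Omega.HTwo.EightOne
import Cfsg.Agent.Omega.HOneTwo.OpCoc

/-!
# II.0h1, `q = 2`, F4-type: the instance `Γ / U` of `OpSys` ((17) of #16429)

`OpD G`: RESULT A (`Eight.Res`) with the output of (13), (14), (16): `Γ = ⟨N_p ∩ C(U) : p ∈ Δ⟩`, `[O₂(M), Γ] ≤ ⟨z⟩`,
`N_p ∩ N_q = ⟨z⟩` (`f p q = 1`), `U ∩ N_p = ⟨p, z⟩`, `C' = U`.

* `OpD.S = Γ / U` (additive), `OpD.E = U` (additive), `OpD.cl : G → S`, `OpD.T : E → S →+ S`;
* `OpD.ops : OpSys f T`, `OpD.gen`, `OpD.mem_range`.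
-/

set_option autoImplicit false
set_option linter.unusedSectionVars false

namespace Cfsg.Agent.Omega.HOneTwo.OpInst

open Subgroup Cfsg.Agent.Omega.BTwo Cfsg.Agent.Omega.HTwo.Eight Cfsg.Agent.Omega.HOneTwo.OpSys

universe u

variable {G : Type u} [Group G]

/-- `Γ` -/
def Gam (z : G) (U : Subgroup G) (Δ : Set G) : Subgroup G :=
  closure {n | ∃ p ∈ Δ, n ∈ Np z p ∧ ∀ u ∈ U, n * u = u * n}

/-- the hypotheses of (17) -/
structure OpD (G : Type u) [Group G] where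
  z : G
  M : Subgroup G
  U : Subgroup G
  Δ : Set G
  f : G → G → ZMod 2
  t : G → G
  r : G
  res : Res z M U Δ f t
  r_Δ : r ∈ Δ
  OG : ∀ o ∈ O2 M, ∀ g ∈ Gam z U Δ, o * g = g * o ∨ o * g = z * (g * o)
  NN : ∀ p ∈ Δ, ∀ q ∈ Δ, f p q = 1 → ∀ n ∈ Np z p, n ∈ Np z q → n = 1 ∨ n = z
  UN : ∀ p ∈ Δ, ∀ u ∈ U, u ∈ Np z p → u = 1 ∨ u = p ∨ u = z ∨ u = p * z
  C14 : ∀ x ∈ O2 M, (∀ p ∈ Δ, ∀ n ∈ Np z p, x * n * x⁻¹ * n⁻¹ ∈ U) → x ∈ U

namespace OpD

variable (D : OpD G)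

/-- `Γ` -/
abbrev Γ : Subgroup G := Gam D.z D.U D.Δ

/-- `n ∈ N_p ∩ C(U)` -/
def NU (p n : G) : Prop := n ∈ Np D.z p ∧ ∀ u ∈ D.U, n * u = u * n

theorem NU_Γ {p n : G} (hp : p ∈ D.Δ) (hn : D.NU p n) : n ∈ D.Γ := subset_closure ⟨p, hp, hn.1, hn.2⟩

theorem cen_conj {m n : G} (hm : m ∈ D.M) (hn : ∀ u ∈ D.U, n * u = u * n) :
    ∀ u ∈ D.U, (m * n * m⁻¹) * u = u * (m * n * m⁻¹) := by
  intro u hu
  have h1 := hn _ (D.res.U_M m⁻¹ (inv_mem hm) u hu)
  rw [inv_inv] at h1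
  calc m * n * m⁻¹ * u = m * (n * (m⁻¹ * u * m)) * m⁻¹ := by group
    _ = m * (m⁻¹ * u * m * n) * m⁻¹ := by rw [h1]
    _ = _ := by group

theorem NU_conj {m p n : G} (hm : m ∈ D.M) (hn : D.NU p n) : D.NU (m * p * m⁻¹) (m * n * m⁻¹) := by
  refine ⟨?_, D.cen_conj hm hn.2⟩
  rw [← cj_Np (D.res.M_z hm)]
  exact conj_mem_cj hn.1

theorem NU_mul {p n m : G} (hn : D.NU p n) (hm : D.NU p m) : D.NU p (n * m) :=
  ⟨mul_mem hn.1 hm.1, fun u hu => by rw [mul_assoc, hm.2 u hu, ← mul_assoc, hn.2 u hu, mul_assoc]⟩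

theorem NU_inv {p n : G} (hn : D.NU p n) : D.NU p n⁻¹ :=
  ⟨inv_mem hn.1, fun u hu => by rw [inv_mul_eq_iff_eq_mul, ← mul_assoc, hn.2 u hu, mul_inv_cancel_right]⟩

theorem NU_p {p : G} (hp : p ∈ D.Δ) : D.NU p p :=
  ⟨D.res.p_N hp, fun u hu => D.res.U_comm p (D.res.Δ_U p hp) u hu⟩

theorem NU_z (p : G) : D.NU p D.z :=
  ⟨z_N _ _, fun u hu => D.res.U_comm _ D.res.z_U u hu⟩

theorem cen_NU {p x : G} (hp : p ∈ D.Δ) (hx : ∀ u ∈ D.U, x * u = u * x) : x ∈ Cp p :=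
  mem_Cp.2 (hx p (D.res.Δ_U p hp))

/-- `C_M(U)` normalises `N_p ∩ C(U)` -/
theorem NU_conj' {p n x : G} (hp : p ∈ D.Δ) (hxM : x ∈ D.M) (hx : ∀ u ∈ D.U, x * u = u * x)
    (hn : D.NU p n) : D.NU p (x * n * x⁻¹) := by
  have := D.NU_conj hxM hn
  rwa [hx p (D.res.Δ_U p hp), mul_inv_cancel_right] at this

theorem Γ_M : D.Γ ≤ D.M := by
  unfold Γ Gam
  rw [closure_le]
  rintro n ⟨p, hp, hn, -⟩
  exact D.res.N_M hp hn

theorem Γ_cen {x : G} (hx : x ∈ D.Γ) {u : G} (hu : u ∈ D.U) : x * u = u * x := by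
  have h1 : D.Γ ≤ centralizer (D.U : Set G) := by
    unfold Γ Gam
    rw [closure_le]
    rintro n ⟨p, hp, -, hn⟩
    rw [SetLike.mem_coe, mem_centralizer_iff]
    exact fun u hu => (hn u hu).symm
  exact ((mem_centralizer_iff.1 (h1 hx)) u hu).symm

theorem Γ_conj {m x : G} (hm : m ∈ D.M) (hx : x ∈ D.Γ) : m * x * m⁻¹ ∈ D.Γ := by
  unfold Γ Gam at hx
  induction hx using closure_induction with
  | mem n hn =>
    obtain ⟨p, hp, hn1, hn2⟩ := hn
    exact D.NU_Γ (D.res.Δ_M m hm p hp) (D.NU_conj hm ⟨hn1, hn2⟩)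
  | one => rw [mul_one, mul_inv_cancel]; exact one_mem _
  | mul x y _ _ hx hy =>
    have e : m * (x * y) * m⁻¹ = (m * x * m⁻¹) * (m * y * m⁻¹) := by group
    rw [e]; exact mul_mem hx hy
  | inv x _ hx =>
    have e : m * x⁻¹ * m⁻¹ = (m * x * m⁻¹)⁻¹ := by group
    rw [e]; exact inv_mem hx

/-- `Γ ≤ O₂(M)` -/
theorem Γ_O [Finite G] : D.Γ ≤ O2 D.M := by
  unfold Γ Gam
  rw [closure_le]
  rintro n ⟨p, hp, hn1, hn2⟩
  have h1 : Np D.z p ⊓ centralizer (D.U : Set G) ≤ O2 D.M := by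
    refine le_O2_of_chain (B := D.M ⊓ centralizer (D.U : Set G)) (C := D.M) ?_ inf_le_left le_rfl ?_ ?_ ?_ ?_
    · exact inf_le_inf_right _ (D.res.N_M hp)
    · intro x
      refine ⟨1, Subtype.ext ?_⟩
      have := D.res.N_sq p hp x x.2.1
      rw [pow_one, pow_two]
      exact this
    · rintro b ⟨hb1, hb2⟩ a ⟨ha1, ha2⟩
      have h3 : ∀ u ∈ D.U, b * u = u * b := fun u hu => ((mem_centralizer_iff.1 hb2) u hu).symm
      have h4 := D.NU_conj' hp hb1 h3 ⟨ha1, fun u hu => ((mem_centralizer_iff.1 ha2) u hu).symm⟩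
      exact ⟨h4.1, mem_centralizer_iff.2 fun u hu => (h4.2 u hu).symm⟩
    · rintro c hc b ⟨hb1, hb2⟩
      exact ⟨D.M.mul_mem (D.M.mul_mem hc hb1) (D.M.inv_mem hc), mem_centralizer_iff.2 fun u hu =>
        (D.cen_conj hc (fun u hu => ((mem_centralizer_iff.1 hb2) u hu).symm) u hu).symm⟩
    · exact fun g hg c hc => D.M.mul_mem (D.M.mul_mem hg hc) (D.M.inv_mem hg)
  exact h1 ⟨hn1, mem_centralizer_iff.2 fun u hu => (hn2 u hu).symm⟩

theorem z_Γ : D.z ∈ D.Γ := D.NU_Γ D.r_Δ (D.NU_z D.r)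

theorem U_Γ : D.U ≤ D.Γ := by
  intro u hu
  rcases D.res.cover u hu with rfl | rfl | h | h
  · exact one_mem _
  · exact D.z_Γ
  · exact D.NU_Γ h (D.NU_p h)
  · have h1 := mul_mem (D.NU_Γ h (D.NU_p h)) D.z_Γ
    rwa [mul_assoc, D.res.zz, mul_one] at h1

theorem z_inv : D.z⁻¹ = D.z := inv_eq_of_mul_eq_one_left D.res.zz

theorem Γ_comm [Finite G] {x y : G} (hx : x ∈ D.Γ) (hy : y ∈ D.Γ) : x * y = y * x ∨ x * y = D.z * (y * x) :=
  D.OG x (D.Γ_O hx) y hy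

theorem Γ_comm_U [Finite G] {x y : G} (hx : x ∈ D.Γ) (hy : y ∈ D.Γ) : (x * y)⁻¹ * (y * x) ∈ D.U := by
  rcases D.Γ_comm hx hy with h | h
  · rw [h, inv_mul_cancel]; exact one_mem _
  · have h1 := D.Γ_cen (mul_mem hy hx) D.res.z_U
    have e : (x * y)⁻¹ * (y * x) = D.z := by
      rw [inv_mul_eq_iff_eq_mul, h, mul_assoc, h1, ← mul_assoc, D.res.zz, one_mul]
    rw [e]; exact D.res.z_U

/-- `Γ² ≤ ⟨z⟩` -/
theorem Γ_sq [Finite G] {x : G} (hx : x ∈ D.Γ) : x * x = 1 ∨ x * x = D.z := by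
  have key : ∀ x ∈ closure {n | ∃ p ∈ D.Δ, n ∈ Np D.z p ∧ ∀ u ∈ D.U, n * u = u * n}, x * x = 1 ∨ x * x = D.z := by
    intro x hx
    induction hx using closure_induction with
    | mem n hn =>
      obtain ⟨p, hp, hn1, hn2⟩ := hn
      exact Or.inl (D.res.N_sq p hp n hn1)
    | one => exact Or.inl (mul_one 1)
    | mul x y hxG hyG hx hy =>
      have hxG' : x ∈ D.Γ := hxG
      have hyG' : y ∈ D.Γ := hyG
      have hz : ∀ w ∈ D.Γ, w * D.z = D.z * w := fun w hw => D.Γ_cen hw D.res.z_U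
      have e : x * y * (x * y) = x * (y * x) * y := by group
      rcases D.Γ_comm hyG' hxG' with h | h
      · have e2 : x * y * (x * y) = (x * x) * (y * y) := by rw [e, h]; group
        rw [e2]
        rcases hx with hx | hx <;> rcases hy with hy | hy <;> rw [hx, hy]
        · left; exact mul_one 1
        · right; exact one_mul _
        · right; exact mul_one _
        · left; exact D.res.zz
      · have e2 : x * y * (x * y) = D.z * ((x * x) * (y * y)) := by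
          rw [e, h]
          calc x * (D.z * (x * y)) * y = (x * D.z) * (x * y * y) := by group
            _ = D.z * ((x * x) * (y * y)) := by rw [hz x hxG']; group
        rw [e2]
        rcases hx with hx | hx <;> rcases hy with hy | hy <;> rw [hx, hy]
        · right; rw [mul_one, mul_one]
        · left; rw [one_mul]; exact D.res.zz
        · left; rw [mul_one]; exact D.res.zz
        · right; rw [D.res.zz, mul_one]
    | inv x _ hx =>
      have e : x⁻¹ * x⁻¹ = (x * x)⁻¹ := by group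
      rw [e]
      rcases hx with hx | hx
      · left; rw [hx, inv_one]
      · right; rw [hx, D.z_inv]
  exact key x hx

/-! ### `S = Γ / U` -/

theorem normal [Finite G] : (D.U.subgroupOf D.Γ).Normal where
  conj_mem := by
    rintro ⟨n, hn⟩ h ⟨g, hg⟩
    rw [mem_subgroupOf] at h ⊢
    exact D.res.U_M g (D.Γ_M hg) n h

instance [Finite G] : (D.U.subgroupOf D.Γ).Normal := D.normal

/-- `Γ / U`, multiplicative -/
abbrev SM : Type u := D.Γ ⧸ D.U.subgroupOf D.Γ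

instance [Finite G] : CommGroup D.SM :=
  { (inferInstance : Group D.SM) with
    mul_comm := by
      intro a b
      obtain ⟨x, rfl⟩ := QuotientGroup.mk_surjective a
      obtain ⟨y, rfl⟩ := QuotientGroup.mk_surjective b
      rw [← QuotientGroup.mk_mul, ← QuotientGroup.mk_mul, QuotientGroup.eq, mem_subgroupOf]
      exact D.Γ_comm_U x.2 y.2 }

/-- `S = Γ / U` -/
def S : Type u := Additive D.SM

noncomputable instance [Finite G] : AddCommGroup D.S := inferInstanceAs (AddCommGroup (Additive D.SM))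

open Classical in
/-- `x ↦ x U` -/
noncomputable def cl (x : G) : D.S := if h : x ∈ D.Γ then Additive.ofMul (QuotientGroup.mk ⟨x, h⟩ : D.SM) else
  Additive.ofMul (QuotientGroup.mk 1 : D.SM)

theorem cl_of {x : G} (h : x ∈ D.Γ) : D.cl x = Additive.ofMul (QuotientGroup.mk ⟨x, h⟩ : D.SM) := dif_pos h

theorem cl_surj (s : D.S) : ∃ x ∈ D.Γ, D.cl x = s := by
  obtain ⟨x, hx⟩ := QuotientGroup.mk_surjective (s := D.U.subgroupOf D.Γ) (Additive.toMul s)
  exact ⟨x, x.2, by rw [D.cl_of x.2]; exact hx⟩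

theorem cl_mul [Finite G] {x y : G} (hx : x ∈ D.Γ) (hy : y ∈ D.Γ) : D.cl (x * y) = D.cl x + D.cl y := by
  rw [D.cl_of hx, D.cl_of hy, D.cl_of (mul_mem hx hy)]
  rfl

theorem cl_eq_iff {x y : G} (hx : x ∈ D.Γ) (hy : y ∈ D.Γ) : D.cl x = D.cl y ↔ x⁻¹ * y ∈ D.U := by
  rw [D.cl_of hx, D.cl_of hy]
  refine Iff.trans (Additive.ofMul.injective.eq_iff) ?_
  rw [QuotientGroup.eq, mem_subgroupOf]
  rfl

theorem cl_one [Finite G] : D.cl 1 = 0 := by
  rw [D.cl_of (one_mem _)]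
  rfl

theorem cl_eq_zero [Finite G] {x : G} (hx : x ∈ D.Γ) : D.cl x = 0 ↔ x ∈ D.U := by
  rw [← D.cl_one, D.cl_eq_iff hx (one_mem _), mul_one, inv_mem_iff]

theorem twoS [Finite G] (s : D.S) : s + s = 0 := by
  obtain ⟨x, hx, rfl⟩ := D.cl_surj s
  rw [← D.cl_mul hx hx, D.cl_eq_zero (mul_mem hx hx)]
  rcases D.Γ_sq hx with h | h
  · rw [h]; exact one_mem _
  · rw [h]; exact D.res.z_U

theorem cl_inv [Finite G] {x : G} (hx : x ∈ D.Γ) : D.cl x⁻¹ = D.cl x := by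
  have h1 := D.cl_mul (inv_mem hx) hx
  rw [inv_mul_cancel, D.cl_one] at h1
  have h2 := D.twoS (D.cl x)
  exact add_right_cancel (h1.symm.trans h2.symm)

/-! ### the action of `M` on `S` -/

/-- conjugation on `Γ` -/
def cjH (m : G) (hm : m ∈ D.M) : D.Γ →* D.Γ where
  toFun x := ⟨m * x * m⁻¹, D.Γ_conj hm x.2⟩
  map_one' := Subtype.ext (by show m * 1 * m⁻¹ = 1; group)
  map_mul' x y := Subtype.ext (by show m * (x * y) * m⁻¹ = m * x * m⁻¹ * (m * y * m⁻¹); group)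

/-- `m ∈ M` on `S` -/
noncomputable def actM [Finite G] (m : G) (hm : m ∈ D.M) : D.S →+ D.S :=
  MonoidHom.toAdditive (QuotientGroup.map (D.U.subgroupOf D.Γ) (D.U.subgroupOf D.Γ) (D.cjH m hm)
    (by
      rintro ⟨x, hx⟩ h
      rw [mem_subgroupOf] at h
      rw [mem_comap, mem_subgroupOf]
      exact D.res.U_M m hm x h))

theorem actM_cl [Finite G] {m x : G} (hm : m ∈ D.M) (hx : x ∈ D.Γ) :
    D.actM m hm (D.cl x) = D.cl (m * x * m⁻¹) := by
  rw [D.cl_of hx, D.cl_of (D.Γ_conj hm hx)]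
  rfl

open Classical in
/-- `m ∈ M` on `S` -/
noncomputable def act [Finite G] (m : G) : D.S →+ D.S := if hm : m ∈ D.M then D.actM m hm else 0

variable [Finite G]

theorem act_cl {m x : G} (hm : m ∈ D.M) (hx : x ∈ D.Γ) : D.act m (D.cl x) = D.cl (m * x * m⁻¹) := by
  rw [act, dif_pos hm, D.actM_cl hm hx]

theorem act_mul {m n : G} (hm : m ∈ D.M) (hn : n ∈ D.M) (s : D.S) : D.act (m * n) s = D.act m (D.act n s) := by
  obtain ⟨x, hx, rfl⟩ := D.cl_surj s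
  rw [D.act_cl (mul_mem hm hn) hx, D.act_cl hn hx, D.act_cl hm (D.Γ_conj hn hx)]
  congr 1
  group

theorem act_one (s : D.S) : D.act 1 s = s := by
  obtain ⟨x, hx, rfl⟩ := D.cl_surj s
  rw [D.act_cl (one_mem _) hx]
  congr 1
  group

/-- `O₂(M)` is trivial on `S` -/
theorem act_O {o : G} (ho : o ∈ O2 D.M) (s : D.S) : D.act o s = s := by
  obtain ⟨x, hx, rfl⟩ := D.cl_surj s
  rw [D.act_cl (O2_le _ ho) hx, D.cl_eq_iff (D.Γ_conj (O2_le _ ho) hx) hx]
  have hox := D.OG o ho x hx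
  rcases hox with h | h
  · rw [h, mul_inv_cancel_right, inv_mul_cancel]; exact one_mem _
  · have e : (o * x * o⁻¹)⁻¹ * x = D.z := by
      rw [inv_mul_eq_iff_eq_mul, h]
      have h1 := D.res.U_O o ho D.z D.res.z_U
      have h2 := D.Γ_cen hx D.res.z_U
      have h3 : o⁻¹ * D.z = D.z * o⁻¹ := D.res.U_O _ (inv_mem ho) D.z D.res.z_U
      calc x = x * (D.z * D.z) := by rw [D.res.zz, mul_one]
        _ = (x * D.z) * D.z := by group
        _ = (D.z * x) * D.z := by rw [h2]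
        _ = D.z * (x * o) * (o⁻¹ * D.z) := by group
        _ = D.z * (x * o) * o⁻¹ * D.z := by group
    rw [e]; exact D.res.z_U

theorem act_mulO {m o : G} (hm : m ∈ D.M) (ho : o ∈ O2 D.M) (s : D.S) : D.act (m * o) s = D.act m s := by
  rw [D.act_mul hm (O2_le _ ho), D.act_O ho]

/-- elements of `N_p` which move `U` act as `t p` up to `Γ` -/
theorem NU_of_mv {p n : G} (hp : p ∈ D.Δ) (hn : n ∈ Np D.z p) (hm : ¬ ∀ u ∈ D.U, n * u = u * n) :
    D.NU p ((D.t p)⁻¹ * n) := by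
  refine ⟨mul_mem (inv_mem (D.res.t_N hp)) hn, fun u hu => ?_⟩
  have h1 := (D.res.act_or hp hn).resolve_left hm u hu
  have h2 := D.res.t_act hp hu
  rw [← h2, mul_inv_eq_iff_eq_mul] at h1
  calc (D.t p)⁻¹ * n * u = (D.t p)⁻¹ * (n * u) := by group
    _ = u * ((D.t p)⁻¹ * n) := by rw [h1]; group

theorem act_mv {p n : G} (hp : p ∈ D.Δ) (hn : n ∈ Np D.z p) (hm : ¬ ∀ u ∈ D.U, n * u = u * n) (s : D.S) :
    D.act n s = D.act (D.t p) s := by
  have h1 := D.act_mulO (D.res.t_M hp) (D.Γ_O (D.NU_Γ hp (D.NU_of_mv hp hn hm))) s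
  rwa [mul_inv_cancel_left] at h1

/-! ### `T₀ p` -/

/-- `s ↦ s + s^{t_p}` -/
noncomputable def T₀ (p : G) : D.S →+ D.S := AddMonoidHom.id D.S + D.act (D.t p)

theorem T₀_eq (p : G) (s : D.S) : D.T₀ p s = s + D.act (D.t p) s := rfl

theorem act_eq (p : G) (s : D.S) : D.act (D.t p) s = s + D.T₀ p s := by
  rw [T₀_eq, ← add_assoc, D.twoS, zero_add]

/-- `[x, t_p]` -/
theorem br_NU {p x : G} (hp : p ∈ D.Δ) (hx : x ∈ O2 D.M) : D.NU p (x * D.t p * x⁻¹ * (D.t p)⁻¹) := by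
  have hxU : ∀ u ∈ D.U, x * u = u * x := fun u hu => D.res.U_O x hx u hu
  refine ⟨mul_mem (N_normal (D.cen_NU hp hxU) (D.res.t_N hp)) (inv_mem (D.res.t_N hp)), fun u hu => ?_⟩
  have hxU' : ∀ u ∈ D.U, x⁻¹ * u = u * x⁻¹ := fun u hu => D.res.U_O _ (inv_mem hx) u hu
  have h1 := D.cen_conj (D.res.t_M hp) hxU' u hu
  calc x * D.t p * x⁻¹ * (D.t p)⁻¹ * u = x * (D.t p * x⁻¹ * (D.t p)⁻¹ * u) := by group
    _ = (x * u) * (D.t p * x⁻¹ * (D.t p)⁻¹) := by rw [h1]; group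
    _ = u * (x * D.t p * x⁻¹ * (D.t p)⁻¹) := by rw [hxU u hu]; group

theorem T₀_cl {p x : G} (hp : p ∈ D.Δ) (hx : x ∈ D.Γ) :
    D.T₀ p (D.cl x) = D.cl (x * D.t p * x⁻¹ * (D.t p)⁻¹) := by
  have e : x * D.t p * x⁻¹ * (D.t p)⁻¹ = x * (D.t p * x⁻¹ * (D.t p)⁻¹) := by group
  have h1 := D.res.t_M hp
  rw [T₀_eq, e, D.cl_mul hx (D.Γ_conj h1 (inv_mem hx)), ← D.act_cl h1 (inv_mem hx), D.cl_inv hx]

theorem T₀_sq {p : G} (hp : p ∈ D.Δ) (s : D.S) : D.T₀ p (D.T₀ p s) = 0 := by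
  have h1 := D.res.t_M hp
  have h2 : D.act (D.t p) (D.act (D.t p) s) = s := by
    rw [← D.act_mul h1 h1, D.res.N_sq p hp _ (D.res.t_N hp), D.act_one]
  rw [T₀_eq, T₀_eq, map_add, h2, add_comm (D.act _ s) s, D.twoS]

theorem T₀_zero {p : G} {n : G} (hp : p ∈ D.Δ) (hn : D.NU p n) : D.T₀ p (D.cl n) = 0 := by
  rw [D.T₀_cl hp (D.NU_Γ hp hn), D.res.N_comm hp hn.1 (D.res.t_N hp)]
  have e : D.t p * n * n⁻¹ * (D.t p)⁻¹ = 1 := by group
  rw [e, D.cl_one]

theorem act_comm {p q : G} (hp : p ∈ D.Δ) (hq : q ∈ D.Δ) (h0 : D.f p q = 0) (s : D.S) :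
    D.act (D.t p) (D.act (D.t q) s) = D.act (D.t q) (D.act (D.t p) s) := by
  have h1 := D.res.t_M hp
  have h2 := D.res.t_M hq
  have hc : D.t p ∈ Cp q := mem_Cp.2 (D.res.t_0 p hp q (D.res.Δ_U q hq) h0)
  have h3 := N_normal hc (D.res.t_N hq)
  have h4 := D.act_mv hq h3 (D.res.conj_mv h1 (D.res.t_mv hq)) (D.act (D.t p) s)
  rw [← h4, ← D.act_mul (mul_mem (mul_mem h1 h2) (inv_mem h1)) h1, ← D.act_mul h1 h2]
  congr 2
  group

theorem T₀_comm {p q : G} (hp : p ∈ D.Δ) (hq : q ∈ D.Δ) (h0 : D.f p q = 0) (s : D.S) :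
    D.T₀ p (D.T₀ q s) = D.T₀ q (D.T₀ p s) := by
  simp only [T₀_eq, map_add]
  rw [D.act_comm hp hq h0]
  abel

theorem act_pqz {p q : G} (hp : p ∈ D.Δ) (hq : q ∈ D.Δ) (h1 : D.f p q = 1) (s : D.S) :
    D.act (D.t (p * q * D.z)) s = D.act (D.t p) (D.act (D.t q) (D.act (D.t p) s)) := by
  have h2 := D.res.t_M hp
  have h3 := D.res.t_M hq
  have h4 := D.act_mv (D.res.mul1 p hp q hq h1) (D.res.tt_N hp hq h1) (D.res.conj_mv h2 (D.res.t_mv hq)) s
  rw [← h4, D.res.t_inv hp, ← D.act_mul h3 h2, ← D.act_mul h2 (mul_mem h3 h2), mul_assoc]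

theorem T₀_conj {p q : G} (hp : p ∈ D.Δ) (hq : q ∈ D.Δ) (h1 : D.f p q = 1) (s : D.S) :
    D.T₀ (p * q * D.z) s = D.T₀ q s + D.T₀ p (D.T₀ q s) + D.T₀ q (D.T₀ p s) + D.T₀ p (D.T₀ q (D.T₀ p s)) := by
  rw [D.T₀_eq (p * q * D.z), D.act_pqz hp hq h1, D.act_eq p s, D.act_eq q, D.act_eq p]
  simp only [map_add]
  rw [D.T₀_sq hp s]
  have e : ∀ a b c d e' g : D.S, a + (a + b + (c + d) + (b + 0 + (e' + g))) = c + e' + d + g := by
    intro a b c d e' g
    have h1 := D.twoS a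
    have h2 := D.twoS b
    calc a + (a + b + (c + d) + (b + 0 + (e' + g))) = (a + a) + (b + b) + (c + e' + d + g) := by abel
      _ = _ := by rw [h1, h2, add_zero, zero_add]
  exact e _ _ _ _ _ _

/-- **(9)**, injectivity -/
theorem inj0 {p q n : G} (hp : p ∈ D.Δ) (hq : q ∈ D.Δ) (h1 : D.f p q = 1) (hn : D.NU p n)
    (hk : n * D.t q * n⁻¹ * (D.t q)⁻¹ ∈ D.U) : n ∈ D.U := by
  have hpU := D.res.Δ_U p hp
  have hqU := D.res.Δ_U q hq
  have hnc : n ∈ Cp q := D.cen_NU hq hn.2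
  have htq := D.res.t_N hq
  have hkN : n * D.t q * n⁻¹ * (D.t q)⁻¹ ∈ Np D.z q := mul_mem (N_normal hnc htq) (inv_mem htq)
  -- the main case
  have main : ∀ n, D.NU p n → (n * D.t q * n⁻¹ * (D.t q)⁻¹ = 1 ∨ n * D.t q * n⁻¹ * (D.t q)⁻¹ = D.z) →
      n = 1 ∨ n = D.z := by
    intro n hn hk
    have e1 : D.t q * p * (D.t q)⁻¹ = q * p * D.z := by
      rw [D.res.t_act hq hpU, D.res.f_symm q hqU p hpU, h1, pw_one, ← mul_assoc, D.res.U_comm p hpU q hqU]
    have h2 : D.f q p = 1 := by rw [D.res.f_symm q hqU p hpU]; exact h1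
    have h3 := D.res.mul1 q hq p hp h2
    have h4 : D.t q * n⁻¹ * (D.t q)⁻¹ ∈ Np D.z (q * p * D.z) := by
      rw [← e1, ← cj_Np (D.res.M_z (D.res.t_M hq))]
      exact conj_mem_cj (inv_mem hn.1)
    have h5 : n ∈ Np D.z (q * p * D.z) := by
      have e2 : n = (n * D.t q * n⁻¹ * (D.t q)⁻¹) * (D.t q * n⁻¹ * (D.t q)⁻¹)⁻¹ := by group
      rw [e2]
      refine mul_mem ?_ (inv_mem h4)
      rcases hk with hk | hk <;> rw [hk]
      · exact one_mem _
      · exact z_N _ _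
    refine D.NN p hp _ h3 ?_ n hn.1 h5
    rw [D.res.f_add' hpU (mul_mem hqU hpU) D.res.z_U, D.res.f_z' hpU, D.res.f_add' hpU hqU hpU, D.res.f_self p hpU, h1]
    decide
  have hz := D.res.z_U
  rcases D.UN q hq _ hk hkN with h | h | h | h
  · rcases main n hn (Or.inl h) with h | h <;> rw [h]
    · exact one_mem _
    · exact hz
  · -- `k = q`
    have h2 := D.res.u_act hq hpU
    rw [D.res.f_symm q hqU p hpU, h1, pw_one] at h2
    have e : n * p * D.t q * (n * p)⁻¹ * (D.t q)⁻¹ = (n * D.t q * n⁻¹ * (D.t q)⁻¹) * (q * D.z) := by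
      have hc1 : n * (q * D.z) = q * D.z * n := hn.2 _ (mul_mem hqU hz)
      have hc2 : D.t q * (q * D.z) = q * D.z * D.t q :=
        D.res.t_0 q hq _ (mul_mem hqU hz) (by
          rw [D.res.f_add' hqU hqU hz, D.res.f_self q hqU, D.res.f_z' hqU, add_zero])
      calc n * p * D.t q * (n * p)⁻¹ * (D.t q)⁻¹ = n * (p * D.t q * p⁻¹) * n⁻¹ * (D.t q)⁻¹ := by group
        _ = n * (D.t q * (q * D.z)) * n⁻¹ * (D.t q)⁻¹ := by rw [h2]
        _ = n * D.t q * (q * D.z * n⁻¹) * (D.t q)⁻¹ := by group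
        _ = n * D.t q * (n⁻¹ * (q * D.z)) * (D.t q)⁻¹ := by
          rw [show q * D.z * n⁻¹ = n⁻¹ * (q * D.z) by rw [eq_inv_mul_iff_mul_eq, ← mul_assoc, hc1, mul_inv_cancel_right]]
        _ = n * D.t q * n⁻¹ * (q * D.z * (D.t q)⁻¹) := by group
        _ = n * D.t q * n⁻¹ * ((D.t q)⁻¹ * (q * D.z)) := by
          rw [show q * D.z * (D.t q)⁻¹ = (D.t q)⁻¹ * (q * D.z) by
            rw [eq_inv_mul_iff_mul_eq, ← mul_assoc, hc2, mul_inv_cancel_right]]
        _ = _ := by group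
    rw [h] at e
    have e3 : q * (q * D.z) = D.z := by rw [← mul_assoc, D.res.U_sq q hqU, one_mul]
    rw [e3] at e
    rcases main (n * p) (D.NU_mul hn (D.NU_p hp)) (Or.inr e) with h3 | h3
    · have : n = p⁻¹ := eq_inv_of_mul_eq_one_left h3
      rw [this]; exact inv_mem hpU
    · have : n = D.z * p⁻¹ := eq_mul_inv_of_mul_eq h3
      rw [this]; exact mul_mem hz (inv_mem hpU)
  · rcases main n hn (Or.inr h) with h | h <;> rw [h]
    · exact one_mem _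
    · exact hz
  · -- `k = q z`
    have h2 := D.res.u_act hq hpU
    rw [D.res.f_symm q hqU p hpU, h1, pw_one] at h2
    have e : n * p * D.t q * (n * p)⁻¹ * (D.t q)⁻¹ = (n * D.t q * n⁻¹ * (D.t q)⁻¹) * (q * D.z) := by
      have hc1 : n * (q * D.z) = q * D.z * n := hn.2 _ (mul_mem hqU hz)
      have hc2 : D.t q * (q * D.z) = q * D.z * D.t q :=
        D.res.t_0 q hq _ (mul_mem hqU hz) (by
          rw [D.res.f_add' hqU hqU hz, D.res.f_self q hqU, D.res.f_z' hqU, add_zero])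
      calc n * p * D.t q * (n * p)⁻¹ * (D.t q)⁻¹ = n * (p * D.t q * p⁻¹) * n⁻¹ * (D.t q)⁻¹ := by group
        _ = n * (D.t q * (q * D.z)) * n⁻¹ * (D.t q)⁻¹ := by rw [h2]
        _ = n * D.t q * (q * D.z * n⁻¹) * (D.t q)⁻¹ := by group
        _ = n * D.t q * (n⁻¹ * (q * D.z)) * (D.t q)⁻¹ := by
          rw [show q * D.z * n⁻¹ = n⁻¹ * (q * D.z) by rw [eq_inv_mul_iff_mul_eq, ← mul_assoc, hc1, mul_inv_cancel_right]]
        _ = n * D.t q * n⁻¹ * (q * D.z * (D.t q)⁻¹) := by group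
        _ = n * D.t q * n⁻¹ * ((D.t q)⁻¹ * (q * D.z)) := by
          rw [show q * D.z * (D.t q)⁻¹ = (D.t q)⁻¹ * (q * D.z) by
            rw [eq_inv_mul_iff_mul_eq, ← mul_assoc, hc2, mul_inv_cancel_right]]
        _ = _ := by group
    rw [h] at e
    have e3 : q * D.z * (q * D.z) = 1 := D.res.pz_sq hq
    rw [e3] at e
    rcases main (n * p) (D.NU_mul hn (D.NU_p hp)) (Or.inl e) with h3 | h3
    · have : n = p⁻¹ := eq_inv_of_mul_eq_one_left h3
      rw [this]; exact inv_mem hpU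
    · have : n = D.z * p⁻¹ := eq_mul_inv_of_mul_eq h3
      rw [this]; exact mul_mem hz (inv_mem hpU)

theorem inj1 {p q n : G} (hp : p ∈ D.Δ) (hq : q ∈ D.Δ) (h1 : D.f p q = 1) (hn : D.NU p n)
    (hk : D.T₀ q (D.cl n) = 0) : D.cl n = 0 := by
  have hG := D.NU_Γ hp hn
  rw [D.T₀_cl hq hG, D.cl_eq_zero (D.NU_Γ hq (D.br_NU hq (D.Γ_O hG)))] at hk
  rw [D.cl_eq_zero hG]
  exact D.inj0 hp hq h1 hn hk

/-- `[S, Q_q, Q_q] = 0` -/
theorem QQ {q g g' : G} (hq : q ∈ D.Δ) (hg : g ∈ Qp q) (hg' : g' ∈ Qp q) (s : D.S) :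
    (s + D.act g s) + D.act g' (s + D.act g s) = 0 := by
  obtain ⟨x, hx, rfl⟩ := D.cl_surj s
  have hgM := D.res.Q_M hq hg
  have hgM' := D.res.Q_M hq hg'
  have e1 : D.cl x + D.act g (D.cl x) = D.cl (g * x * g⁻¹ * x⁻¹) := by
    rw [D.act_cl hgM hx, D.cl_mul (D.Γ_conj hgM hx) (inv_mem hx), D.cl_inv hx, add_comm]
  have hxq : x ∈ Cp q := D.cen_NU hq fun u hu => D.Γ_cen hx hu
  have h1 : g * x * g⁻¹ * x⁻¹ ∈ Qp q := by
    have e : g * x * g⁻¹ * x⁻¹ = g * (x * g⁻¹ * x⁻¹) := by group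
    rw [e]
    exact mul_mem hg (Q_normal hxq (inv_mem hg))
  have h2 : g * x * g⁻¹ * x⁻¹ ∈ D.Γ := mul_mem (D.Γ_conj hgM hx) (inv_mem hx)
  rw [e1, D.act_cl hgM' h2, ← D.cl_inv h2, ← D.cl_mul (inv_mem h2) (D.Γ_conj hgM' h2),
    D.cl_eq_zero (mul_mem (inv_mem h2) (D.Γ_conj hgM' h2))]
  have h3 := D.Γ_cen h2 (D.res.Δ_U q hq)
  set w := g * x * g⁻¹ * x⁻¹ with hw
  rcases D.res.Q_comm q hq g' hg' w h1 with h | h
  · have e : w⁻¹ * (g' * w * g'⁻¹) = 1 := by rw [h]; group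
    rw [e]; exact one_mem _
  · have e : w⁻¹ * (g' * w * g'⁻¹) = q := by
      rw [h]
      calc w⁻¹ * (q * (w * g') * g'⁻¹) = w⁻¹ * (q * w) := by group
        _ = q := by rw [← h3, inv_mul_cancel_left]
    rw [e]; exact D.res.Δ_U q hq

/-- `C' = U` -/
theorem C14' {x : G} (hx : x ∈ O2 D.M) (h : ∀ p ∈ D.Δ, x * D.t p * x⁻¹ * (D.t p)⁻¹ ∈ D.U) : x ∈ D.U := by
  refine D.C14 x hx fun p hp n hn => ?_
  have key : ∀ m, D.NU p m → x * m * x⁻¹ * m⁻¹ ∈ D.U := by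
    intro m hm
    rcases D.OG x hx m (D.NU_Γ hp hm) with h1 | h1
    · have e : x * m * x⁻¹ * m⁻¹ = 1 := by rw [h1]; group
      rw [e]; exact one_mem _
    · have e : x * m * x⁻¹ * m⁻¹ = D.z := by rw [h1]; group
      rw [e]; exact D.res.z_U
  by_cases hm : ∀ u ∈ D.U, n * u = u * n
  · exact key n ⟨hn, hm⟩
  · have h1 := D.NU_of_mv hp hn hm
    set m := (D.t p)⁻¹ * n with hm'
    have e0 : n = D.t p * m := by rw [hm']; group
    have h2 := key m h1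
    have h3 := D.res.U_M _ (D.res.t_M hp) _ h2
    have e : x * n * x⁻¹ * n⁻¹ = (x * D.t p * x⁻¹ * (D.t p)⁻¹) * (D.t p * (x * m * x⁻¹ * m⁻¹) * (D.t p)⁻¹) := by
      rw [e0]; group
    rw [e]
    exact mul_mem (h p hp) h3

/-! ### `E = U` -/

/-- the commutative group `U` -/
@[reducible] def UCG (D : OpD G) : CommGroup D.U :=
  { (inferInstance : Group D.U) with
    mul_comm := fun a b => Subtype.ext (D.res.U_comm a a.2 b b.2) }

/-- `E = U`, additive -/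
def E (D : OpD G) : Type u := Additive D.U

noncomputable instance (D : OpD G) : AddCommGroup D.E := @Additive.addCommGroup D.U D.UCG

/-- the element of `U` -/
def el {D : OpD G} (v : D.E) : G := (Additive.toMul (α := D.U) v).1

/-- the vector of `u ∈ U` -/
def ve {D : OpD G} {u : G} (hu : u ∈ D.U) : D.E := Additive.ofMul (⟨u, hu⟩ : D.U)

omit [Finite G] in
theorem el_mem {D : OpD G} (v : D.E) : el v ∈ D.U := (Additive.toMul (α := D.U) v).2

omit [Finite G] in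
theorem el_add {D : OpD G} (v w : D.E) : el (v + w) = el v * el w := rfl

omit [Finite G] in
theorem el_ve {D : OpD G} {u : G} (hu : u ∈ D.U) : el (ve hu : D.E) = u := rfl

omit [Finite G] in
theorem el_zero {D : OpD G} : el (0 : D.E) = 1 := rfl

omit [Finite G] in
theorem el_inj {D : OpD G} {v w : D.E} (h : el v = el w) : v = w :=
  Additive.toMul.injective (Subtype.ext h)

/-- the form on `E` -/
def F (v w : D.E) : ZMod 2 := D.f (el v) (el w)

open Classical in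
/-- the operator of an element of `U` -/
noncomputable def TT (u : G) : D.S →+ D.S := if u ∈ D.Δ then D.T₀ u else if u * D.z ∈ D.Δ then D.T₀ (u * D.z) else 0

/-- the operators -/
noncomputable def T (v : D.E) : D.S →+ D.S := D.TT (el v)

theorem TT_Δ {p : G} (hp : p ∈ D.Δ) : D.TT p = D.T₀ p := if_pos hp

theorem TT_pz {p : G} (hp : p ∈ D.Δ) : D.TT (p * D.z) = D.T₀ p := by
  have e : p * D.z * D.z = p := by rw [mul_assoc, D.res.zz, mul_one]
  rw [TT, if_neg (D.res.inj p hp), e, if_pos hp]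

theorem TT_one : D.TT 1 = 0 := by
  rw [TT, if_neg D.res.Δ_1, one_mul, if_neg D.res.Δ_z]

theorem TT_z : D.TT D.z = 0 := by
  rw [TT, if_neg D.res.Δ_z, D.res.zz, if_neg D.res.Δ_1]

theorem TT_mulz {u : G} (hu : u ∈ D.U) : D.TT (u * D.z) = D.TT u := by
  rcases D.res.cover u hu with rfl | rfl | h | h
  · rw [one_mul, TT_z, TT_one]
  · rw [D.res.zz, TT_z, TT_one]
  · rw [D.TT_pz h, D.TT_Δ h]
  · have e : u * D.z * D.z = u := by rw [mul_assoc, D.res.zz, mul_one]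
    rw [D.TT_Δ h]
    have := D.TT_pz h
    rw [e] at this
    exact this.symm

/-- the cases of an element of `U` -/
theorem cases {u : G} (hu : u ∈ D.U) : ((u = 1 ∨ u = D.z) ∧ D.TT u = 0 ∧ ∀ w ∈ D.U, D.f u w = 0) ∨
    ∃ p ∈ D.Δ, (u = p ∨ u = p * D.z) ∧ D.TT u = D.T₀ p ∧ ∀ w ∈ D.U, D.f u w = D.f p w := by
  rcases D.res.cover u hu with rfl | rfl | h | h
  · exact Or.inl ⟨Or.inl rfl, D.TT_one, fun w hw => D.res.one_f hw⟩
  · exact Or.inl ⟨Or.inr rfl, D.TT_z, fun w hw => D.res.f_z w hw⟩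
  · exact Or.inr ⟨u, h, Or.inl rfl, D.TT_Δ h, fun w _ => rfl⟩
  · have e : u * D.z * D.z = u := by rw [mul_assoc, D.res.zz, mul_one]
    refine Or.inr ⟨u * D.z, h, Or.inr e.symm, ?_, fun w hw => ?_⟩
    · rw [← D.TT_mulz hu, D.TT_Δ h]
    · rw [D.res.f_add u hu D.z D.res.z_U w hw, D.res.f_z w hw, add_zero]

omit [Finite G] in
theorem f_right {u w p : G} (hu : u ∈ D.U) (hw : w ∈ D.U) (hp : p ∈ D.Δ) (h : ∀ w ∈ D.U, D.f u w = D.f p w) :
    D.f w u = D.f w p := by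
  rw [D.res.f_symm w hw u hu, h w hw, D.res.f_symm w hw p (D.res.Δ_U p hp)]

/-- `TT` of a product with the points -/
theorem TT_mul {u v p q : G} (hu : u = p ∨ u = p * D.z) (hv : v = q ∨ v = q * D.z) (hp : p ∈ D.Δ) (hq : q ∈ D.Δ) :
    D.TT (u * v) = D.TT (p * q) := by
  have hpU := D.res.Δ_U p hp
  have hqU := D.res.Δ_U q hq
  have hz := D.res.z_U
  rcases hu with rfl | rfl <;> rcases hv with rfl | rfl
  · rfl
  · rw [← mul_assoc, D.TT_mulz (mul_mem hpU hqU)]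
  · rw [mul_assoc, D.res.U_comm _ hz _ hqU, ← mul_assoc, D.TT_mulz (mul_mem hpU hqU)]
  · have e : p * D.z * (q * D.z) = p * q := by
      calc p * D.z * (q * D.z) = p * (D.z * q) * D.z := by group
        _ = p * q * (D.z * D.z) := by rw [D.res.U_comm _ hz _ hqU]; group
        _ = p * q := by rw [D.res.zz, mul_one]
    rw [e]

/-- `D q r = t_r t_{qr} - 1`, an element of `Q_q` -/
theorem exD {q r : G} (hq : q ∈ D.Δ) (hr : r ∈ D.U) (h0 : D.f q r = 0) :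
    ∃ g ∈ Qp q, ∀ s, D.TT r s + D.TT (q * r) s + D.TT r (D.TT (q * r) s) = s + D.act g s := by
  have hqU := D.res.Δ_U q hq
  rcases D.cases hr with ⟨h1, h2, -⟩ | ⟨p, hp, h1, h2, h3⟩
  · refine ⟨D.t q, D.res.N_le_Q hq (D.res.t_N hq), fun s => ?_⟩
    have e : D.TT (q * r) = D.T₀ q := by
      rcases h1 with rfl | rfl
      · rw [mul_one, D.TT_Δ hq]
      · rw [D.TT_pz hq]
    rw [h2, e]
    show (0 : D.S) + D.T₀ q s + 0 = _
    rw [zero_add, add_zero, T₀_eq]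
  · have e1 : D.TT (q * r) = D.TT (q * p) := D.TT_mul (Or.inl rfl) h1 hq hp
    have h4 : D.f q p = 0 := by rw [← D.f_right hr hqU hp h3]; exact h0
    by_cases hqp : q = p
    · subst hqp
      refine ⟨D.t q, D.res.N_le_Q hq (D.res.t_N hq), fun s => ?_⟩
      rw [e1, h2, D.res.U_sq q hqU, D.TT_one]
      show D.T₀ q s + (0 : D.S) + D.T₀ q (0 : D.S) = _
      rw [map_zero, add_zero, add_zero, T₀_eq]
    · obtain ⟨g, hg, hgp⟩ := D.res.Q_mv q hq p hp hqp h4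
      have hqpΔ := D.res.mul0 q hq p hp hqp h4
      have hgM := D.res.Q_M hq hg
      have htM := D.res.t_M hp
      have hpU := D.res.Δ_U p hp
      have e2 : g * p * g⁻¹ = q * p := by rw [hgp, D.res.U_comm p hpU q hqU]
      have h5 : g * D.t p * g⁻¹ ∈ Np D.z (q * p) := by
        rw [← e2, ← cj_Np (D.res.M_z hgM)]
        exact conj_mem_cj (D.res.t_N hp)
      have h6 : ∀ s, D.act (D.t (q * p)) s = D.act (g * D.t p * g⁻¹) s := fun s =>
        (D.act_mv hqpΔ h5 (D.res.conj_mv hgM (D.res.t_mv hp)) s).symm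
      have hgM' : g * D.t p * g⁻¹ ∈ D.M := mul_mem (mul_mem hgM htM) (inv_mem hgM)
      refine ⟨D.t p * (g * D.t p * g⁻¹), ?_, fun s => ?_⟩
      · have hc : D.t p ∈ Cp q := mem_Cp.2 (D.res.t_0 p hp q hqU (by rw [D.res.f_symm p hpU q hqU]; exact h4))
        have h7 := Q_normal hc hg
        have e3 : D.t p * (g * D.t p * g⁻¹) = (D.t p * g * (D.t p)⁻¹) * g⁻¹ := by rw [D.res.t_inv hp]; group
        rw [e3]
        exact mul_mem h7 (inv_mem hg)
      · rw [e1, h2, D.TT_Δ hqpΔ, D.act_mul htM hgM', ← h6]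
        simp only [T₀_eq, map_add]
        have e : ∀ a b c d : D.S, a + b + (a + c) + (a + b + (c + d)) = a + d := by
          intro a b c d
          calc a + b + (a + c) + (a + b + (c + d)) = (a + a) + (b + b) + (c + c) + (a + d) := by abel
            _ = _ := by rw [D.twoS a, D.twoS b, D.twoS c, zero_add, zero_add, zero_add]
        exact e s (D.act (D.t p) s) (D.act (D.t (q * p)) s) (D.act (D.t p) (D.act (D.t (q * p)) s))

/-- **(17)**: the operator system -/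
theorem ops : OpSys D.F D.T := by
  have hz := D.res.z_U
  refine OpSys.of_raw D.twoS ?_ ?_ ?_ ?_ ?_ ?_ ?_ ?_ ?_ ?_ ?_ ?_ ?_
  · intro v
    apply el_inj
    rw [el_add, el_zero]
    exact D.res.U_sq _ (el_mem v)
  · exact fun u v w => D.res.f_add _ (el_mem u) _ (el_mem v) _ (el_mem w)
  · exact fun v w => D.res.f_symm _ (el_mem v) _ (el_mem w)
  · exact fun v => D.res.f_self _ (el_mem v)
  · -- rad
    intro v hv s
    rcases D.cases (el_mem v) with ⟨-, h, -⟩ | ⟨p, hp, -, h2, h3⟩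
    · show D.TT (el v) s = 0
      rw [h]; rfl
    · exfalso
      obtain ⟨q, hq, h1⟩ := D.res.exists_q1 hp
      have h4 := hv (ve (D.res.Δ_U q hq))
      have h5 : D.f (el v) q = 0 := h4
      rw [h3 q (D.res.Δ_U q hq), h1] at h5
      exact one_ne_zero h5
  · -- radd
    intro v c hc s
    have h1 : el c = 1 ∨ el c = D.z := D.res.f_rad _ (el_mem c) fun w hw => hc (ve hw)
    show D.TT (el v * el c) s = D.TT (el v) s
    rcases h1 with h1 | h1 <;> rw [h1]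
    · rw [mul_one]
    · rw [D.TT_mulz (el_mem v)]
  · -- sq
    intro v s
    show D.TT (el v) (D.TT (el v) s) = 0
    rcases D.cases (el_mem v) with ⟨-, h, -⟩ | ⟨p, hp, -, h2, h3⟩
    · rw [h]; rfl
    · rw [h2]; exact D.T₀_sq hp s
  · -- comm
    intro v w hvw s
    show D.TT (el v) (D.TT (el w) s) = D.TT (el w) (D.TT (el v) s)
    rcases D.cases (el_mem v) with ⟨-, h, -⟩ | ⟨p, hp, -, h2, h3⟩
    · rw [h]
      show (0 : D.S) = D.TT (el w) 0
      rw [map_zero]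
    · rcases D.cases (el_mem w) with ⟨-, h, -⟩ | ⟨q, hq, -, h5, h6⟩
      · rw [h]
        show D.TT (el v) 0 = (0 : D.S)
        rw [map_zero]
      · rw [h2, h5]
        refine D.T₀_comm hp hq ?_ s
        have h7 : D.f (el v) (el w) = 0 := hvw
        rwa [h3 _ (el_mem w), D.f_right (el_mem w) (D.res.Δ_U p hp) hq h6] at h7
  · -- inj
    intro v w hvw s hs
    have hs' : D.TT (el w) (D.TT (el v) s) = 0 := hs
    show D.TT (el v) s = 0
    rcases D.cases (el_mem v) with ⟨-, h, -⟩ | ⟨p, hp, -, h2, h3⟩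
    · rw [h]; rfl
    · rcases D.cases (el_mem w) with ⟨-, -, h⟩ | ⟨q, hq, -, h5, h6⟩
      · exfalso
        have h7 : D.f (el v) (el w) = 1 := hvw
        rw [D.res.f_symm _ (el_mem v) _ (el_mem w), h _ (el_mem v)] at h7
        exact zero_ne_one h7
      · have h7 : D.f (el v) (el w) = 1 := hvw
        rw [h3 _ (el_mem w), D.f_right (el_mem w) (D.res.Δ_U p hp) hq h6] at h7
        rw [h2] at hs' ⊢
        rw [h5] at hs'
        obtain ⟨x, hx, rfl⟩ := D.cl_surj s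
        rw [D.T₀_cl hp hx] at hs' ⊢
        exact D.inj1 hp hq h7 (D.br_NU hp (D.Γ_O hx)) hs'
  · -- conj
    intro v w hvw s
    show D.TT (el v * el w) s = D.TT (el w) s + D.TT (el v) (D.TT (el w) s) + D.TT (el w) (D.TT (el v) s) +
      D.TT (el v) (D.TT (el w) (D.TT (el v) s))
    have h7 : D.f (el v) (el w) = 1 := hvw
    rcases D.cases (el_mem v) with ⟨-, -, h⟩ | ⟨p, hp, h1, h2, h3⟩
    · exfalso
      rw [h _ (el_mem w)] at h7
      exact zero_ne_one h7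
    · rcases D.cases (el_mem w) with ⟨-, -, h⟩ | ⟨q, hq, h4, h5, h6⟩
      · exfalso
        rw [D.res.f_symm _ (el_mem v) _ (el_mem w), h _ (el_mem v)] at h7
        exact zero_ne_one h7
      · rw [h3 _ (el_mem w), D.f_right (el_mem w) (D.res.Δ_U p hp) hq h6] at h7
        have hpq := mul_mem (D.res.Δ_U p hp) (D.res.Δ_U q hq)
        rw [D.TT_mul h1 h4 hp hq, ← D.TT_mulz hpq, D.TT_Δ (D.res.mul1 p hp q hq h7), h2, h5]
        exact D.T₀_conj hp hq h7 s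
  · -- d1
    intro v w hvw s
    show D.TT (el v) (D.TT (el w) s + D.TT (el v * el w) s + D.TT (el w) (D.TT (el v * el w) s)) = 0
    have h7 : D.f (el v) (el w) = 0 := hvw
    rcases D.cases (el_mem v) with ⟨-, h, -⟩ | ⟨p, hp, h1, h2, h3⟩
    · rw [h]; rfl
    · have e : D.TT (el v * el w) = D.TT (p * el w) := by
        rcases h1 with h1 | h1
        · rw [h1]
        · have hpU := D.res.Δ_U p hp
          have e1 : p * D.z * el w = p * el w * D.z := by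
            rw [mul_assoc, D.res.U_comm _ hz _ (el_mem w), ← mul_assoc]
          rw [h1, e1, D.TT_mulz (mul_mem hpU (el_mem w))]
      rw [h3 _ (el_mem w)] at h7
      obtain ⟨g, hg, hgs⟩ := D.exD hp (el_mem w) h7
      rw [e, hgs s, h2, T₀_eq]
      exact D.QQ hp hg (D.res.N_le_Q hp (D.res.t_N hp)) s
  · -- d2
    intro v w w' hvw hvw' x y hy
    have hy' : y = D.TT (el w') x + D.TT (el v * el w') x + D.TT (el w') (D.TT (el v * el w') x) := hy
    show D.TT (el w) y + D.TT (el v * el w) y + D.TT (el w) (D.TT (el v * el w) y) = 0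
    have h7 : D.f (el v) (el w) = 0 := hvw
    have h7' : D.f (el v) (el w') = 0 := hvw'
    rcases D.cases (el_mem v) with ⟨h1, -, -⟩ | ⟨p, hp, h1, h2, h3⟩
    · have e : D.TT (el v * el w) = D.TT (el w) := by
        rcases h1 with h1 | h1 <;> rw [h1]
        · rw [one_mul]
        · rw [D.res.U_comm _ hz _ (el_mem w), D.TT_mulz (el_mem w)]
      rw [e, D.twoS, zero_add]
      rcases D.cases (el_mem w) with ⟨-, h, -⟩ | ⟨q, hq, -, h5, h6⟩
      · rw [h]; rfl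
      · rw [h5]; exact D.T₀_sq hq y
    · have e : ∀ w : D.E, D.TT (el v * el w) = D.TT (p * el w) := by
        intro w
        rcases h1 with h1 | h1
        · rw [h1]
        · have hpU := D.res.Δ_U p hp
          have e1 : p * D.z * el w = p * el w * D.z := by
            rw [mul_assoc, D.res.U_comm _ hz _ (el_mem w), ← mul_assoc]
          rw [h1, e1, D.TT_mulz (mul_mem hpU (el_mem w))]
      rw [h3 _ (el_mem w)] at h7
      rw [h3 _ (el_mem w')] at h7'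
      obtain ⟨g, hg, hgs⟩ := D.exD hp (el_mem w) h7
      obtain ⟨g', hg', hgs'⟩ := D.exD hp (el_mem w') h7'
      rw [e, hgs' x] at hy'
      rw [e, hgs y, hy']
      exact D.QQ hp hg' hg x
  · -- ker
    intro s hs
    obtain ⟨x, hx, rfl⟩ := D.cl_surj s
    rw [D.cl_eq_zero hx]
    refine D.C14' (D.Γ_O hx) fun p hp => ?_
    have h1 : D.TT p (D.cl x) = 0 := hs (ve (D.res.Δ_U p hp))
    rw [D.TT_Δ hp, D.T₀_cl hp hx, D.cl_eq_zero (D.NU_Γ hp (D.br_NU hp (D.Γ_O hx)))] at h1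
    exact h1

/-- `Σ_p = (N_p ∩ C(U)) U / U` -/
theorem mem_range {p : G} (hp : p ∈ D.Δ) (s : D.S) :
    s ∈ (D.T (ve (D.res.Δ_U p hp))).range ↔ ∃ n, D.NU p n ∧ D.cl n = s := by
  have eT : ∀ s, D.T (ve (D.res.Δ_U p hp)) s = D.T₀ p s := fun s => by
    show D.TT p s = _
    rw [D.TT_Δ hp]
  constructor
  · rintro ⟨s, rfl⟩
    obtain ⟨x, hx, rfl⟩ := D.cl_surj s
    exact ⟨_, D.br_NU hp (D.Γ_O hx), by rw [eT, D.T₀_cl hp hx]⟩
  · rintro ⟨n, hn, rfl⟩
    obtain ⟨q, hq, h1⟩ := D.res.exists_q1 hp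
    have hpU := D.res.Δ_U p hp
    have hqU := D.res.Δ_U q hq
    have h2 : D.F (ve hqU) (ve hpU) = 1 := by
      show D.f q p = 1
      rw [D.res.f_symm q hqU p hpU]; exact h1
    have h3 := D.ops.tri _ _ h2 (D.cl n)
    have h4 : D.T₀ q (D.T₀ p (D.T₀ q (D.cl n))) = D.T₀ q (D.cl n) := by
      have e2 : ∀ s, D.T (ve hqU) s = D.T₀ q s := fun s => by
        show D.TT q s = _
        rw [D.TT_Δ hq]
      have := h3
      simp only [e2, eT] at this
      exact this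
    -- `n + T_p T_q n ∈ Σ_p` is killed by `T_q`
    have hG := D.NU_Γ hp hn
    have h5 := D.br_NU hq (D.Γ_O hG)
    have h6 := D.br_NU hp (D.Γ_O (D.NU_Γ hq h5))
    obtain ⟨k, hk⟩ : ∃ k, k = n * D.t q * n⁻¹ * (D.t q)⁻¹ := ⟨_, rfl⟩
    rw [← hk] at h5 h6
    obtain ⟨l, hl⟩ : ∃ l, l = k * D.t p * k⁻¹ * (D.t p)⁻¹ := ⟨_, rfl⟩
    rw [← hl] at h6
    have e1 : D.T₀ p (D.T₀ q (D.cl n)) = D.cl l := by
      rw [D.T₀_cl hq hG, ← hk, D.T₀_cl hp (D.NU_Γ hq h5), ← hl]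
    have h7 := D.inj1 hp hq h1 (D.NU_mul hn h6) (by
      rw [D.cl_mul hG (D.NU_Γ hp h6), ← e1, map_add, h4, D.twoS])
    rw [D.cl_mul hG (D.NU_Γ hp h6), ← e1] at h7
    refine ⟨D.T₀ q (D.cl n), ?_⟩
    rw [eT]
    exact (D.ops.eq_of_add h7).symm

/-- `S` is generated by the `Σ_v` -/
theorem gen (W : AddSubgroup D.S) (hW : ∀ v, (D.T v).range ≤ W) : W = ⊤ := by
  rw [eq_top_iff]
  intro s _
  obtain ⟨x, hx, rfl⟩ := D.cl_surj s
  have key : ∀ x ∈ closure {n | ∃ p ∈ D.Δ, n ∈ Np D.z p ∧ ∀ u ∈ D.U, n * u = u * n}, D.cl x ∈ W := by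
    intro x hx
    induction hx using closure_induction with
    | mem n hn =>
      obtain ⟨p, hp, hn1, hn2⟩ := hn
      exact hW _ ((D.mem_range hp _).2 ⟨n, ⟨hn1, hn2⟩, rfl⟩)
    | one => rw [D.cl_one]; exact W.zero_mem
    | mul x y hxG hyG hx hy =>
      rw [D.cl_mul (show x ∈ D.Γ from hxG) (show y ∈ D.Γ from hyG)]
      exact W.add_mem hx hy
    | inv x hxG hx => rw [D.cl_inv (show x ∈ D.Γ from hxG)]; exact hx
  exact key x hx

end OpD

end Cfsg.Agent.Omega.HOneTwo.OpInst
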