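import Cfsg.Agent.Omega.HOneTwo.TwoPartA

/-!
# II.0h1, `q = 2`, after the transvection statement: (10)-(13) of #16429, in the version of #17243

`TS.By y = B^h` for `y = z^h`, `h ∈ C(r 0)`. Under `TS.TB D S`:
* `TB.cent_eq`: an involution of `B` which is centralised by `S` is `z`;
* `TB.eleven`, `TB.twelve`, `TB.Gam_trans`;
* `TB.BB_eq : B = ⟨z⟩`, `TB.N0_eq : Rad = ⟨r 0⟩`, `TB.ZZ_or`, `TB.ZZ_not_both`.
-/

set_option autoImplicit false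
set_option linter.unusedSectionVars false

namespace Cfsg.Agent.Omega.HOneTwo.Trans

open Subgroup

universe u

variable {G : Type u} [Group G]

namespace TS

variable (D : TS G)

/-! ### `B_y` -/

/-- `B_y = B^h` for `y = z^h`, `h ∈ C(r 0)` -/
def By (y : G) : Subgroup G where
  carrier := {x | ∀ h, h * D.r 0 = D.r 0 * h → h * D.z * h⁻¹ = y → h⁻¹ * x * h ∈ D.BB}
  one_mem' := by
    intro h _ _
    rw [mul_one, inv_mul_cancel]
    exact Subgroup.one_mem _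
  mul_mem' := by
    intro a b ha hb h h1 h2
    have e : h⁻¹ * (a * b) * h = (h⁻¹ * a * h) * (h⁻¹ * b * h) := by group
    rw [e]
    exact Subgroup.mul_mem _ (ha h h1 h2) (hb h h1 h2)
  inv_mem' := by
    intro a ha h h1 h2
    have e : h⁻¹ * a⁻¹ * h = (h⁻¹ * a * h)⁻¹ := by group
    rw [e]
    exact Subgroup.inv_mem _ (ha h h1 h2)

theorem mem_By {h : G} (hh : h * D.r 0 = D.r 0 * h) {x : G} : x ∈ D.By (h * D.z * h⁻¹) ↔ h⁻¹ * x * h ∈ D.BB := by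
  constructor
  · intro hx
    exact hx h hh rfl
  · intro hx k hk e
    have h1 : k⁻¹ * h ∈ D.M := by
      apply D.M_r
      · rw [mul_assoc, hh, ← mul_assoc, inv_comm hk, mul_assoc]
      · have h2 : k⁻¹ * h * D.z * (k⁻¹ * h)⁻¹ = D.z := by
          calc k⁻¹ * h * D.z * (k⁻¹ * h)⁻¹ = k⁻¹ * (h * D.z * h⁻¹) * k := by group
            _ = D.z := by rw [← e]; group
        exact comm_of_conj h2
    have h2 := D.BB_conj (D.mem_A.2 h1) hx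
    have e2 : k⁻¹ * h * (h⁻¹ * x * h) * (k⁻¹ * h)⁻¹ = k⁻¹ * x * k := by group
    rwa [e2] at h2

theorem By_z : D.By D.z = D.BB := by
  ext x
  have h1 := D.mem_By (h := 1) (x := x) (by rw [one_mul, mul_one])
  rw [one_mul, inv_one, mul_one, one_mul, mul_one] at h1
  exact h1

theorem By_conj {k y x : G} (hk : k * D.r 0 = D.r 0 * k) (hx : x ∈ D.By y) :
    k * x * k⁻¹ ∈ D.By (k * y * k⁻¹) := by
  intro h hh e
  have h1 := hx (k⁻¹ * h) (by rw [mul_assoc, hh, ← mul_assoc, inv_comm hk, mul_assoc]) (by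
    calc k⁻¹ * h * D.z * (k⁻¹ * h)⁻¹ = k⁻¹ * (h * D.z * h⁻¹) * k := by group
      _ = y := by rw [e]; group)
  have e2 : (k⁻¹ * h)⁻¹ * x * (k⁻¹ * h) = h⁻¹ * (k * x * k⁻¹) * h := by group
  rwa [e2] at h1

theorem By_zt {y x : G} (hy : y ∈ D.Hs.Δ) (hx : x ∈ D.By y) : x ∈ zt (D.Q (D.r 0)) := by
  obtain ⟨h, hh, rfl⟩ := hy
  have h1 := (D.mem_By hh).1 hx
  have h2 := D.zt_conj' hh (h1 _ D.r0_Δ)
  have e : h * (h⁻¹ * x * h) * h⁻¹ = x := by group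
  rwa [e] at h2

theorem self_By {y : G} (hy : y ∈ D.Hs.Δ) : y ∈ D.By y := by
  obtain ⟨h, hh, rfl⟩ := hy
  rw [D.mem_By hh]
  have e : h⁻¹ * (h * D.z * h⁻¹) * h = D.z := by group
  rw [e]
  exact D.z_BB

theorem zHs : D.z ∈ D.Hs.Δ := self_mem_Delta _ _

theorem Hs_r {y : G} (hy : y ∈ D.Hs.Δ) : y * D.r 0 = D.r 0 * y := by
  obtain ⟨h, hh, rfl⟩ := hy
  exact D.y_r hh

/-- `φ' y b = 0` iff `b` centralises `U_y` -/
theorem φ'_iff {y b : G} : D.Hs.φ y b = 0 ↔ b ∈ centralizer (D.Uy y : Set G) := by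
  unfold Side.φ
  by_cases h : b ∈ centralizer (D.Uy y : Set G)
  · rw [if_pos (show b ∈ D.Hs.K y from h)]; exact ⟨fun _ => h, fun _ => rfl⟩
  · rw [if_neg (show b ∉ D.Hs.K y from h)]; exact ⟨fun h' => absurd h' one_ne_zero, fun h' => absurd h' h⟩

theorem mem_cU {y b : G} : b ∈ centralizer (D.Uy y : Set G) ↔ ∀ u ∈ D.Uy y, b * u = u * b := by
  rw [mem_centralizer_iff]
  exact ⟨fun h u hu => (h u hu).symm, fun h u hu => (h u hu).symm⟩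

theorem cU_conj {k y b : G} (hk : k * D.r 0 = D.r 0 * k) (hb : b ∈ centralizer (D.Uy y : Set G)) :
    k * b * k⁻¹ ∈ centralizer (D.Uy (k * y * k⁻¹) : Set G) := by
  rw [mem_cU] at hb ⊢
  intro u hu
  have h1 := D.Uy_conj (inv_comm hk) hu
  have e : k⁻¹ * (k * y * k⁻¹) * k⁻¹⁻¹ = y := by group
  rw [e] at h1
  have h2 := hb _ h1
  calc k * b * k⁻¹ * u = k * (b * (k⁻¹ * u * k⁻¹⁻¹)) * k⁻¹ := by group
    _ = u * (k * b * k⁻¹) := by rw [h2]; group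

theorem cU_conj_iff {k y b : G} (hk : k * D.r 0 = D.r 0 * k) :
    k * b * k⁻¹ ∈ centralizer (D.Uy (k * y * k⁻¹) : Set G) ↔ b ∈ centralizer (D.Uy y : Set G) := by
  refine ⟨fun h => ?_, D.cU_conj hk⟩
  have h1 := D.cU_conj (inv_comm hk) h
  have e : k⁻¹ * (k * y * k⁻¹) * k⁻¹⁻¹ = y := by group
  have e2 : k⁻¹ * (k * b * k⁻¹) * k⁻¹⁻¹ = b := by group
  rwa [e, e2] at h1

theorem φ'_conj {k y b : G} (hk : k * D.r 0 = D.r 0 * k) : D.Hs.φ (k * y * k⁻¹) (k * b * k⁻¹) = D.Hs.φ y b := by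
  rcases zmod_cases (D.Hs.φ y b) with h | h
  · rw [h]
    exact D.φ'_iff.2 ((D.cU_conj_iff hk).2 (D.φ'_iff.1 h))
  · rw [h]
    apply zmod_one
    intro h1
    have h2 := D.φ'_iff.2 ((D.cU_conj_iff hk).1 (D.φ'_iff.1 h1))
    rw [h] at h2
    exact one_ne_zero h2

/-- `g_y` is additive on `Z(Q₁)` -/
theorem cU_mul {y b c : G} (hy : y ∈ D.Hs.Δ) (hb : b ∈ zt (D.Q (D.r 0))) (hc : c ∈ zt (D.Q (D.r 0)))
    (h1 : b ∉ centralizer (D.Uy y : Set G)) (h2 : c ∉ centralizer (D.Uy y : Set G)) :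
    b * c ∈ centralizer (D.Uy y : Set G) := by
  obtain ⟨h, hh, rfl⟩ := hy
  have hh' := inv_comm hh
  have key : ∀ x ∈ zt (D.Q (D.r 0)), x ∉ centralizer (D.Uy (h * D.z * h⁻¹) : Set G) →
      ∀ u ∈ D.U, (h⁻¹ * x * h) * u * (h⁻¹ * x * h)⁻¹ = u * pw (D.r 0 * D.z) (D.φ (D.r 0) u) := by
    intro x hx hxU
    have hx' : h⁻¹ * x * h ∈ zt (D.Q (D.r 0)) := by
      have := D.zt_conj' hh' hx
      rwa [inv_inv] at this
    refine (D.zt_act0 hx').resolve_left fun h3 => hxU ?_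
    rw [mem_cU]
    intro u hu
    have h4 := comm_of_conj (h3 _ (D.Uy_le hh hu))
    calc x * u = h * ((h⁻¹ * x * h) * (h⁻¹ * u * h)) * h⁻¹ := by group
      _ = u * x := by rw [h4]; group
  rw [mem_cU]
  intro u hu
  have hu' := D.Uy_le hh hu
  have e1 := key b hb h1
  have e2 := key c hc h2
  have hr := D.r0_Δ
  have hrz : D.r 0 * D.z ∈ D.U := Subgroup.mul_mem _ (D.r_mem 0) D.z_mem
  have hp : pw (D.r 0 * D.z) (D.φ (D.r 0) (h⁻¹ * u * h)) ∈ D.U := D.Ms.pw_mem hrz _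
  have h5 : (h⁻¹ * b * h) * (h⁻¹ * c * h) * (h⁻¹ * u * h) * ((h⁻¹ * b * h) * (h⁻¹ * c * h))⁻¹ = h⁻¹ * u * h := by
    calc (h⁻¹ * b * h) * (h⁻¹ * c * h) * (h⁻¹ * u * h) * ((h⁻¹ * b * h) * (h⁻¹ * c * h))⁻¹
        = (h⁻¹ * b * h) * ((h⁻¹ * c * h) * (h⁻¹ * u * h) * (h⁻¹ * c * h)⁻¹) * (h⁻¹ * b * h)⁻¹ := by group
      _ = h⁻¹ * u * h := by
        rw [e2 _ hu', e1 _ (Subgroup.mul_mem _ hu' hp), D.φ_mul hr hu' hp,
          show D.φ (D.r 0) (pw (D.r 0 * D.z) (D.φ (D.r 0) (h⁻¹ * u * h))) = 0 from by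
            rw [show D.φ (D.r 0) (pw (D.r 0 * D.z) (D.φ (D.r 0) (h⁻¹ * u * h))) =
              D.φ (D.r 0) (h⁻¹ * u * h) * D.φ (D.r 0) (D.r 0 * D.z) from D.Ms.φ_pw hr _,
              D.φ_mul hr (D.r_mem 0) D.z_mem, D.φ_self hr, D.φ_z hr, add_zero, mul_zero], add_zero, mul_assoc,
          pw_zz _ (D.mul_self hrz), mul_one]
  have h6 := comm_of_conj h5
  calc b * c * u = h * ((h⁻¹ * b * h) * (h⁻¹ * c * h) * (h⁻¹ * u * h)) * h⁻¹ := by group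
    _ = u * (b * c) := by rw [h6]; group

/-- the third point -/
theorem third {y : G} (hy : y ∈ D.Hs.Δ) (h1 : D.Hs.φ y D.z = 1) :
    (∃ v ∈ D.Uy y, v * D.z * v⁻¹ = D.z * (y * D.r 0)) ∧ ∃ u ∈ D.U, u * y * u⁻¹ = D.z * (y * D.r 0) := by
  have hyU : y ∈ D.Hs.U := D.Hs.Δ_le hy
  have hzU : D.z ∈ D.Hs.U := D.Hs.Δ_le D.zHs
  refine ⟨⟨D.Hs.t y, D.Hs.t_mem hy, ?_⟩, D.Hs.t D.z, ?_, ?_⟩
  · rw [D.Hs.t_act hy hzU, h1, pw_one]; rfl
  · have := D.Hs.t_mem D.zHs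
    rw [show D.Hs.N D.z = D.Uy D.z from rfl, D.Uy_z] at this
    exact this
  · rw [D.Hs.t_act D.zHs hyU, D.Hs.symm D.zHs hy, h1, pw_one, ← mul_assoc, D.Hs.U_comm hyU hzU, mul_assoc]; rfl

/-- **(10)** -/
theorem ten {y b : G} (hy : y ∈ D.Hs.Δ) (h1 : D.Hs.φ y D.z = 1) (hb : b ∈ D.BB)
    (hbU : b ∈ centralizer (D.Uy y : Set G)) : b ∈ D.By y := by
  obtain ⟨⟨v, hv, e1⟩, u, hu, e2⟩ := D.third hy h1
  have hvr : v * D.r 0 = D.r 0 * v := mem_centralizer_singleton_iff.1 (D.Hs.N_le y hy hv)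
  have hur : u * D.r 0 = D.r 0 * u := D.U_r hu
  rw [← D.By_z] at hb
  have h2 := D.By_conj hvr hb
  rw [conj_of_comm ((D.mem_cU.1 hbU v hv).symm), e1] at h2
  rw [D.By_z] at hb
  have h3 := D.By_conj (inv_comm hur) h2
  have hub : u⁻¹ * b * u⁻¹⁻¹ = b := conj_of_comm (inv_comm (D.BB_U hb hu).symm)
  have e3 : u⁻¹ * (D.z * (y * D.r 0)) * u⁻¹⁻¹ = y := by rw [← e2]; group
  rwa [hub, e3] at h3

/-- `U ≤ ⟨r^{C(b)}⟩` for `b ∈ B` -/
theorem U_le_gen {b : G} (hb : b ∈ D.BB) : D.U ≤ gen b (D.r 0) := by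
  have h1 : D.U = closure D.Δ := rfl
  rw [h1, closure_le]
  intro p hp
  obtain ⟨g, hg, rfl⟩ := D.MQ_trans D.r0_Δ hp
  exact subset_closure ⟨g, (D.BB_MQ hb hg).symm, rfl⟩

theorem Uy_le_gen {b y : G} (hy : y ∈ D.Hs.Δ) (hb : b ∈ D.By y) : D.Uy y ≤ gen b (D.r 0) := by
  obtain ⟨h, hh, rfl⟩ := hy
  have h1 := (D.mem_By hh).1 hb
  intro u hu
  have h2 := D.U_le_gen h1 (D.Uy_le hh hu)
  have h3 := gen_conj h h2
  have e : h * (h⁻¹ * u * h) * h⁻¹ = u := by group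
  have e2 : h * (h⁻¹ * b * h) * h⁻¹ = b := by group
  rwa [e, e2, conj_of_comm hh] at h3

theorem self_Uy {y : G} (hy : y ∈ D.Hs.Δ) : y ∈ D.Uy y := by
  obtain ⟨h, hh, rfl⟩ := hy
  rw [D.mem_Uy hh]
  have e : h⁻¹ * (h * D.z * h⁻¹) * h = D.z := by group
  rw [e]
  exact D.z_mem

theorem r_By {y : G} (hy : y ∈ D.Hs.Δ) : D.r 0 ∉ D.By y := by
  obtain ⟨h, hh, rfl⟩ := hy
  rw [D.mem_By hh]
  have e : h⁻¹ * D.r 0 * h = D.r 0 := by
    have := conj_of_comm (inv_comm hh)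
    rwa [inv_inv] at this
  rw [e]
  exact D.Δ_BB D.r0_Δ

end TS

/-- a normal nontrivial subgroup of a 2-group contains a central involution -/
theorem exists_central_inv [Finite G] {S K : Subgroup G} (hS : IsPGroup 2 S) (hK : K ≤ S)
    (hn : ∀ s ∈ S, ∀ x ∈ K, s * x * s⁻¹ ∈ K) {b : G} (hb : b ∈ K) (hb1 : b ≠ 1) :
    ∃ f ∈ K, f ≠ 1 ∧ f * f = 1 ∧ ∀ s ∈ S, s * f = f * s := by
  classical
  have : Fact (Nat.Prime 2) := ⟨Nat.prime_two⟩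
  have hJ : IsPGroup 2 K := hS.to_le hK
  let act : MulAction S K :=
    { smul := fun w j => ⟨w * j * (w : G)⁻¹, hn w w.2 j j.2⟩
      one_smul := fun j => Subtype.ext (by show ((1 : S) : G) * j * ((1 : S) : G)⁻¹ = j; simp)
      mul_smul := fun w w' j => Subtype.ext (by
        show ((w * w' : S) : G) * j * ((w * w' : S) : G)⁻¹ = w * (w' * j * (w' : G)⁻¹) * (w : G)⁻¹
        rw [Subgroup.coe_mul, mul_inv_rev]; group) }
  have hd : 2 ∣ Nat.card K := by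
    obtain ⟨k, hk⟩ := IsPGroup.iff_card.1 hJ
    rcases Nat.eq_zero_or_pos k with h0 | h0
    · exfalso
      rw [h0, pow_zero] at hk
      have h1 := Subgroup.card_eq_one.1 hk
      rw [h1] at hb
      exact hb1 (mem_bot.1 hb)
    · rw [hk]; exact dvd_pow_self 2 (by omega)
  have h1 : (1 : K) ∈ MulAction.fixedPoints S K :=
    fun w => Subtype.ext (by show (w : G) * ((1 : K) : G) * (w : G)⁻¹ = _; simp)
  obtain ⟨a, ha, ha1⟩ := hS.exists_fixed_point_of_prime_dvd_card_of_fixed_point K hd h1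
  have haS : ∀ s ∈ S, s * (a : G) = a * s := by
    intro w hw
    have h2 := congrArg Subtype.val (ha ⟨w, hw⟩)
    have h3 : w * (a : G) * w⁻¹ = a := h2
    rwa [mul_inv_eq_iff_eq_mul] at h3
  have ha1' : (a : G) ≠ 1 := fun h => ha1 (Subtype.ext h.symm)
  -- a power of `a` is an involution
  obtain ⟨k, hk⟩ := (hJ.to_le (le_refl K)) a
  have hk' : (a : G) ^ 2 ^ k = 1 := by
    have := congrArg Subtype.val hk
    simpa using this
  have hex : ∃ n, (a : G) ^ 2 ^ n = 1 := ⟨k, hk'⟩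
  set n := Nat.find hex with hndef
  have hn1 : (a : G) ^ 2 ^ n = 1 := Nat.find_spec hex
  have hn0 : n ≠ 0 := by
    intro h
    rw [h, pow_zero, pow_one] at hn1
    exact ha1' hn1
  obtain ⟨m, hm⟩ := Nat.exists_eq_succ_of_ne_zero hn0
  have hlt : m < Nat.find hex := by rw [← hndef, hm]; exact Nat.lt_succ_self m
  refine ⟨(a : G) ^ 2 ^ m, K.pow_mem a.2 _, Nat.find_min hex hlt, ?_, fun s hs => ?_⟩
  · rw [← pow_add, ← two_mul, ← pow_succ']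
    rw [hm] at hn1
    exact hn1
  · exact (Commute.pow_right (haS s hs) _)

namespace TS

variable (D : TS G)

/-! ### The Sylow group -/

/-- what is used of the Sylow group `S ≤ C(r 0) ∩ C(z)` -/
structure TB (S : Subgroup G) : Prop where
  S_two : IsPGroup 2 S
  Q_S : D.Q (D.r 0) ≤ S
  S_r : ∀ s ∈ S, s * D.r 0 = D.r 0 * s
  S_z : ∀ s ∈ S, s * D.z = D.z * s
  /-- `O₂(H₁ / C(N₁)) = 1` -/
  hO : D.Hs.O2
  /-- Baer-Suzuki in `H₁` -/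
  bs : ∀ u ∈ D.U, u ∉ D.Q (D.r 0) → ∃ h, h * D.r 0 = D.r 0 * h ∧ (u * (h * u * h⁻¹)) ^ 4 ≠ 1
  /-- `⟨r^{C(f)}⟩` is abelian for an involution `f ∈ Z(S)` -/
  ab : ∀ f, f * f = 1 → f ≠ 1 → (∀ s ∈ S, s * f = f * s) →
    ∀ x ∈ gen f (D.r 0), ∀ y ∈ gen f (D.r 0), x * y = y * x

namespace TB

variable {D} {S : Subgroup G} (T : D.TB S)

include T

/-- **(8)**: `B ∩ Ω₁(Z(S)) = ⟨z⟩` -/
theorem cent_eq {f : G} (hf : f ∈ D.BB) (hf2 : f * f = 1) (hf1 : f ≠ 1) (hfS : ∀ s ∈ S, s * f = f * s) :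
    f = D.z := by
  by_contra hfz
  -- an element of `U - Q₁`
  obtain ⟨u, hu, n, hn, hne⟩ := D.ts_ne
  have huU : u ∈ D.U := hu
  have huQ : u ∉ D.Q (D.r 0) := fun h => hne ((mem_zt.1 (D.N_le_zt 0 hn)).2 u h)
  obtain ⟨h, hh, h4⟩ := T.bs u huU huQ
  have hy : h * D.z * h⁻¹ ∈ D.Hs.Δ := ⟨h, hh, rfl⟩
  have hv : h * u * h⁻¹ ∈ D.Uy (h * D.z * h⁻¹) := by
    rw [D.mem_Uy hh]
    have e : h⁻¹ * (h * u * h⁻¹) * h = u := by group
    rwa [e]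
  -- some `e ∈ {f, z, f z}` centralises `U_y`
  have key : ∀ e ∈ D.BB, e * e = 1 → e ≠ 1 → (∀ s ∈ S, s * e = e * s) →
      e ∉ centralizer (D.Uy (h * D.z * h⁻¹) : Set G) := by
    intro e he he2 he1 heS hec
    apply h4
    have hab := T.ab e he2 he1 heS
    have huA := D.U_le_gen he huU
    have hve := (D.mem_cU.1 hec _ hv).symm
    have hvuA := gen_inv (z := e) (r := D.r 0) hve huA
    have huu := D.mul_self huU
    have hvv : h * u * h⁻¹ * (h * u * h⁻¹) = 1 := by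
      calc h * u * h⁻¹ * (h * u * h⁻¹) = h * (u * u) * h⁻¹ := by group
        _ = 1 := by rw [huu]; group
    set v := h * u * h⁻¹ with hvdef
    have hvi : v⁻¹ = v := inv_eq_of_mul_eq_one_left hvv
    have hc := hab _ huA _ hvuA
    have hw : (v * u * v⁻¹) * (v * u * v⁻¹) = 1 := by
      calc (v * u * v⁻¹) * (v * u * v⁻¹) = v * (u * u) * v⁻¹ := by group
        _ = 1 := by rw [huu]; group
    have e1 : (u * v) ^ 2 = u * (v * u * v⁻¹) := by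
      rw [pow_two, hvi]; group
    calc (u * v) ^ 4 = (u * v) ^ 2 * (u * v) ^ 2 := by rw [← pow_add]
      _ = u * (v * u * v⁻¹) * (u * (v * u * v⁻¹)) := by rw [e1]
      _ = u * ((v * u * v⁻¹) * u) * (v * u * v⁻¹) := by group
      _ = u * (u * (v * u * v⁻¹)) * (v * u * v⁻¹) := by rw [← hc]
      _ = (u * u) * ((v * u * v⁻¹) * (v * u * v⁻¹)) := by group
      _ = 1 := by rw [huu, hw, one_mul]
  have hz := D.z_BB
  have hfz' : f * D.z = D.z * f := by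
    have h5 := D.BB_U hf D.z_mem
    exact h5
  have h1 := key f hf hf2 hf1 hfS
  have h2 := key D.z hz D.z_sq D.z_ne T.S_z
  refine key (f * D.z) (Subgroup.mul_mem _ hf hz) ?_ ?_ ?_
    (D.cU_mul hy (hf _ D.r0_Δ) (hz _ D.r0_Δ) h1 h2)
  · calc f * D.z * (f * D.z) = f * (D.z * f) * D.z := by group
      _ = (f * f) * (D.z * D.z) := by rw [← hfz']; group
      _ = 1 := by rw [hf2, D.z_sq, one_mul]
  · intro e
    apply hfz
    calc f = f * D.z * D.z := by rw [mul_assoc, D.z_sq, mul_one]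
      _ = D.z := by rw [e, one_mul]
  · intro s hs
    rw [← mul_assoc, hfS s hs, mul_assoc, T.S_z s hs, mul_assoc]

/-- `⟨r^{C(b)}⟩` is abelian for `b = y` or `b = r y`, `y ∈ ZZ` -/
theorem ab_y {y b : G} (hy : y ∈ D.Hs.Δ) (hb : b = y ∨ b = D.r 0 * y) {v w : G} (hv : v ∈ gen b (D.r 0))
    (hw : w ∈ gen b (D.r 0)) : v * w = w * v := by
  obtain ⟨h, hh, rfl⟩ := hy
  have hri : h⁻¹ * D.r 0 * h = D.r 0 := by
    have := conj_of_comm (inv_comm hh)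
    rwa [inv_inv] at this
  have hv' := gen_conj h⁻¹ hv
  have hw' := gen_conj h⁻¹ hw
  rw [inv_inv, hri] at hv' hw'
  have hab : (h⁻¹ * v * h) * (h⁻¹ * w * h) = (h⁻¹ * w * h) * (h⁻¹ * v * h) := by
    have hzr : D.z * D.r 0 = D.r 0 * D.z := D.z_r
    rcases hb with rfl | rfl
    · have e : h⁻¹ * (h * D.z * h⁻¹) * h = D.z := by group
      rw [e] at hv' hw'
      exact T.ab D.z D.z_sq D.z_ne T.S_z _ hv' _ hw'
    · have e : h⁻¹ * (D.r 0 * (h * D.z * h⁻¹)) * h = D.r 0 * D.z := by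
        calc h⁻¹ * (D.r 0 * (h * D.z * h⁻¹)) * h = (h⁻¹ * D.r 0 * h) * D.z := by group
          _ = D.r 0 * D.z := by rw [hri]
      rw [e] at hv' hw'
      refine T.ab _ ?_ ?_ ?_ _ hv' _ hw'
      · exact D.mul_self (Subgroup.mul_mem _ (D.r_mem 0) D.z_mem)
      · exact D.Ms.pz_ne D.r0_Δ
      · intro s hs
        rw [← mul_assoc, T.S_r s hs, mul_assoc, T.S_z s hs, mul_assoc]
  calc v * w = h * ((h⁻¹ * v * h) * (h⁻¹ * w * h)) * h⁻¹ := by group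
    _ = w * v := by rw [hab]; group

/-- **(11)** -/
theorem eleven [Finite G] {y b : G} (hy : y ∈ D.Hs.Δ) (hb : b ∈ D.BB) (hyb : b = y ∨ b = D.r 0 * y) : y = D.z := by
  -- `φ' n z = 1 → φ' n y = 1`
  have key : ∀ n ∈ D.Hs.Δ, D.Hs.φ n D.z = 1 → D.Hs.φ n y = 1 := by
    intro n hn h1
    apply zmod_one
    intro h0
    have hyc := D.φ'_iff.1 h0
    have hbc : b ∈ centralizer (D.Uy n : Set G) := by
      rcases hyb with rfl | rfl
      · exact hyc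
      · exact Subgroup.mul_mem _ (D.Hs.zK n hn) hyc
    have hbn := D.ten hn h1 hb hbc
    have hnA := D.Uy_le_gen hn hbn (D.self_Uy hn)
    have h2 : n ∈ centralizer (D.Uy D.z : Set G) := by
      rw [D.mem_cU, D.Uy_z]
      intro u hu
      exact T.ab_y hy hyb hnA (D.U_le_gen hb hu)
    have h3 := D.φ'_iff.2 h2
    rw [D.Hs.symm D.zHs hn, h1] at h3
    exact one_ne_zero h3
  -- equal numbers
  have heq : {n | n ∈ D.Hs.Δ ∧ D.Hs.φ n D.z = 1} = {n | n ∈ D.Hs.Δ ∧ D.Hs.φ n y = 1} := by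
    have hsub : {n | n ∈ D.Hs.Δ ∧ D.Hs.φ n D.z = 1} ⊆ {n | n ∈ D.Hs.Δ ∧ D.Hs.φ n y = 1} :=
      fun n hn => ⟨hn.1, key n hn.1 hn.2⟩
    refine Set.eq_of_subset_of_ncard_le hsub ?_ (Set.toFinite _)
    obtain ⟨h, hh, rfl⟩ := hy
    have himg : {n | n ∈ D.Hs.Δ ∧ D.Hs.φ n (h * D.z * h⁻¹) = 1} ⊆
        (fun n => h * n * h⁻¹) '' {n | n ∈ D.Hs.Δ ∧ D.Hs.φ n D.z = 1} := by
      rintro n ⟨hn, h1⟩
      refine ⟨h⁻¹ * n * h, ⟨?_, ?_⟩, by group⟩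
      · have := D.Hs.Δ_conj h⁻¹ (mem_centralizer_singleton_iff.2 (inv_comm hh)) n hn
        rwa [inv_inv] at this
      · rw [← h1]
        have h2 := D.φ'_conj (y := h⁻¹ * n * h) (b := D.z) hh
        have e : h * (h⁻¹ * n * h) * h⁻¹ = n := by group
        rw [e] at h2
        exact h2.symm
    exact (Set.ncard_le_ncard himg (Set.toFinite _)).trans (Set.ncard_image_le (Set.toFinite _))
  have hyU : y ∈ D.Hs.U := D.Hs.Δ_le hy
  have hzU : D.z ∈ D.Hs.U := D.Hs.Δ_le D.zHs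
  have h0 : D.z * y ∈ D.Hs.U0 := by
    refine ⟨Subgroup.mul_mem _ hzU hyU, fun n hn => ?_⟩
    rw [D.Hs.φ_mul hn hzU hyU]
    rcases zmod_cases (D.Hs.φ n D.z) with h | h
    · rcases zmod_cases (D.Hs.φ n y) with h' | h'
      · rw [h, h', add_zero]
      · have h2 : n ∈ {n | n ∈ D.Hs.Δ ∧ D.Hs.φ n y = 1} := ⟨hn, h'⟩
        rw [← heq] at h2
        rw [h2.2] at h
        exact absurd h one_ne_zero
    · rw [h, key n hn h]; decide
  have h1 : D.z * (D.z * y) = y := by rw [← mul_assoc, D.z_sq, one_mul]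
  have h2 := D.Hs.inj T.hO D.zHs (by rw [h1]; exact hy) h0
  rw [h2, mul_one] at h1
  exact h1.symm

/-- **(11)** for `B_x` -/
theorem eleven_y [Finite G] {x y b : G} (hx : x ∈ D.Hs.Δ) (hy : y ∈ D.Hs.Δ) (hb : b ∈ D.By x)
    (hyb : b = y ∨ b = D.r 0 * y) : y = x := by
  obtain ⟨h, hh, rfl⟩ := hx
  have hri : h⁻¹ * D.r 0 * h = D.r 0 := by
    have := conj_of_comm (inv_comm hh)
    rwa [inv_inv] at this
  have hy' : h⁻¹ * y * h ∈ D.Hs.Δ := by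
    have := D.Hs.Δ_conj h⁻¹ (mem_centralizer_singleton_iff.2 (inv_comm hh)) y hy
    rwa [inv_inv] at this
  have h1 := T.eleven hy' ((D.mem_By hh).1 hb) (by
    rcases hyb with rfl | rfl
    · exact Or.inl rfl
    · right
      calc h⁻¹ * (D.r 0 * y) * h = (h⁻¹ * D.r 0 * h) * (h⁻¹ * y * h) := by group
        _ = _ := by rw [hri])
  rw [← h1]; group

/-- **(12)** -/
theorem twelve [Finite G] {y b : G} (hy : y ∈ D.Hs.Δ) (hyb : y * b ∈ D.Hs.Δ) (hb : b ∈ D.BN)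
    (h1 : D.Hs.φ y D.z = 1) : b = 1 := by
  by_cases hc : b ∈ centralizer (D.Uy y : Set G)
  · have h2 := D.ten hy h1 hb.1 hc
    have h3 := T.eleven_y hy hyb (Subgroup.mul_mem _ (D.self_By hy) h2) (Or.inl rfl)
    exact mul_eq_left.mp h3
  · exfalso
    have hzc : D.z ∉ centralizer (D.Uy y : Set G) := by
      intro h
      have h2 := D.φ'_iff.2 h
      rw [h1] at h2
      exact one_ne_zero h2
    have h2 := D.cU_mul hy (D.z_BB _ D.r0_Δ) (hb.1 _ D.r0_Δ) hzc hc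
    have h3 := D.ten hy h1 (Subgroup.mul_mem _ D.z_BB hb.1) h2
    -- `(y b)^{u_z} = r y (z b)`
    obtain ⟨-, u, hu, e2⟩ := D.third hy h1
    have hur : u * D.r 0 = D.r 0 * u := D.U_r hu
    have hub : u * b * u⁻¹ = b := conj_of_comm (D.BB_U hb.1 hu).symm
    have h4 := D.Hs.Δ_conj u (mem_centralizer_singleton_iff.2 hur) _ hyb
    have e3 : u * (y * b) * u⁻¹ = D.z * (y * D.r 0) * b := by
      calc u * (y * b) * u⁻¹ = (u * y * u⁻¹) * (u * b * u⁻¹) := by group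
        _ = _ := by rw [e2, hub]
    rw [e3] at h4
    have hyU : y ∈ D.Hs.U := D.Hs.Δ_le hy
    have hzU : D.z ∈ D.Hs.U := D.Hs.Δ_le D.zHs
    have hrU : D.r 0 ∈ D.Hs.U := D.Hs.z_mem
    have e4 : y * (D.z * b) = D.r 0 * (D.z * (y * D.r 0) * b) := by
      have hrr := D.r_sq 0
      calc y * (D.z * b) = (y * D.z) * b := by group
        _ = (D.z * y) * b := by rw [D.Hs.U_comm hyU hzU]
        _ = (D.r 0 * D.r 0) * (D.z * y) * b := by rw [hrr, one_mul]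
        _ = D.r 0 * (D.r 0 * (D.z * y)) * b := by group
        _ = D.r 0 * (D.z * y * D.r 0) * b := by rw [D.Hs.U_comm hrU (Subgroup.mul_mem _ hzU hyU)]
        _ = D.r 0 * (D.z * (y * D.r 0) * b) := by group
    have h5 := T.eleven_y hy h4 (Subgroup.mul_mem _ (D.self_By hy) h3) (Or.inr e4)
    -- then `z r b = 1`, `r ∈ B`
    have h6 : D.z * D.r 0 * b = 1 := by
      have h7 : y * (D.z * D.r 0 * b) = y * 1 := by
        rw [mul_one]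
        calc y * (D.z * D.r 0 * b) = (y * D.z) * D.r 0 * b := by group
          _ = D.z * (y * D.r 0) * b := by rw [D.Hs.U_comm hyU hzU]; group
          _ = y := h5
      exact mul_left_cancel h7
    have h7 : D.r 0 = D.z⁻¹ * b⁻¹ := by
      calc D.r 0 = D.z⁻¹ * (D.z * D.r 0 * b) * b⁻¹ := by group
        _ = D.z⁻¹ * b⁻¹ := by rw [h6, mul_one]
    apply D.Δ_BB D.r0_Δ
    rw [h7]
    exact Subgroup.mul_mem _ (Subgroup.inv_mem _ D.z_BB) (Subgroup.inv_mem _ hb.1)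

/-! ### (13) -/

omit T in
theorem φ'_z_mul {v w : G} (hv : v ∈ D.Hs.U) (hw : w ∈ D.Hs.U) :
    D.Hs.φ D.z (v * w) = D.Hs.φ D.z v + D.Hs.φ D.z w := D.Hs.φ_mul D.zHs hv hw

omit T in
/-- `z^⊥ = NO (r 0)` -/
theorem mem_NO_r {n : G} : n ∈ D.NO (D.r 0) ↔ n ∈ D.Hs.U ∧ D.Hs.φ D.z n = 0 := by
  rw [D.φ'_iff, D.Uy_z]; rfl

omit T in
theorem not_cU {y : G} (h1 : D.Hs.φ D.z y = 1) : y ∉ centralizer (D.U : Set G) := by
  intro h
  have h2 : D.Hs.φ D.z y = 0 := by rw [D.φ'_iff, D.Uy_z]; exact h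
  rw [h1] at h2
  exact one_ne_zero h2

omit T in
/-- conjugates by elements of `Γ` -/
theorem Gam_y {g y : G} (hg : g ∈ D.Gam) (hy : y ∈ D.Hs.Δ) (h1 : D.Hs.φ D.z y = 1) :
    g * y * g⁻¹ ∈ D.Hs.Δ ∧ D.Hs.φ D.z (g * y * g⁻¹) = 1 := by
  have hgr : g * D.r 0 = D.r 0 * g := D.Gam_U hg (D.r_mem 0)
  have hgz : g * D.z = D.z * g := D.Gam_U hg D.z_mem
  refine ⟨D.Hs.Δ_conj g (mem_centralizer_singleton_iff.2 hgr) y hy, ?_⟩
  have h2 := D.φ'_conj (y := D.z) (b := y) hgr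
  rw [conj_of_comm hgz] at h2
  rw [h2, h1]

omit T in
/-- for `y ∈ ZZ - z^⊥` and `m ∈ z^⊥`: `m y = y^n b` -/
theorem step {y m : G} (hy : y ∈ D.Hs.Δ) (h1 : D.Hs.φ D.z y = 1) (hm : m ∈ D.NO (D.r 0)) :
    ∃ n ∈ D.Gam, ∃ b ∈ D.BN, m * y = n * y * n⁻¹ * b := by
  obtain ⟨p, hp, h2⟩ := D.Ms.exists_nbr (p := D.r 0) D.r0_Δ
  have h3 : D.φ p (D.r 0) = 1 := (D.φ_symm hp D.r0_Δ).trans h2
  have hyN : y ∈ gen (D.r 0) D.z := D.Hs.Δ_le hy
  obtain ⟨n, hn, b, hb, rfl⟩ := D.surj hp D.r0_Δ h3 hm hyN (not_cU h1)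
  refine ⟨n, D.NO_le_Gam hp hn, b, hb, ?_⟩
  have h4 : b * y = y * b := D.BB_MQ hb.1 (D.N_MQ D.r0_Δ hyN)
  calc n * y * n⁻¹ * y⁻¹ * b * y = n * y * n⁻¹ * y⁻¹ * (b * y) := by group
    _ = n * y * n⁻¹ * b := by rw [h4]; group

/-- **(13)**: `Γ` is transitive on `ZZ - z^⊥` -/
theorem Gam_trans [Finite G] {y y' : G} (hy : y ∈ D.Hs.Δ) (hy' : y' ∈ D.Hs.Δ) (h1 : D.Hs.φ D.z y = 1)
    (h1' : D.Hs.φ D.z y' = 1) : ∃ g ∈ D.Gam, g * y * g⁻¹ = y' := by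
  have hyU : y ∈ D.Hs.U := D.Hs.Δ_le hy
  have hyU' : y' ∈ D.Hs.U := D.Hs.Δ_le hy'
  have hm : y' * y ∈ D.NO (D.r 0) := by
    rw [mem_NO_r]
    refine ⟨Subgroup.mul_mem _ hyU' hyU, ?_⟩
    rw [φ'_z_mul hyU' hyU, h1, h1']; decide
  obtain ⟨n, hn, b, hb, e⟩ := step hy h1 hm
  have e1 : y' * y * y = y' := by rw [mul_assoc, D.Hs.U_sq y hyU, mul_one]
  rw [e1] at e
  obtain ⟨h2, h3⟩ := Gam_y hn hy h1
  rw [D.Hs.symm D.zHs h2] at h3
  have h4 := T.twelve h2 (by rw [← e]; exact hy') hb h3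
  rw [h4, mul_one] at e
  exact ⟨n, hn, e.symm⟩

/-- elements of `B` which centralise one `U_y` -/
theorem ker_eq [Finite G] {y b : G} (hy : y ∈ D.Hs.Δ) (h1 : D.Hs.φ D.z y = 1) (hb : b ∈ D.BB)
    (hc : b ∈ centralizer (D.Uy y : Set G)) : b = 1 := by
  classical
  -- the kernel
  let K : Subgroup G :=
    { carrier := {b | b ∈ D.BB ∧ ∀ y ∈ D.Hs.Δ, D.Hs.φ D.z y = 1 → b ∈ centralizer (D.Uy y : Set G)}
      one_mem' := ⟨Subgroup.one_mem _, fun _ _ _ => Subgroup.one_mem _⟩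
      mul_mem' := fun ha hb => ⟨Subgroup.mul_mem _ ha.1 hb.1, fun y hy h =>
        Subgroup.mul_mem _ (ha.2 y hy h) (hb.2 y hy h)⟩
      inv_mem' := fun ha => ⟨Subgroup.inv_mem _ ha.1, fun y hy h => Subgroup.inv_mem _ (ha.2 y hy h)⟩ }
  have hmem : ∀ x, x ∈ K ↔ x ∈ D.BB ∧ ∀ y ∈ D.Hs.Δ, D.Hs.φ D.z y = 1 → x ∈ centralizer (D.Uy y : Set G) :=
    fun _ => Iff.rfl
  have hbK : b ∈ K := by
    rw [hmem]
    refine ⟨hb, fun y' hy' h1' => ?_⟩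
    obtain ⟨g, hg, rfl⟩ := T.Gam_trans hy hy' h1 h1'
    have hgr : g * D.r 0 = D.r 0 * g := D.Gam_U hg (D.r_mem 0)
    have h2 := D.cU_conj hgr hc
    rwa [conj_of_comm (D.BB_MQ hb (D.Gam_MQ hg)).symm] at h2
  have hKS : K ≤ S := fun x hx => T.Q_S (mem_zt.1 (hx.1 _ D.r0_Δ)).1
  have hKn : ∀ s ∈ S, ∀ x ∈ K, s * x * s⁻¹ ∈ K := by
    intro s hs x hx
    rw [hmem] at hx ⊢
    have hsM := D.M_r s (T.S_r s hs) (T.S_z s hs)
    refine ⟨D.BB_conj (D.mem_A.2 hsM) hx.1, fun y hy h => ?_⟩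
    have hsr := T.S_r s hs
    have hsz := T.S_z s hs
    have hy' : s⁻¹ * y * s⁻¹⁻¹ ∈ D.Hs.Δ :=
      D.Hs.Δ_conj s⁻¹ (mem_centralizer_singleton_iff.2 (inv_comm hsr)) y hy
    have h2 := D.φ'_conj (y := D.z) (b := y) (inv_comm hsr)
    rw [conj_of_comm (inv_comm hsz), h] at h2
    have h3 := D.cU_conj hsr (hx.2 _ hy' h2)
    have e : s * (s⁻¹ * y * s⁻¹⁻¹) * s⁻¹ = y := by group
    rwa [e] at h3
  by_contra hne
  -- a central involution of `S` in `K`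
  obtain ⟨f, hfK, hf1, hf2, hfS⟩ := exists_central_inv T.S_two hKS hKn hbK hne
  have h2 := T.cent_eq ((hmem f).1 hfK).1 hf2 hf1 hfS
  rw [h2] at hfK
  have h3 := D.φ'_iff.2 (((hmem _).1 hfK).2 y hy h1)
  rw [D.Hs.symm hy D.zHs, h1] at h3
  exact one_ne_zero h3

/-- a `y ∈ ZZ - z^⊥` -/
theorem exists_y : ∃ y ∈ D.Hs.Δ, D.Hs.φ D.z y = 1 := D.Hs.exists_nbr D.zHs

/-- **`B = ⟨z⟩`** -/
theorem BB_eq [Finite G] {b : G} (hb : b ∈ D.BB) : b = 1 ∨ b = D.z := by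
  obtain ⟨y, hy, h1⟩ := T.exists_y
  by_cases hc : b ∈ centralizer (D.Uy y : Set G)
  · exact Or.inl (T.ker_eq hy h1 hb hc)
  · right
    have hzc : D.z ∉ centralizer (D.Uy y : Set G) := by
      intro h
      have h2 := D.φ'_iff.2 h
      rw [D.Hs.symm hy D.zHs, h1] at h2
      exact one_ne_zero h2
    have h2 := D.cU_mul hy (D.z_BB _ D.r0_Δ) (hb _ D.r0_Δ) hzc hc
    have h3 := T.ker_eq hy h1 (Subgroup.mul_mem _ D.z_BB hb) h2
    calc b = D.z * (D.z * b) := by rw [← mul_assoc, D.z_sq, one_mul]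
      _ = D.z := by rw [h3, mul_one]

theorem BN_eq [Finite G] {b : G} (hb : b ∈ D.BN) : b = 1 ∨ b = D.z := T.BB_eq hb.1

omit T in
/-- `u_z` on `ZZ - z^⊥` -/
theorem mul_zr {y : G} (hy : y ∈ D.Hs.Δ) (h1 : D.Hs.φ D.z y = 1) : y * (D.z * D.r 0) ∈ D.Hs.Δ := by
  have h2 := D.Hs.t_act D.zHs (D.Hs.Δ_le hy)
  rw [h1, pw_one] at h2
  have h3 := D.Hs.Δ_conj _ (D.Hs.t_A D.zHs) y hy
  rwa [h2] at h3

/-- for `n ∈ z^⊥` and `y ∈ ZZ - z^⊥` one of `n y`, `n y z` is in `ZZ` -/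
theorem or_mul [Finite G] {y n : G} (hy : y ∈ D.Hs.Δ) (h1 : D.Hs.φ D.z y = 1) (hn : n ∈ D.NO (D.r 0)) :
    n * y ∈ D.Hs.Δ ∨ n * y * D.z ∈ D.Hs.Δ := by
  obtain ⟨g, hg, b, hb, e⟩ := step hy h1 hn
  have h2 := (Gam_y hg hy h1).1
  rcases T.BN_eq hb with rfl | rfl
  · left; rw [e, mul_one]; exact h2
  · right; rw [e, mul_assoc _ D.z, D.z_sq, mul_one]; exact h2

/-- and not both -/
theorem not_both_z [Finite G] {y : G} (hy : y ∈ D.Hs.Δ) (h1 : D.Hs.φ D.z y = 1) : y * D.z ∉ D.Hs.Δ := by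
  intro h
  rw [D.Hs.symm D.zHs hy] at h1
  exact D.z_ne (T.twelve hy h D.z_BN h1)

/-- **`N₀ = ⟨r⟩`** -/
theorem N0_eq [Finite G] {c : G} (hc : c ∈ D.Hs.U0) : c = 1 ∨ c = D.r 0 := by
  obtain ⟨y, hy, h1⟩ := T.exists_y
  have hyU : y ∈ D.Hs.U := D.Hs.Δ_le hy
  have hzU : D.z ∈ D.Hs.U := D.Hs.Δ_le D.zHs
  have hrU : D.r 0 ∈ D.Hs.U := D.Hs.z_mem
  have hcU : c ∈ D.Hs.U := hc.1
  have hcN : c ∈ D.NO (D.r 0) := mem_NO_r.2 ⟨hcU, hc.2 _ D.zHs⟩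
  rcases T.or_mul hy h1 hcN with h | h
  · left
    rw [D.Hs.U_comm hcU hyU] at h
    exact D.Hs.inj T.hO hy h hc
  · right
    have h2 : D.Hs.φ D.z (c * y * D.z) = 1 := by
      rw [φ'_z_mul (Subgroup.mul_mem _ hcU hyU) hzU, φ'_z_mul hcU hyU, h1, hc.2 _ D.zHs, D.Hs.φ_self D.zHs]
      decide
    have h3 := mul_zr h h2
    have e : c * y * D.z * (D.z * D.r 0) = y * (c * D.r 0) := by
      calc c * y * D.z * (D.z * D.r 0) = (c * y) * (D.z * D.z) * D.r 0 := by group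
        _ = y * (c * D.r 0) := by rw [D.z_sq, mul_one, D.Hs.U_comm hcU hyU, mul_assoc]
    rw [e] at h3
    have h4 := D.Hs.inj T.hO hy h3 (Subgroup.mul_mem _ hc D.Hs.z_U0)
    calc c = c * D.r 0 * D.r 0 := by rw [mul_assoc, D.r_sq, mul_one]
      _ = D.r 0 := by rw [h4, one_mul]

/-- for `v ∈ N₁ - z^⊥` one of `v`, `v r` is in `ZZ` -/
theorem ZZ_or0 [Finite G] {v : G} (hv : v ∈ D.Hs.U) (h1 : D.Hs.φ D.z v = 1) :
    v ∈ D.Hs.Δ ∨ v * D.r 0 ∈ D.Hs.Δ := by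
  obtain ⟨y, hy, h2⟩ := T.exists_y
  have hyU : y ∈ D.Hs.U := D.Hs.Δ_le hy
  have hzU : D.z ∈ D.Hs.U := D.Hs.Δ_le D.zHs
  have hn : v * y ∈ D.NO (D.r 0) := by
    rw [mem_NO_r]
    refine ⟨Subgroup.mul_mem _ hv hyU, ?_⟩
    rw [φ'_z_mul hv hyU, h1, h2]; decide
  have e : v * y * y = v := by rw [mul_assoc, D.Hs.U_sq y hyU, mul_one]
  rcases T.or_mul hy h2 hn with h | h
  · left; rwa [e] at h
  · right
    rw [e] at h
    have h3 : D.Hs.φ D.z (v * D.z) = 1 := by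
      rw [φ'_z_mul hv hzU, h1, D.Hs.φ_self D.zHs, add_zero]
    have h4 := mul_zr h h3
    have e2 : v * D.z * (D.z * D.r 0) = v * D.r 0 := by
      calc v * D.z * (D.z * D.r 0) = v * (D.z * D.z) * D.r 0 := by group
        _ = v * D.r 0 := by rw [D.z_sq, mul_one]
    rwa [e2] at h4

/-- **`ZZ → (N₁/R₁)#` is onto** -/
theorem ZZ_or [Finite G] {v : G} (hv : v ∈ gen (D.r 0) D.z) (h1 : v ≠ 1) (hr : v ≠ D.r 0) :
    v ∈ D.Hs.Δ ∨ v * D.r 0 ∈ D.Hs.Δ := by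
  have hv' : v ∈ D.Hs.U := hv
  obtain ⟨y, hy, h2⟩ : ∃ y ∈ D.Hs.Δ, D.Hs.φ y v = 1 := by
    by_contra hcon
    push Not at hcon
    have h0 : v ∈ D.Hs.U0 := ⟨hv', fun y hy => (zmod_cases _).resolve_right (hcon y hy)⟩
    rcases T.N0_eq h0 with h | h
    · exact h1 h
    · exact hr h
  obtain ⟨h, hh, rfl⟩ := hy
  have hhA : h ∈ D.Hs.A := mem_centralizer_singleton_iff.2 hh
  have hv2 : h⁻¹ * v * h ∈ D.Hs.U := by
    have := D.Hs.U_conj h⁻¹ (Subgroup.inv_mem _ hhA) v hv'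
    rwa [inv_inv] at this
  have h3 : D.Hs.φ D.z (h⁻¹ * v * h) = 1 := by
    have h4 := D.φ'_conj (y := D.z) (b := h⁻¹ * v * h) hh
    have e : h * (h⁻¹ * v * h) * h⁻¹ = v := by group
    rw [e, h2] at h4
    exact h4.symm
  rcases T.ZZ_or0 hv2 h3 with h4 | h4
  · left
    have h5 := D.Hs.Δ_conj h hhA _ h4
    have e : h * (h⁻¹ * v * h) * h⁻¹ = v := by group
    rwa [e] at h5
  · right
    have h5 := D.Hs.Δ_conj h hhA _ h4
    have e : h * (h⁻¹ * v * h * D.r 0) * h⁻¹ = v * D.r 0 := by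
      calc h * (h⁻¹ * v * h * D.r 0) * h⁻¹ = v * (h * D.r 0 * h⁻¹) := by group
        _ = v * D.r 0 := by rw [conj_of_comm hh]
    rwa [e] at h5

/-- **`ZZ → (N₁/R₁)#` is injective** -/
theorem ZZ_not_both {v : G} (hv : v ∈ D.Hs.Δ) : v * D.r 0 ∉ D.Hs.Δ := by
  intro h
  have h1 := D.Hs.inj T.hO hv h D.Hs.z_U0
  exact D.Ms.one_notin D.r0_Δ h1

end TB

end TS

end Cfsg.Agent.Omega.HOneTwo.Trans
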