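import Cfsg.Agent.Omega.HOneTwo.TwoPerp
import Cfsg.Agent.Omega.HOneTwo.TwoPartB
import Cfsg.Agent.Omega.HOneTwo.OpInst
import Cfsg.Agent.Omega.HTwo.EightTwo

/-!
# II.0h1, `q = 2`: `OM` from `O₂(M)`; (14)-(16) of #16429 in the language of `Eight.Res` (helper467)

* `OM.of_O2` : `O = O₂(M)`, `Q p = O₂(C(p))`;
* `Bz.of_TB` : `Bz D` from helper205's `TS.TB`;
* `OM.opD` : helper338's `OpInst.OpD` (the instance of `OpSys`) for `k ≥ 2`.
-/

set_option autoImplicit false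
set_option maxHeartbeats 400000
set_option linter.unusedSectionVars false

namespace Cfsg.Agent.Omega.HOneTwo.Trans

open Subgroup Cfsg.Agent Cfsg.Agent.Omega.BTwo Cfsg.Agent.Omega.HTwo.Eight

universe u

variable {G : Type u} [Group G]

/-- `OM` for `O = O₂(M)` -/
theorem OM.of_O2 [Finite G] {D : TS G} (hQ : ∀ p, D.Q p = Qp p) (hUO : ∀ o ∈ O2 D.M, ∀ u ∈ D.U, o * u = u * o)
    (hUle : D.U ≤ O2 D.M) : OM D (O2 D.M) where
  two := O2_isPGroup _
  O_M := O2_le _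
  O_conj := fun m hm x hx => conj_mem_of_normalizer (le_normalizer_O2 _ hm) hx
  O_U := hUO
  U_O := hUle
  O_Q := by
    intro x hx h
    have A := D.res hQ hUO hUle
    rw [hQ]
    apply A.O_inf_K D.r0_Δ hx
    rw [mem_centralizer_iff]
    intro n hn
    have hn' : n ∈ Np D.z (D.r 0) := hn
    rw [TS.Np_eq] at hn'
    exact (h n hn').symm
  Q_O := by
    intro x hx h
    -- `Q₁ ∩ C_M(U)` is a normal 2-subgroup of `C_M(U)`
    have A := D.res hQ hUO hUle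
    rw [hQ] at hx
    have h1 : Qp (D.r 0) ⊓ (D.M ⊓ centralizer (D.U : Set G)) ≤ O2 D.M := by
      refine le_O2_of_chain (B := D.M ⊓ centralizer (D.U : Set G)) (C := D.M) inf_le_right inf_le_left le_rfl
        ((O2_isPGroup _).to_le inf_le_left) ?_ ?_ ?_
      · rintro k ⟨hk1, hk2⟩ b ⟨hb1, hb2⟩
        refine ⟨?_, Subgroup.mul_mem _ (Subgroup.mul_mem _ ⟨hk1, hk2⟩ hb2) (Subgroup.inv_mem _ ⟨hk1, hk2⟩)⟩
        apply Q_normal _ hb1
        rw [mem_Cp]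
        exact ((mem_centralizer_iff.1 hk2) _ (D.r_mem 0)).symm
      · rintro m hm b ⟨hb1, hb2⟩
        refine ⟨D.M.mul_mem (D.M.mul_mem hm hb1) (D.M.inv_mem hm), ?_⟩
        have hb3 : b ∈ centralizer (D.U : Set G) := hb2
        show m * b * m⁻¹ ∈ centralizer (D.U : Set G)
        rw [mem_centralizer_iff] at hb3 ⊢
        intro u hu
        have h2 := hb3 _ (gn_inv' hm hu)
        calc u * (m * b * m⁻¹) = m * ((m⁻¹ * u * m) * b) * m⁻¹ := by group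
          _ = m * b * m⁻¹ * u := by rw [h2]; group
      · intro g hg c hc
        exact D.M.mul_mem (D.M.mul_mem hg hc) (D.M.inv_mem hg)
    have hr := D.Q_M (x := x) (by rw [hQ]; exact hx)
    exact h1 ⟨hx, hr, mem_centralizer_iff.2 fun u hu => (h u hu).symm⟩

/-- `Bz` from the Sylow data -/
theorem Bz.of_TB [Finite G] {D : TS G} {S : Subgroup G} (T : D.TB S) : Bz D where
  cen := fun _ hx => T.BB_eq hx
  full :=
    { full := by
        intro u hu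
        by_cases h1 : u = 1
        · exact Or.inl h1
        by_cases h2 : u = D.r 0
        · exact Or.inr (Or.inl h2)
        · exact Or.inr (Or.inr (T.ZZ_or hu h1 h2))
      inj := fun p hp => T.ZZ_not_both hp }

theorem Bz.trans [Finite G] {D : TS G} {S : Subgroup G} (T : D.TB S) :
    ∀ y ∈ D.Hs.Δ, ∀ y' ∈ D.Hs.Δ, D.Hs.φ D.z y = 1 → D.Hs.φ D.z y' = 1 → ∃ g ∈ D.Gam, g * y * g⁻¹ = y' :=
  fun _ hy _ hy' h1 h2 => T.Gam_trans hy hy' h1 h2

/-- helper338's `Γ` is `Γ` -/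
theorem Gam_eq (D : TS G) : OpInst.Gam D.z D.U D.Δ = D.Gam := by
  unfold OpInst.Gam TS.Gam
  congr 1
  ext x
  constructor
  · rintro ⟨p, hp, h1, h2⟩
    rw [TS.Np_eq] at h1
    exact ⟨p, hp, D.mem_NO.2 ⟨h1, h2⟩⟩
  · rintro ⟨p, hp, h1⟩
    have h2 := D.mem_NO.1 h1
    refine ⟨p, hp, ?_, h2.2⟩
    rw [TS.Np_eq]
    exact h2.1

/-- **the instance of helper338's `OpD`** -/
noncomputable def OM.opD [Finite G] {D : TS G} (hQ : ∀ p, D.Q p = Qp p)
    (hUO : ∀ o ∈ O2 D.M, ∀ u ∈ D.U, o * u = u * o) (hUle : D.U ≤ O2 D.M) (B : Bz D) (hk : ¬ KOne D) :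
    OpInst.OpD G where
  z := D.z
  M := D.M
  U := D.U
  Δ := D.Δ
  f := D.f
  t := D.tz
  r := D.r 0
  res := D.res hQ hUO hUle
  r_Δ := D.r0_Δ
  OG := by
    intro o ho g hg
    rw [Gam_eq] at hg
    have F := OM.of_O2 hQ hUO hUle
    rcases F.O_Gam B hk ho hg with h | h
    · exact Or.inl (comm_of_conj h)
    · right
      have h1 : D.z * g = g * D.z := (F.O_z (F.Gam_O hg)).symm
      have h2 : D.z * o = o * D.z := (F.O_z ho).symm
      calc o * g = (o * g * o⁻¹) * o := by group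
        _ = D.z * (g * o) := by rw [h, ← h1, mul_assoc]
  NN := by
    intro p hp q hq h1 n hn hn'
    rw [TS.Np_eq] at hn hn'
    rw [D.f_Δ hp] at h1
    exact B.BN_eq (D.N_inf hp hq h1 hn hn')
  UN := by
    rintro p ⟨m, hm, rfl⟩ u hu hn
    rw [TS.Np_eq] at hn
    have hm' := D.M.inv_mem hm
    have h1 := gen_conj m⁻¹ hn
    rw [show m⁻¹ * (m * D.r 0 * m⁻¹) * m⁻¹⁻¹ = D.r 0 by group, D.m_z' hm] at h1
    have h2 := D.U_zt (gn_inv hm' hu) (D.N_le_zt 0 h1)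
    have e : u = m * (m⁻¹ * u * m⁻¹⁻¹) * m⁻¹ := by group
    have hz := D.m_z hm
    rcases h2 with h | h | h | h
    · left; rw [e, h]; group
    · right; right; left; rw [e, h, hz]
    · right; left; rw [e, h]
    · right; right; right
      rw [e, h]
      calc m * (D.r 0 * D.z) * m⁻¹ = m * D.r 0 * m⁻¹ * (m * D.z * m⁻¹) := by group
        _ = _ := by rw [hz]
  C14 := by
    intro x hx h
    have F := OM.of_O2 hQ hUO hUle
    apply F.fourteen B hx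
    intro p hp n hn
    apply h p hp
    rw [TS.Np_eq]
    exact hn

/-! ### `k = 1` means `|N₁| = 8` -/

theorem Bz.NO_four {D : TS G} (hk : KOne D) {n : G} (hn : n ∈ D.NO (D.r 0)) :
    n = 1 ∨ n = D.z ∨ n = D.r 0 ∨ n = D.r 0 * D.z := D.U_zt (hk n hn) (D.N_le_zt 0 hn.1)

theorem Bz.three0 {D : TS G} (B : Bz D) (hk : KOne D) {t y : G} (ht : t ∈ D.Hs.Δ) (ht1 : D.Hs.φ D.z t = 1)
    (hy : y ∈ D.Hs.Δ) : y = D.z ∨ y = t ∨ y = D.r 0 * D.z * t := by
  have hF := B.full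
  have zΔ := D.zHΔ
  have htU := D.Hs.Δ_le ht
  have hyU := D.Hs.Δ_le hy
  have rU : D.r 0 ∈ D.Hs.U := D.Hs.z_mem
  have rz : D.r 0 * D.z ∉ D.Hs.Δ := by
    rw [← D.z_r]
    exact hF.inj D.z zΔ
  rcases zmod_cases (D.Hs.φ D.z y) with h | h
  · left
    rcases Bz.NO_four hk (D.NO_iff.2 ⟨hyU, h⟩) with h1 | h1 | h1 | h1
    · exact absurd h1 (D.Hs.one_notin hy)
    · exact h1
    · exact absurd h1 (D.Hs.z_notin hy)
    · rw [h1] at hy; exact absurd hy rz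
  · right
    have h2 : y * t ∈ D.NO (D.r 0) := D.NO_iff.2 ⟨D.Hs.U.mul_mem hyU htU, by
      rw [D.Hs.φ_mul zΔ hyU htU, h, ht1]; decide⟩
    have htt := D.Hs.U_sq t htU
    have e : y = y * t * t := by rw [mul_assoc, htt, mul_one]
    have h3 := D.Hs.mz1 zΔ ht ht1
    rcases Bz.NO_four hk h2 with h1 | h1 | h1 | h1
    · left; rw [e, h1, one_mul]
    · exfalso
      rw [h1] at e
      rw [← e] at h3
      exact hF.inj y hy h3
    · exfalso
      rw [h1, D.Hs.U_comm rU htU] at e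
      rw [e] at hy
      exact hF.inj t ht hy
    · right; rw [e, h1]

/-- `z^{C(p)} = {z, t_p, p z t_p}` -/
theorem Bz.three {D : TS G} (B : Bz D) (hk : KOne D) : Three D.z D.Δ D.tz := by
  rintro p hp h hh
  have hp' := hp
  obtain ⟨m, hm, rfl⟩ := hp
  have hm' := D.M.inv_mem hm
  have hmz := D.m_z hm
  have hmz' := D.m_z' hm
  have back : ∀ k, k ∈ Cp (m * D.r 0 * m⁻¹) → m⁻¹ * (k * D.z * k⁻¹) * m⁻¹⁻¹ ∈ D.Hs.Δ := by
    intro k hk
    rw [mem_Cp] at hk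
    refine ⟨m⁻¹ * k * m, ?_, ?_⟩
    · calc m⁻¹ * k * m * D.r 0 = m⁻¹ * (k * (m * D.r 0 * m⁻¹)) * m := by group
        _ = D.r 0 * (m⁻¹ * k * m) := by rw [hk]; group
    · calc m⁻¹ * (k * D.z * k⁻¹) * m⁻¹⁻¹ = m⁻¹ * k * m * (m⁻¹ * D.z * m⁻¹⁻¹) * (m⁻¹ * k * m)⁻¹ := by group
        _ = _ := by rw [hmz']
  obtain ⟨⟨k, hk1, hk2⟩, hact⟩ := D.tz_spec hp'
  have ht : m⁻¹ * D.tz (m * D.r 0 * m⁻¹) * m⁻¹⁻¹ ∈ D.Hs.Δ := by
    rw [hk2]
    exact back k (mem_Cp.2 hk1)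
  have htNC : D.Ms.NC (D.tz (m * D.r 0 * m⁻¹)) := by
    intro hall
    obtain ⟨v, hv, hv1⟩ := D.Ms.φ_ne hp'
    have h2 := hact v hv
    have h3 := hall v hv
    rw [h3, show D.φ (m * D.r 0 * m⁻¹) v = 1 from hv1, pw_one, left_eq_mul] at h2
    exact D.Ms.pz_ne hp' h2
  have ht1 : D.Hs.φ D.z (m⁻¹ * D.tz (m * D.r 0 * m⁻¹) * m⁻¹⁻¹) = 1 := by
    rw [← D.NC_iff]
    exact Side.NC_conj (S := D.Ms) hm' htNC
  have e : h * D.z * h⁻¹ = m * (m⁻¹ * (h * D.z * h⁻¹) * m⁻¹⁻¹) * m⁻¹ := by group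
  rcases B.three0 hk ht ht1 (back h hh) with h1 | h1 | h1
  · left
    rw [e, h1, hmz]
  · right; left
    rw [e, h1]; group
  · right; right
    rw [e, h1]
    calc m * (D.r 0 * D.z * (m⁻¹ * D.tz (m * D.r 0 * m⁻¹) * m⁻¹⁻¹)) * m⁻¹
        = m * D.r 0 * m⁻¹ * (m * D.z * m⁻¹) * D.tz (m * D.r 0 * m⁻¹) := by group
      _ = _ := by rw [hmz]

/-- `|N₁| = 8` -/
theorem Bz.card_eight [Finite G] {D : TS G} (hk : KOne D) : Nat.card (gen (D.r 0) D.z) = 8 := by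
  have zΔ := D.zHΔ
  have h1 : D.NO (D.r 0) ≤ gen (D.r 0) D.z := fun _ h => h.1
  have h2 : ((D.NO (D.r 0)).subgroupOf (gen (D.r 0) D.z)).index = 2 := by
    rw [Subgroup.index_eq_two_iff]
    obtain ⟨y, hy, hy1⟩ := D.Hs.exists_nbr zΔ
    have hyU := D.Hs.Δ_le hy
    refine ⟨⟨y, hyU⟩, fun b => ?_⟩
    rw [mem_subgroupOf, mem_subgroupOf]
    have hb : (b : G) ∈ D.Hs.U := b.2
    rcases zmod_cases (D.Hs.φ D.z b) with h | h
    · right
      refine ⟨D.NO_iff.2 ⟨hb, h⟩, fun h3 => ?_⟩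
      have h4 := (D.NO_iff.1 h3).2
      have h5 := D.Hs.φ_mul zΔ hb hyU
      rw [h, hy1] at h5
      have h6 : D.Hs.φ D.z ((b : G) * y) = 0 := h4
      rw [h5] at h6
      exact absurd h6 (by decide)
    · left
      refine ⟨D.NO_iff.2 ⟨D.Hs.U.mul_mem hb hyU, ?_⟩, fun h3 => ?_⟩
      · show D.Hs.φ D.z ((b : G) * y) = 0
        rw [D.Hs.φ_mul zΔ hb hyU, h, hy1]; decide
      · have h4 := (D.NO_iff.1 h3).2
        rw [h] at h4
        exact one_ne_zero h4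
  have r1 : D.r 0 ≠ 1 := D.Ms.one_notin D.r0_Δ
  have rz : D.r 0 ≠ D.z := D.Ms.z_notin D.r0_Δ
  have h3 : Nat.card (D.NO (D.r 0)) = 4 := by
    have e : ((D.NO (D.r 0) : Subgroup G) : Set G) = {1, D.z, D.r 0, D.r 0 * D.z} := by
      ext n
      constructor
      · intro hn
        exact Bz.NO_four hk hn
      · intro hn
        have hz : D.z ∈ D.NO (D.r 0) := D.NO_iff.2 ⟨D.zN, D.Hs.φ_self zΔ⟩
        have hr : D.r 0 ∈ D.NO (D.r 0) := D.NO_iff.2 ⟨D.Hs.z_mem, D.Hs.φ_z zΔ⟩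
        rcases hn with hn | hn | hn | hn
        · rw [hn]; exact Subgroup.one_mem _
        · rw [hn]; exact hz
        · rw [hn]; exact hr
        · rw [hn]; exact Subgroup.mul_mem _ hr hz
    have h4 : Nat.card (D.NO (D.r 0)) = Set.ncard ((D.NO (D.r 0) : Subgroup G) : Set G) := rfl
    rw [h4, e]
    have n1 : (1 : G) ≠ D.z := fun h => D.z_ne h.symm
    have n2 : (1 : G) ≠ D.r 0 := fun h => r1 h.symm
    have n3 : (1 : G) ≠ D.r 0 * D.z := fun h => D.Ms.pz_ne D.r0_Δ h.symm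
    have n4 : D.z ≠ D.r 0 := fun h => rz h.symm
    have n5 : D.z ≠ D.r 0 * D.z := fun h => r1 (right_eq_mul.1 h)
    have n6 : D.r 0 ≠ D.r 0 * D.z := fun h => D.z_ne (left_eq_mul.1 h)
    rw [Set.ncard_insert_of_notMem, Set.ncard_insert_of_notMem, Set.ncard_pair n6]
    · rintro (h | h)
      · exact n4 h
      · exact n5 h
    · rintro (h | h | h)
      · exact n1 h
      · exact n2 h
      · exact n3 h
  have h5 := Subgroup.card_mul_index ((D.NO (D.r 0)).subgroupOf (gen (D.r 0) D.z))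
  rw [h2, Nat.card_congr (Subgroup.subgroupOfEquivOfLe h1).toEquiv, h3] at h5
  exact h5.symm

end Cfsg.Agent.Omega.HOneTwo.Trans
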