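import Cfsg.Agent.Omega.HOneTwo.TwoKOne
import Cfsg.Agent.Lib.NormalAbelian

/-!
# II.0h1, `q = 2`: (16) of #16429 (helper467), the case `k ≥ 2`

`k ≥ 2`: some `n ∈ NO (r 0) = N₁ ∩ O_M` is not in `U`.  Then
* `Gam_nab` : `Γ` is not abelian; `Hs_orth` : the `H`-side is orthogonal;
* `perp_trans` : `C(r) ∩ C(z)` is transitive on `ZZ ∩ z^⊥ - {z}`;
* `O_perp` : `[O, NO p] ≤ ⟨z⟩`; `O_Gam` : `[O, Γ] ≤ ⟨z⟩`;
* `O_fix` : an `x ∈ O` fixing some `y ∈ ZZ - z^⊥` is in `Q₁`; `O_split` : `O = Γ (O ∩ Q₁)`.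
-/

set_option autoImplicit false
set_option maxHeartbeats 400000
set_option linter.unusedSectionVars false

namespace Cfsg.Agent.Omega.HOneTwo.Trans

open Subgroup Cfsg.Agent

universe u

variable {G : Type u} [Group G]

theorem le_norm_of_conj {H : Subgroup G} {S : Subgroup G} (hS : ∀ x ∈ S, ∀ y ∈ H, x * y * x⁻¹ ∈ H) :
    S ≤ normalizer (H : Set G) := by
  intro x hx
  rw [mem_normalizer_iff]
  intro y
  refine ⟨hS x hx y, fun hy => ?_⟩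
  have := hS x⁻¹ (inv_mem hx) _ hy
  simpa [mul_assoc] using this

/-- a nontrivial section `B / A` has a nontrivial fixed point under a 2-group -/
theorem exists_fix_mod [Finite G] {S B A : Subgroup G} (hS : IsPGroup 2 S) (hB2 : IsPGroup 2 B)
    (hBn : ∀ x ∈ S, ∀ b ∈ B, x * b * x⁻¹ ∈ B) (hAn : ∀ x ∈ S, ∀ b ∈ A, x * b * x⁻¹ ∈ A)
    (hAB : ∀ x ∈ B, ∀ b ∈ A, x * b * x⁻¹ ∈ A) (hne : ¬ B ≤ A) :
    ∃ m ∈ B, m ∉ A ∧ ∀ t ∈ S, t * m * t⁻¹ * m⁻¹ ∈ A := by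
  have : Fact (Nat.Prime 2) := ⟨Nat.prime_two⟩
  set T : Subgroup G := S ⊔ B with hTdef
  have hSB : S ≤ normalizer (B : Set G) := le_norm_of_conj hBn
  have hT : IsPGroup 2 T := IsPGroup.to_sup_of_normal_right' hS hB2 hSB
  have hBT : B ≤ T := le_sup_right
  have hB : T ≤ normalizer (B : Set G) := sup_le hSB le_normalizer
  have hA : T ≤ normalizer (A : Set G) := sup_le (le_norm_of_conj hAn) (le_norm_of_conj hAB)
  have hnA : (A.subgroupOf T).Normal := normal_subgroupOf_of_le_normalizer hA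
  have hnB : (B.subgroupOf T).Normal := normal_subgroupOf_of_le_normalizer hB
  have hp : IsPGroup 2 (T ⧸ A.subgroupOf T) := hT.to_quotient _
  have : Group.IsNilpotent (T ⧸ A.subgroupOf T) := hp.isNilpotent
  let K : Subgroup (T ⧸ A.subgroupOf T) := (B.subgroupOf T).map (QuotientGroup.mk' (A.subgroupOf T))
  have hK : K.Normal := hnB.map _ (QuotientGroup.mk'_surjective _)
  have hK1 : K ≠ ⊥ := by
    intro h
    apply hne
    intro x hx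
    have h1 : QuotientGroup.mk' (A.subgroupOf T) ⟨x, hBT hx⟩ ∈ K := ⟨⟨x, hBT hx⟩, hx, rfl⟩
    rw [h, mem_bot] at h1
    exact (QuotientGroup.eq_one_iff (⟨x, hBT hx⟩ : T)).1 h1
  have h2 := Lib.NormalAbelian.normal_inf_center_ne_bot K hK1
  obtain ⟨⟨y, hy⟩, hy1⟩ := Subgroup.ne_bot_iff_exists_ne_one.1 h2
  obtain ⟨⟨m, hm, rfl⟩, hyc⟩ := mem_inf.1 hy
  refine ⟨m, hm, fun h => hy1 ?_, fun t ht => ?_⟩
  · apply Subtype.ext
    exact (QuotientGroup.eq_one_iff m).2 h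
  · have ht' : t ∈ T := (le_sup_left : S ≤ T) ht
    have h3 := mem_center_iff.1 hyc (QuotientGroup.mk' (A.subgroupOf T) ⟨t, ht'⟩)
    rw [← map_mul, ← map_mul] at h3
    have h4 : QuotientGroup.mk' (A.subgroupOf T) (⟨t, ht'⟩ * m * (⟨t, ht'⟩ : T)⁻¹ * m⁻¹) = 1 := by
      rw [mul_assoc, map_mul, h3, ← map_mul]
      rw [show m * ⟨t, ht'⟩ * ((⟨t, ht'⟩ : T)⁻¹ * m⁻¹) = 1 by group, map_one]
    have h5 := (QuotientGroup.eq_one_iff ((⟨t, ht'⟩ : T) * m * (⟨t, ht'⟩ : T)⁻¹ * m⁻¹)).1 h4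
    exact h5

namespace TS

variable (D : TS G)

theorem zHΔ : D.z ∈ D.Hs.Δ := self_mem_Delta (D.r 0) D.z

theorem zN : D.z ∈ D.Hs.U := D.Hs.Δ_le D.zHΔ

theorem mem_HA {h : G} : h ∈ D.Hs.A ↔ h * D.r 0 = D.r 0 * h := mem_centralizer_singleton_iff

/-- `NO (r 0) = N₁ ∩ z^⊥` -/
theorem NO_iff {n : G} : n ∈ D.NO (D.r 0) ↔ n ∈ D.Hs.U ∧ D.Hs.φ D.z n = 0 := by
  rw [D.mem_NO]
  refine and_congr_right fun _ => ?_
  rw [← D.not_NC_iff]
  constructor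
  · intro h h'
    exact h' fun u hu => conj_of_comm (h u hu)
  · intro h u hu
    unfold Side.NC at h
    push Not at h
    exact comm_of_conj (h u hu)

theorem pw_N {c : ZMod 2} : pw D.z c ∈ D.Hs.U := D.Hs.pw_mem D.zN c

end TS

namespace Bz

variable {D : TS G} (B : Bz D)
include B

/-- `(z^⊥)^⊥ = ⟨z, r⟩` -/
theorem perp_perp {v : G} (hv : v ∈ D.Hs.U) (h : ∀ w ∈ D.Hs.U, D.Hs.φ D.z w = 0 → D.Hs.f v w = 0) :
    v = 1 ∨ v = D.z ∨ v = D.r 0 ∨ v = D.r 0 * D.z := by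
  have hF := B.full
  have zΔ := D.zHΔ
  have zN := D.zN
  obtain ⟨y, hy, hy1⟩ := D.Hs.exists_nbr zΔ
  have hyU := D.Hs.Δ_le hy
  have fz : ∀ w, D.Hs.f D.z w = D.Hs.φ D.z w := fun w => Side.f_Δ zΔ
  set c := D.Hs.f v y with hc
  have hcU : pw D.z c ∈ D.Hs.U := D.pw_N
  have fpw : ∀ w ∈ D.Hs.U, D.Hs.f (pw D.z c) w = c * D.Hs.φ D.z w := by
    intro w hw
    rcases zmod_cases c with h1 | h1
    · rw [h1, pw_zero, hF.f_one, zero_mul]
    · rw [h1, pw_one, fz, one_mul]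
  have key : ∀ w ∈ D.Hs.U, D.Hs.f (v * pw D.z c) w = 0 := by
    intro w hw
    rw [hF.f_mul_left hv hcU hw, fpw w hw]
    rcases zmod_cases (D.Hs.φ D.z w) with h1 | h1
    · rw [h w hw h1, h1, mul_zero, add_zero]
    · -- `w y ∈ z^⊥`
      have h2 : D.Hs.φ D.z (w * y) = 0 := by
        rw [D.Hs.φ_mul zΔ hw hyU, h1, hy1]; decide
      have h3 := h _ (D.Hs.U.mul_mem hw hyU) h2
      rw [hF.f_mul_right hw hyU hv, ← hc] at h3
      rw [h1, mul_one]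
      exact h3
  have h4 := hF.rad (D.Hs.U.mul_mem hv hcU) fun p hp => key p (D.Hs.Δ_le hp)
  have h5 : v = v * pw D.z c * pw D.z c := by
    rw [mul_assoc, ← pw_add D.z_sq]
    have : c + c = 0 := by
      have : ∀ c : ZMod 2, c + c = 0 := by decide
      exact this c
    rw [this, pw_zero, mul_one]
  rcases h4 with h4 | h4 <;> rw [h4] at h5 <;> rcases zmod_cases c with h6 | h6
  · rw [h6, pw_zero, mul_one] at h5; exact Or.inl h5
  · rw [h6, pw_one, one_mul] at h5; exact Or.inr (Or.inl h5)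
  · rw [h6, pw_zero, mul_one] at h5; exact Or.inr (Or.inr (Or.inl h5))
  · rw [h6, pw_one] at h5; exact Or.inr (Or.inr (Or.inr h5))

/-- `y` and `y'` adjacent in `z^⊥` are conjugate under `C(r) ∩ C(z)` -/
theorem adj_conj {y y' : G} (hy : y ∈ D.Hs.Δ) (hy' : y' ∈ D.Hs.Δ) (hz : D.Hs.φ D.z y = 0)
    (hz' : D.Hs.φ D.z y' = 0) (h1 : D.Hs.φ y y' = 1) :
    ∃ h, h * D.r 0 = D.r 0 * h ∧ h * D.z = D.z * h ∧ h * y * h⁻¹ = y' := by
  have zΔ := D.zHΔ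
  have hyU := D.Hs.Δ_le hy
  have hyU' := D.Hs.Δ_le hy'
  have hw : y * y' * D.r 0 ∈ D.Hs.Δ := D.Hs.mz1 hy hy' h1
  have hrU : D.r 0 ∈ D.Hs.U := D.Hs.z_mem
  have hwA := D.Hs.t_A hw
  refine ⟨D.Hs.t (y * y' * D.r 0), D.mem_HA.1 hwA, ?_, ?_⟩
  · apply comm_of_conj
    rw [D.Hs.t_act hw D.zN, D.Hs.symm hw zΔ, D.Hs.φ_mul zΔ (D.Hs.U.mul_mem hyU hyU') hrU,
      D.Hs.φ_mul zΔ hyU hyU', hz, hz', show D.Hs.φ D.z (D.r 0) = 0 from D.Hs.φ_z zΔ, add_zero, add_zero, pw_zero,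
      mul_one]
  · rw [D.Hs.t_act hw hyU, D.Hs.symm hw hy, D.Hs.φ_mul hy (D.Hs.U.mul_mem hyU hyU') hrU,
      D.Hs.φ_mul hy hyU hyU', D.Hs.φ_self hy, h1, show D.Hs.φ y (D.r 0) = 0 from D.Hs.φ_z hy, add_zero, zero_add,
      pw_one]
    have h2 : D.Hs.z = D.r 0 := rfl
    rw [h2]
    have h3 := D.r_sq 0
    have h4 := D.Hs.U_sq y hyU
    calc y * (y * y' * D.r 0 * D.r 0) = (y * y) * y' * (D.r 0 * D.r 0) := by group
      _ = y' := by rw [h3, h4, one_mul, mul_one]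

/-- an element of `ZZ ∩ z^⊥ - {z}` has a neighbour in `ZZ ∩ z^⊥` -/
theorem perp_nbr {y : G} (hy : y ∈ D.Hs.Δ) (hne : y ≠ D.z) :
    ∃ v ∈ D.Hs.Δ, D.Hs.φ D.z v = 0 ∧ D.Hs.φ y v = 1 := by
  have hF := B.full
  have zΔ := D.zHΔ
  have hyU := D.Hs.Δ_le hy
  by_contra hcon
  push Not at hcon
  have h1 := B.perp_perp hyU (by
    intro w hw h0
    rw [Side.f_Δ hy]
    rcases zmod_cases (D.Hs.φ y w) with h | h
    · exact h
    · exfalso
      rcases hF.full w hw with h2 | h2 | h2 | h2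
      · rw [h2, D.Hs.φ_one hy] at h; exact one_ne_zero h.symm
      · rw [h2, D.Hs.φ_z hy] at h; exact one_ne_zero h.symm
      · exact hcon w h2 h0 h
      · apply hcon _ h2
        · rw [hF.φ_mul_z zΔ hw, h0]
        · rw [hF.φ_mul_z hy hw, h])
  rcases h1 with h1 | h1 | h1 | h1
  · exact D.Hs.one_notin hy h1
  · exact hne h1
  · exact D.Hs.z_notin hy h1
  · have h2 := hF.inj D.z zΔ
    rw [h1, ← D.z_r] at hy
    exact h2 hy

/-- a common neighbour in `ZZ ∩ z^⊥` -/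
theorem perp_common {y y' : G} (hy : y ∈ D.Hs.Δ) (hy' : y' ∈ D.Hs.Δ) (hne : y ≠ D.z) (hne' : y' ≠ D.z) :
    ∃ v ∈ D.Hs.Δ, D.Hs.φ D.z v = 0 ∧ D.Hs.φ y v = 1 ∧ D.Hs.φ y' v = 1 := by
  have hF := B.full
  have zΔ := D.zHΔ
  obtain ⟨a, ha, ha0, ha1⟩ := B.perp_nbr hy hne
  obtain ⟨b, hb, hb0, hb1⟩ := B.perp_nbr hy' hne'
  have haU := D.Hs.Δ_le ha
  have hbU := D.Hs.Δ_le hb
  rcases zmod_cases (D.Hs.φ y' a) with h1 | h1
  · rcases zmod_cases (D.Hs.φ y b) with h2 | h2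
    · have habU := D.Hs.U.mul_mem haU hbU
      have e0 : D.Hs.φ D.z (a * b) = 0 := by rw [D.Hs.φ_mul zΔ haU hbU, ha0, hb0, add_zero]
      have e1 : D.Hs.φ y (a * b) = 1 := by rw [D.Hs.φ_mul hy haU hbU, ha1, h2, add_zero]
      have e2 : D.Hs.φ y' (a * b) = 1 := by rw [D.Hs.φ_mul hy' haU hbU, hb1, h1, zero_add]
      rcases hF.full _ habU with h | h | h | h
      · rw [h, D.Hs.φ_one hy] at e1; exact absurd e1.symm one_ne_zero
      · rw [h, D.Hs.φ_z hy] at e1; exact absurd e1.symm one_ne_zero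
      · exact ⟨_, h, e0, e1, e2⟩
      · exact ⟨_, h, by rw [hF.φ_mul_z zΔ habU, e0], by rw [hF.φ_mul_z hy habU, e1],
          by rw [hF.φ_mul_z hy' habU, e2]⟩
    · exact ⟨b, hb, hb0, h2, hb1⟩
  · exact ⟨a, ha, ha0, ha1, h1⟩

/-- `C(r) ∩ C(z)` is transitive on `ZZ ∩ z^⊥ - {z}` -/
theorem perp_trans {y y' : G} (hy : y ∈ D.Hs.Δ) (hy' : y' ∈ D.Hs.Δ) (hz : D.Hs.φ D.z y = 0)
    (hz' : D.Hs.φ D.z y' = 0) (hne : y ≠ D.z) (hne' : y' ≠ D.z) :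
    ∃ h, h * D.r 0 = D.r 0 * h ∧ h * D.z = D.z * h ∧ h * y * h⁻¹ = y' := by
  obtain ⟨v, hv, hv0, h1, h2⟩ := B.perp_common hy hy' hne hne'
  obtain ⟨a, ha, ha', e⟩ := B.adj_conj hy hv hz hv0 h1
  obtain ⟨b, hb, hb', e'⟩ := B.adj_conj hv hy' hv0 hz' ((D.Hs.symm hv hy').trans h2)
  refine ⟨b * a, ?_, ?_, ?_⟩
  · rw [mul_assoc, ha, ← mul_assoc, hb, mul_assoc]
  · rw [mul_assoc, ha', ← mul_assoc, hb', mul_assoc]
  · calc b * a * y * (b * a)⁻¹ = b * (a * y * a⁻¹) * b⁻¹ := by group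
      _ = y' := by rw [e, e']

theorem BN_eq {b : G} (hb : b ∈ D.BN) : b = 1 ∨ b = D.z := B.cen b (D.mem_BB.1 hb.1)

end Bz

namespace OM

variable {D : TS G} {O : Subgroup G} (F : OM D O) (B : Bz D)
include F B

/-- `Γ` is not abelian -/
theorem Gam_nab (hk : ¬ KOne D) : ∃ n ∈ D.NO (D.r 0), ∃ g ∈ D.Gam, g * n * g⁻¹ = n * D.z := by
  have hF := B.full
  have zΔ := D.zHΔ
  have h0Δ : D.r 0 ∈ D.Δ := D.r0_Δ
  -- it is enough that `g` and `n` do not commute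
  suffices hs : ∃ n ∈ D.NO (D.r 0), ∃ g ∈ D.Gam, g * n ≠ n * g by
    obtain ⟨n, hn, g, hg, hne⟩ := hs
    refine ⟨n, hn, g, hg, ?_⟩
    obtain ⟨b, hb, h1⟩ := D.CB_Gam hg (D.NO_le_Gam h0Δ hn)
    rcases B.BN_eq hb with h2 | h2
    · rw [h2, one_mul] at h1; exact absurd h1 hne
    · rw [h2] at h1
      have hnz : n * D.z = D.z * n := D.N_z (D.mem_NO.1 hn).1
      calc g * n * g⁻¹ = D.z * n := by rw [h1]; group
        _ = n * D.z := hnz.symm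
  by_contra hcon
  push Not at hcon
  obtain ⟨n0, hn0, hn0U⟩ : ∃ n ∈ D.NO (D.r 0), n ∉ D.U := by
    unfold KOne at hk
    push Not at hk
    exact hk
  apply hn0U
  -- `n0 = [n, t] b`
  obtain ⟨p, hp, hp1⟩ := D.Ms.exists_nbr (p := D.r 0) h0Δ
  obtain ⟨t, ht, htU⟩ := D.exists_n h0Δ
  obtain ⟨n, hn, b, hb, h1⟩ := D.surj hp h0Δ ((D.φ_symm hp h0Δ).trans hp1) hn0 ht htU
  have hnO := F.NO_O hp hn
  have hnA : n ∈ D.Hs.A := D.mem_HA.2 (F.O_r hnO)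
  have hnG := D.NO_le_Gam hp hn
  have htN : t ∈ D.Hs.U := ht
  have hntN : n * t * n⁻¹ ∈ D.Hs.U := F.O_N hnO ht
  have hc := D.Hs.U.mul_mem hntN (D.Hs.U.inv_mem htN)
  have h2 := B.perp_perp hc (by
    intro w hw h3
    have hw' : w ∈ D.NO (D.r 0) := D.NO_iff.2 ⟨hw, h3⟩
    have h4 := hcon w hw' n hnG
    have h5 := hF.f_conj hnA htN hw
    rw [conj_of_comm h4] at h5
    rw [hF.f_mul_left hntN (D.Hs.U.inv_mem htN) hw, h5, D.Hs.U_inv htN]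
    have : ∀ c : ZMod 2, c + c = 0 := by decide
    exact this _)
  have hU : n * t * n⁻¹ * t⁻¹ ∈ D.U := by
    rcases h2 with h | h | h | h
    · rw [h]; exact D.U.one_mem
    · rw [h]; exact D.z_mem
    · rw [h]; exact D.r_mem 0
    · rw [h]; exact D.U.mul_mem (D.r_mem 0) D.z_mem
  have hbU : b ∈ D.U := by
    rcases B.BN_eq hb with h | h
    · rw [h]; exact D.U.one_mem
    · rw [h]; exact D.z_mem
  rw [h1]
  exact D.U.mul_mem hU hbU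

/-- `y z ∈ ZZ` for `y ∈ ZZ ∩ z^⊥`, `y ≠ z` -/
theorem mul_z_ZZ (hk : ¬ KOne D) {y : G} (hy : y ∈ D.Hs.Δ) (hz : D.Hs.φ D.z y = 0) (hne : y ≠ D.z) :
    y * D.z ∈ D.Hs.Δ := by
  have hF := B.full
  have zΔ := D.zHΔ
  obtain ⟨n, hn, g, hg, h1⟩ := F.Gam_nab B hk
  have hgO := F.Gam_O hg
  have hgA : g ∈ D.Hs.A := D.mem_HA.2 (F.O_r hgO)
  have hgz := F.O_z hgO
  have hgr := F.O_r hgO
  have hn' := D.NO_iff.1 hn
  have z1 : D.z ≠ 1 := D.z_ne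
  -- one `y0`
  obtain ⟨y0, hy0, hz0, hne0, h0⟩ : ∃ y0 ∈ D.Hs.Δ, D.Hs.φ D.z y0 = 0 ∧ y0 ≠ D.z ∧ y0 * D.z ∈ D.Hs.Δ := by
    rcases hF.full n hn'.1 with h | h | h | h
    · rw [h, mul_one, mul_inv_cancel, one_mul] at h1
      exact absurd h1.symm z1
    · rw [h, show D.Hs.z = D.r 0 from rfl, hgr, mul_inv_cancel_right, left_eq_mul] at h1
      exact absurd h1 z1
    · refine ⟨n, h, hn'.2, ?_, ?_⟩
      · intro h2
        rw [h2, hgz, mul_inv_cancel_right, left_eq_mul] at h1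
        exact z1 h1
      · rw [← h1]; exact D.Hs.Δ_conj g hgA n h
    · have h3 : n * D.Hs.z = n * D.r 0 := rfl
      rw [h3] at h
      have h2 : g * (n * D.r 0) * g⁻¹ = n * D.r 0 * D.z := by
        calc g * (n * D.r 0) * g⁻¹ = (g * n * g⁻¹) * (g * D.r 0 * g⁻¹) := by group
          _ = n * D.z * D.r 0 := by rw [h1, conj_of_comm hgr]
          _ = n * D.r 0 * D.z := by rw [mul_assoc, D.z_r, ← mul_assoc]
      refine ⟨n * D.r 0, h, ?_, ?_, ?_⟩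
      · have := hF.φ_mul_z zΔ hn'.1
        rw [hn'.2] at this
        exact this
      · intro h4
        rw [h4, hgz, mul_inv_cancel_right, left_eq_mul] at h2
        exact z1 h2
      · rw [← h2]; exact D.Hs.Δ_conj g hgA _ h
  obtain ⟨h, hr, hz', e⟩ := B.perp_trans hy0 hy hz0 hz hne0 hne
  have h2 := D.Hs.Δ_conj h (D.mem_HA.2 hr) _ h0
  have h3 : h * (y0 * D.z) * h⁻¹ = y * D.z := by
    calc h * (y0 * D.z) * h⁻¹ = (h * y0 * h⁻¹) * (h * D.z * h⁻¹) := by group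
      _ = _ := by rw [e, conj_of_comm hz']
  rwa [h3] at h2

/-- the `H`-side is orthogonal -/
theorem Hs_orth (hk : ¬ KOne D) : D.Hs.IsOrth where
  full := B.full.full
  inj := B.full.inj
  mm := by
    rintro p ⟨h, hh, rfl⟩ q hq hne h0
    have hhA : h ∈ D.Hs.A := D.mem_HA.2 hh
    have hhA' := D.Hs.A.inv_mem hhA
    have hq' := D.Hs.Δ_conj _ hhA' q hq
    have e1 : h⁻¹ * (h * D.z * h⁻¹) * h⁻¹⁻¹ = D.z := by group
    have h1 := D.Hs.φ_conj hhA' (show h * D.z * h⁻¹ ∈ D.Hs.Δ from ⟨h, hh, rfl⟩) (D.Hs.Δ_le hq)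
    rw [e1, h0] at h1
    have h2 := F.mul_z_ZZ B hk hq' h1 (by
      intro h3
      apply hne
      rw [← h3]; group)
    have h3 := D.Hs.Δ_conj h hhA _ h2
    have e : h * (h⁻¹ * q * h⁻¹⁻¹ * D.z) * h⁻¹ = h * D.z * h⁻¹ * q := by
      have h4 := D.Hs.U_comm D.zN (D.Hs.Δ_le hq')
      calc h * (h⁻¹ * q * h⁻¹⁻¹ * D.z) * h⁻¹ = h * (D.z * (h⁻¹ * q * h⁻¹⁻¹)) * h⁻¹ := by rw [h4]
        _ = _ := by group
    rwa [e] at h3

/-- `O` centralises `z^⊥` modulo `z` -/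
theorem O_perp0 [Finite G] (hk : ¬ KOne D) {x n : G} (hx : x ∈ O) (hn : n ∈ D.NO (D.r 0)) :
    x * n * x⁻¹ = n ∨ x * n * x⁻¹ = n * D.z := by
  have hF := B.full
  have zΔ := D.zHΔ
  have zsq := D.z_sq
  -- a vector fixed modulo `⟨z, r⟩`
  obtain ⟨m, hm, hmA, hfix⟩ := exists_fix_mod (S := O) (B := D.NO (D.r 0)) (A := D.U ⊓ gen (D.r 0) D.z) F.two
    (by
      intro g
      refine ⟨1, ?_⟩
      apply Subtype.ext
      have := D.N_sq (D.mem_NO.1 g.2).1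
      show (g : G) ^ (2 ^ 1) = 1
      rw [pow_one, pow_two, this])
    (by
      intro t ht b hb
      have h1 := F.comm_mem D.r0_Δ ht (D.mem_NO.1 hb).1
      have h2 := Subgroup.mul_mem _ h1 hb
      have e : t * b * t⁻¹ * b⁻¹ * b = t * b * t⁻¹ := by group
      rwa [e] at h2)
    (by
      intro t ht b hb
      have h1 := F.O_U t ht b hb.1
      rw [conj_of_comm h1]
      exact hb)
    (by
      intro t ht b hb
      have h1 := (D.mem_NO.1 ht).2 b hb.1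
      rw [conj_of_comm h1]
      exact hb)
    (by
      intro h
      exact hk fun n hn => (h hn).1)
  -- `y0`
  obtain ⟨y0, hy0, hz0, hne0, h0⟩ : ∃ y0 ∈ D.Hs.Δ, D.Hs.φ D.z y0 = 0 ∧ y0 ≠ D.z ∧
      ∀ t ∈ O, t * y0 * t⁻¹ = y0 ∨ t * y0 * t⁻¹ = y0 * D.z := by
    have hm' := D.NO_iff.1 hm
    have hmU : m ∉ D.U := fun h => hmA ⟨h, hm'.1⟩
    -- the shape of `t y t⁻¹` for `y ∈ {m, m r}`
    have main : ∀ y ∈ D.Hs.Δ, D.Hs.φ D.z y = 0 → y ≠ D.z → (∀ t ∈ O, t * y * t⁻¹ * y⁻¹ ∈ D.U ⊓ gen (D.r 0) D.z) →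
        ∀ t ∈ O, t * y * t⁻¹ = y ∨ t * y * t⁻¹ = y * D.z := by
      intro y hy hzy hney hfx t ht
      have hyU := D.Hs.Δ_le hy
      have htA : t ∈ D.Hs.A := D.mem_HA.2 (F.O_r ht)
      have h1 := hfx t ht
      have h2 := D.U_zt h1.1 (D.N_le_zt 0 h1.2)
      have h3 := D.Hs.Δ_conj t htA y hy
      have hcm := D.Hs.U_comm (show t * y * t⁻¹ * y⁻¹ ∈ D.Hs.U from h1.2) hyU
      have e : t * y * t⁻¹ = y * (t * y * t⁻¹ * y⁻¹) := by
        rw [← hcm]; group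
      have h4 := F.mul_z_ZZ B hk hy hzy hney
      rcases h2 with h5 | h5 | h5 | h5
      · left; rw [e, h5, mul_one]
      · right; rw [e, h5]
      · exfalso
        rw [e, h5] at h3
        exact hF.inj y hy h3
      · exfalso
        rw [e, h5, ← D.z_r, ← mul_assoc] at h3
        exact hF.inj _ h4 h3
    rcases hF.full m hm'.1 with h | h | h | h
    · exact absurd (h ▸ D.U.one_mem) hmU
    · exact absurd (show m ∈ D.U by rw [h]; exact D.r_mem 0) hmU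
    · refine ⟨m, h, hm'.2, fun h2 => hmU (by rw [h2]; exact D.z_mem), ?_⟩
      exact main m h hm'.2 (fun h2 => hmU (by rw [h2]; exact D.z_mem)) hfix
    · have h3 : n * D.Hs.z = n * D.r 0 := rfl
      have hne : m * D.Hs.z ≠ D.z := by
        intro h2
        apply hmU
        have h4 : m = m * D.Hs.z * D.r 0 := by
          rw [show D.Hs.z = D.r 0 from rfl, mul_assoc, D.r_sq, mul_one]
        rw [h4, h2]
        exact D.U.mul_mem D.z_mem (D.r_mem 0)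
      have h0' : D.Hs.φ D.z (m * D.Hs.z) = 0 := by rw [hF.φ_mul_z zΔ hm'.1, hm'.2]
      refine ⟨m * D.Hs.z, h, h0', hne, ?_⟩
      apply main _ h h0' hne
      intro t ht
      have h5 := hfix t ht
      have htr : t * D.Hs.z = D.Hs.z * t := F.O_r ht
      have e : t * (m * D.Hs.z) * t⁻¹ * (m * D.Hs.z)⁻¹ = t * m * t⁻¹ * m⁻¹ := by
        calc t * (m * D.Hs.z) * t⁻¹ * (m * D.Hs.z)⁻¹
            = (t * m * t⁻¹) * (t * D.Hs.z * t⁻¹) * D.Hs.z⁻¹ * m⁻¹ := by group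
          _ = _ := by rw [conj_of_comm htr]; group
      rw [e]; exact h5
  -- all `y`
  have all : ∀ y ∈ D.Hs.Δ, D.Hs.φ D.z y = 0 → ∀ t ∈ O, t * y * t⁻¹ = y ∨ t * y * t⁻¹ = y * D.z := by
    intro y hy hzy t ht
    by_cases hne : y = D.z
    · left; rw [hne, F.O_z ht, mul_inv_cancel_right]
    · obtain ⟨h, hr, hz', e⟩ := B.perp_trans hy0 hy hz0 hzy hne0 hne
      have hM : h ∈ D.M := D.M_r h hr hz'
      have h1 := F.O_conj _ (D.M.inv_mem hM) t ht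
      have hcz : h * D.z * h⁻¹ = D.z := conj_of_comm hz'
      rcases h0 _ h1 with h2 | h2
      · left
        calc t * y * t⁻¹ = h * (h⁻¹ * t * h⁻¹⁻¹ * y0 * (h⁻¹ * t * h⁻¹⁻¹)⁻¹) * h⁻¹ := by rw [← e]; group
          _ = y := by rw [h2, e]
      · right
        calc t * y * t⁻¹ = h * (h⁻¹ * t * h⁻¹⁻¹ * y0 * (h⁻¹ * t * h⁻¹⁻¹)⁻¹) * h⁻¹ := by rw [← e]; group
          _ = (h * y0 * h⁻¹) * (h * D.z * h⁻¹) := by rw [h2]; group
          _ = y * D.z := by rw [e, hcz]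
  have hn' := D.NO_iff.1 hn
  have hxr : x * D.r 0 = D.r 0 * x := F.O_r hx
  rcases hF.full n hn'.1 with h | h | h | h
  · left; rw [h]; group
  · left; rw [h]; exact conj_of_comm hxr
  · exact all n h hn'.2 x hx
  · have h0' : D.Hs.φ D.z (n * D.Hs.z) = 0 := by rw [hF.φ_mul_z zΔ hn'.1, hn'.2]
    have h1 := all _ h h0' x hx
    have e : x * (n * D.Hs.z) * x⁻¹ = x * n * x⁻¹ * D.r 0 := by
      calc x * (n * D.r 0) * x⁻¹ = (x * n * x⁻¹) * (x * D.r 0 * x⁻¹) := by group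
        _ = _ := by rw [conj_of_comm hxr]
    rw [e] at h1
    rcases h1 with h1 | h1
    · left
      exact mul_right_cancel h1
    · right
      apply mul_right_cancel (b := D.r 0)
      rw [h1]
      calc n * D.Hs.z * D.z = n * (D.r 0 * D.z) := by rw [mul_assoc]; rfl
        _ = n * D.z * D.r 0 := by rw [← D.z_r, mul_assoc]

/-- **(16)** `[O, NO p] ≤ ⟨z⟩` -/
theorem O_perp [Finite G] (hk : ¬ KOne D) {p x n : G} (hp : p ∈ D.Δ) (hx : x ∈ O) (hn : n ∈ D.NO p) :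
    x * n * x⁻¹ = n ∨ x * n * x⁻¹ = n * D.z := by
  obtain ⟨m, hm, rfl⟩ := hp
  have hm' := D.M.inv_mem hm
  have h1 := D.NO_conj (D.mem_A.2 hm') hn
  rw [show m⁻¹ * (m * D.r 0 * m⁻¹) * m⁻¹⁻¹ = D.r 0 by group] at h1
  have h2 := F.O_conj _ hm' x hx
  have e : x * n * x⁻¹ = m * (m⁻¹ * x * m⁻¹⁻¹ * (m⁻¹ * n * m⁻¹⁻¹) * (m⁻¹ * x * m⁻¹⁻¹)⁻¹) * m⁻¹ := by group
  rcases F.O_perp0 B hk h2 h1 with h3 | h3
  · left
    rw [e, h3]; group
  · right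
    rw [e, h3]
    calc m * (m⁻¹ * n * m⁻¹⁻¹ * D.z) * m⁻¹ = n * (m * D.z * m⁻¹) := by group
      _ = n * D.z := by rw [D.m_z hm]

/-- **(16)** `[O, Γ] ≤ ⟨z⟩` -/
theorem O_Gam [Finite G] (hk : ¬ KOne D) {x g : G} (hx : x ∈ O) (hg : g ∈ D.Gam) :
    x * g * x⁻¹ = g ∨ x * g * x⁻¹ = g * D.z := by
  have hxz := F.O_z hx
  have hcz : ∀ g ∈ D.Gam, D.z * g = g * D.z := fun g hg => (F.O_z (F.Gam_O hg)).symm
  have zsq := D.z_sq
  have hg' : g ∈ closure {x | ∃ p ∈ D.Δ, x ∈ D.NO p} := hg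
  induction hg' using closure_induction with
  | mem g hg' =>
    obtain ⟨p, hp, hg'⟩ := hg'
    exact F.O_perp B hk hp hx hg'
  | one => left; group
  | mul a b ha hb ha' hb' =>
    have e : x * (a * b) * x⁻¹ = (x * a * x⁻¹) * (x * b * x⁻¹) := by group
    have hbz := hcz b hb
    rcases ha' ha with h1 | h1 <;> rcases hb' hb with h2 | h2
    · left; rw [e, h1, h2]
    · right; rw [e, h1, h2, mul_assoc]
    · right; rw [e, h1, h2, mul_assoc, hbz, ← mul_assoc]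
    · left
      rw [e, h1, h2]
      calc a * D.z * (b * D.z) = a * (D.z * b) * D.z := by group
        _ = a * b * (D.z * D.z) := by rw [hbz]; group
        _ = a * b := by rw [zsq, mul_one]
  | inv a ha ha' =>
    have e : x * a⁻¹ * x⁻¹ = (x * a * x⁻¹)⁻¹ := by group
    have haz := hcz a ha
    rcases ha' ha with h1 | h1
    · left; rw [e, h1]
    · right
      rw [e, h1, mul_inv_rev]
      have h2 : D.z⁻¹ = D.z := inv_eq_of_mul_eq_one_left zsq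
      rw [h2]
      exact (inv_comm haz.symm).symm

/-- an `x ∈ O` fixing some `y ∈ ZZ - z^⊥` centralises `N₁` -/
theorem O_fix [Finite G] (hk : ¬ KOne D) {x y : G} (hx : x ∈ O) (hy : y ∈ D.Hs.Δ) (hy1 : D.Hs.φ D.z y = 1)
    (hxy : x * y = y * x) : x ∈ D.Q (D.r 0) := by
  have hF := B.full
  have zΔ := D.zHΔ
  have hyU := D.Hs.Δ_le hy
  have hxA : x ∈ D.Hs.A := D.mem_HA.2 (F.O_r hx)
  have h0 : ∀ n ∈ D.Hs.U, D.Hs.φ D.z n = 0 → x * n * x⁻¹ = n := by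
    intro n hn hn0
    rcases F.O_perp0 B hk hx (D.NO_iff.2 ⟨hn, hn0⟩) with h1 | h1
    · exact h1
    · exfalso
      have h2 := hF.f_conj hxA hyU hn
      rw [conj_of_comm hxy, h1, hF.f_mul_right hn D.zN hyU, hF.f_symm hyU D.zN, Side.f_Δ zΔ, hy1] at h2
      have : ∀ c : ZMod 2, c + 1 ≠ c := by decide
      exact this _ h2
  apply F.O_Q x hx
  intro n hn
  have hn' : n ∈ D.Hs.U := hn
  apply comm_of_conj
  rcases zmod_cases (D.Hs.φ D.z n) with h1 | h1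
  · exact h0 n hn' h1
  · have h2 := h0 (n * y) (D.Hs.U.mul_mem hn' hyU) (by
      rw [D.Hs.φ_mul zΔ hn' hyU, h1, hy1]; decide)
    have h3 : x * n * x⁻¹ * y = n * y := by
      calc x * n * x⁻¹ * y = x * n * x⁻¹ * (x * y * x⁻¹) := by rw [conj_of_comm hxy]
        _ = x * (n * y) * x⁻¹ := by group
        _ = n * y := h2
    exact mul_right_cancel h3

/-- `O = Γ (O ∩ Q₁)` -/
theorem O_split [Finite G] (hk : ¬ KOne D)
    (hT : ∀ y ∈ D.Hs.Δ, ∀ y' ∈ D.Hs.Δ, D.Hs.φ D.z y = 1 → D.Hs.φ D.z y' = 1 → ∃ g ∈ D.Gam, g * y * g⁻¹ = y')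
    {x : G} (hx : x ∈ O) : ∃ g ∈ D.Gam, g⁻¹ * x ∈ O ∧ g⁻¹ * x ∈ D.Q (D.r 0) := by
  have zΔ := D.zHΔ
  obtain ⟨y, hy, hy1⟩ := D.Hs.exists_nbr zΔ
  have hxA : x ∈ D.Hs.A := D.mem_HA.2 (F.O_r hx)
  have h1 := D.Hs.Δ_conj x hxA y hy
  have h2 := D.Hs.φ_conj hxA zΔ (D.Hs.Δ_le hy)
  rw [conj_of_comm (F.O_z hx), hy1] at h2
  obtain ⟨g, hg, h3⟩ := hT y hy _ h1 hy1 h2
  have hgO : g⁻¹ * x ∈ O := O.mul_mem (O.inv_mem (F.Gam_O hg)) hx
  refine ⟨g, hg, hgO, F.O_fix B hk hgO hy hy1 ?_⟩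
  apply comm_of_conj
  calc g⁻¹ * x * y * (g⁻¹ * x)⁻¹ = g⁻¹ * (x * y * x⁻¹) * g := by group
    _ = y := by rw [← h3]; group

end OM

end Cfsg.Agent.Omega.HOneTwo.Trans
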