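import Cfsg.Agent.Omega.HOneTwo.OpTS
import Cfsg.Agent.Omega.HOneTwo.TwoOut
import Cfsg.Agent.Omega.HOneTwo.TwoPerp

/-!
# II.0h1, `q = 2`, F4-type: the end of (16)-(20) of #16429

`TS.f4` : `¬ KOne D` ⇒ `|U| = |N₁| = 2⁷`, `|NO r| = 2⁶`, `O₂(M) = Γ` of order `2¹⁵`.
-/

set_option autoImplicit false
set_option linter.unusedSectionVars false

namespace Cfsg.Agent.Omega.HOneTwo.Trans

open Subgroup Cfsg.Agent.Omega.BTwo Cfsg.Agent.Omega.HTwo.Eight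

universe u

variable {G : Type u} [Group G]

namespace TS

variable {D : TS G}

/-- the inputs of (17)-(20) from (16) -/
theorem Inp.of [Finite G] (hQ : ∀ p, D.Q p = Qp p) (F : OM D (O2 D.M)) (B : Bz D) (hk : ¬ KOne D) : D.Inp where
  hQ := hQ
  F := F
  B := B
  hOG := by
    intro o ho g hg
    have hoz : o * D.z = D.z * o := F.O_z ho
    have hgz : g * D.z = D.z * g := F.O_z (F.Gam_O hg)
    rcases F.O_Gam B hk ho hg with h | h
    · exact Or.inl (comm_of_conj h)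
    · right
      rw [mul_inv_eq_iff_eq_mul] at h
      rw [h, hgz, mul_assoc]

theorem hnab [Finite G] (F : OM D (O2 D.M)) (B : Bz D) (hk : ¬ KOne D) :
    ∃ g ∈ D.Gam, ∃ h ∈ D.Gam, g * h ≠ h * g := by
  obtain ⟨n, hn, g, hg, e⟩ := F.Gam_nab B hk
  refine ⟨g, hg, n, D.NO_le_Gam D.r0_Δ hn, fun h => ?_⟩
  rw [h, mul_inv_cancel_right] at e
  exact D.z_ne (left_eq_mul.1 e)

theorem hk' (hk : ¬ KOne D) : ∃ x ∈ D.NO (D.r 0), x ∉ D.U := by
  unfold KOne at hk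
  push Not at hk
  exact hk

theorem card_N [Finite G] : Nat.card (gen (D.r 0) D.z) = 2 * Nat.card (D.NO (D.r 0)) := by
  have h1 : D.NO (D.r 0) ≤ gen (D.r 0) D.z := fun _ h => h.1
  have h2 : ((D.NO (D.r 0)).subgroupOf (gen (D.r 0) D.z)).index = 2 := by
    rw [Subgroup.index_eq_two_iff]
    obtain ⟨y, hy, hy1⟩ := D.Hs.exists_nbr D.zHs
    have hyU : y ∈ gen (D.r 0) D.z := D.Hs.Δ_le hy
    refine ⟨⟨y, hyU⟩, fun b => ?_⟩
    obtain ⟨b, hb⟩ := b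
    rw [mem_subgroupOf, mem_subgroupOf]
    show Xor (b * y ∈ D.NO (D.r 0)) (b ∈ D.NO (D.r 0))
    have hb1 : D.Hs.φ D.z (b * y) = D.Hs.φ D.z b + 1 := by
      rw [D.Hs.φ_mul D.zHs hb hyU, hy1]
    rw [TB.mem_NO_r, TB.mem_NO_r, hb1]
    rcases zmod_cases (D.Hs.φ D.z b) with h | h <;> rw [h]
    · right
      refine ⟨⟨hb, rfl⟩, fun h' => ?_⟩
      exact absurd h'.2 (by decide)
    · left
      refine ⟨⟨Subgroup.mul_mem _ hb hyU, by decide⟩, fun h' => ?_⟩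
      exact absurd h'.2 (by decide)
  have h3 := Subgroup.index_mul_card ((D.NO (D.r 0)).subgroupOf (gen (D.r 0) D.z))
  rw [h2, Nat.card_congr (subgroupOfEquivOfLe h1).toEquiv] at h3
  exact h3.symm

/-- **(16)-(20)** -/
theorem f4 [Finite G] (hQ : ∀ p, D.Q p = Qp p) (F : OM D (O2 D.M)) (B : Bz D) (hk : ¬ KOne D) :
    Nat.card D.U = 2 ^ 7 ∧ Nat.card (D.NO (D.r 0)) = 2 ^ 6 ∧ Nat.card (gen (D.r 0) D.z) = 2 ^ 7 ∧
      O2 D.M = D.Gam ∧ Nat.card (O2 D.M) = 2 ^ 15 := by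
  obtain ⟨h1, h2, h3, h4⟩ := (Inp.of hQ F B hk).f4 (hk' hk) (hnab F B hk)
  exact ⟨h1, h2, by rw [card_N, h2]; norm_num, h3, h4⟩

end TS

end Cfsg.Agent.Omega.HOneTwo.Trans
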