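import Cfsg.Agent.ParSys.RankTwo
import Cfsg.Agent.Omega.BTwo.Conj

/-!
# II.0h1, `q = 2`: the digon `(1, 4)` of (21) of #16429 (helper467)

`XX A = ⟨O₂(C(a)) : a ∈ A⟩`.  If `XX A` centralises `B` and `S` normalises `A` and `B`, then `XX A` normalises
`XX B`, and `(XX B) S`, `(XX A) S` commute: `gpp_digon`.
-/

set_option autoImplicit false
set_option maxHeartbeats 400000
set_option linter.unusedSectionVars false

namespace Cfsg.Agent.Omega.HOneTwo.FDigon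

open Subgroup Cfsg.Agent Cfsg.Agent.Omega.BTwo Cfsg.Agent.ParSys Cfsg.Agent.ParSys.RankTwo

universe u v

variable {G : Type u} [Group G]

/-- `⟨O₂(C(a)) : a ∈ A⟩` -/
def XX (A : Set G) : Subgroup G := closure {x | ∃ a ∈ A, x ∈ O2 (centralizer {a})}

theorem le_XX {A : Set G} {a : G} (ha : a ∈ A) : O2 (centralizer {a}) ≤ XX A :=
  fun _ hx => subset_closure ⟨a, ha, hx⟩

theorem XX_le {A : Set G} {K : Subgroup G} (h : ∀ a ∈ A, O2 (centralizer {a}) ≤ K) : XX A ≤ K := by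
  unfold XX
  rw [closure_le]
  rintro x ⟨a, ha, hx⟩
  exact h a ha hx

theorem O2_cent_conj {g a x : G} (hx : x ∈ O2 (centralizer {a})) : g * x * g⁻¹ ∈ O2 (centralizer {g * a * g⁻¹}) := by
  have h1 : cj g (O2 (centralizer {a})) = O2 (centralizer {g * a * g⁻¹}) := by
    rw [cj_O2]
    congr 1
    ext y
    rw [mem_cj, mem_centralizer_singleton_iff, mem_centralizer_singleton_iff]
    constructor
    · intro h
      calc y * (g * a * g⁻¹) = g * (g⁻¹ * y * g * a) * g⁻¹ := by group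
        _ = g * (a * (g⁻¹ * y * g)) * g⁻¹ := by rw [h]
        _ = g * a * g⁻¹ * y := by group
    · intro h
      calc g⁻¹ * y * g * a = g⁻¹ * (y * (g * a * g⁻¹)) * g := by group
        _ = g⁻¹ * (g * a * g⁻¹ * y) * g := by rw [h]
        _ = a * (g⁻¹ * y * g) := by group
  rw [← h1]
  exact conj_mem_cj hx

/-- whatever normalises `A` normalises `XX A` -/
theorem XX_conj {A : Set G} {g : G} (hg : ∀ a ∈ A, g * a * g⁻¹ ∈ A) {x : G} (hx : x ∈ XX A) :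
    g * x * g⁻¹ ∈ XX A := by
  unfold XX at hx
  induction hx using closure_induction with
  | mem x hx =>
    obtain ⟨a, ha, hx⟩ := hx
    exact le_XX (hg a ha) (O2_cent_conj hx)
  | one => rw [mul_one, mul_inv_cancel]; exact one_mem _
  | mul x y _ _ hx hy =>
    have e : g * (x * y) * g⁻¹ = (g * x * g⁻¹) * (g * y * g⁻¹) := by group
    rw [e]; exact mul_mem hx hy
  | inv x _ hx =>
    have e : g * x⁻¹ * g⁻¹ = (g * x * g⁻¹)⁻¹ := by group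
    rw [e]; exact inv_mem hx

/-- `X S` for `S ≤ N(X)` -/
theorem mem_sup_of {X S : Subgroup G} (h : ∀ s ∈ S, ∀ x ∈ X, s * x * s⁻¹ ∈ X) {g : G} (hg : g ∈ X ⊔ S) :
    ∃ x ∈ X, ∃ s ∈ S, g = x * s := by
  let K : Subgroup G :=
    { carrier := {g | ∃ x ∈ X, ∃ s ∈ S, g = x * s}
      one_mem' := ⟨1, one_mem _, 1, one_mem _, by group⟩
      mul_mem' := by
        rintro _ _ ⟨x, hx, s, hs, rfl⟩ ⟨y, hy, t, ht, rfl⟩
        exact ⟨x * (s * y * s⁻¹), mul_mem hx (h s hs y hy), s * t, mul_mem hs ht, by group⟩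
      inv_mem' := by
        rintro _ ⟨x, hx, s, hs, rfl⟩
        refine ⟨s⁻¹ * x⁻¹ * s⁻¹⁻¹, h _ (inv_mem hs) _ (inv_mem hx), s⁻¹, inv_mem hs, by group⟩ }
  have h1 : X ⊔ S ≤ K := sup_le (fun x hx => ⟨x, hx, 1, one_mem _, by group⟩)
    (fun s hs => ⟨1, one_mem _, s, hs, by group⟩)
  exact h1 hg

/-- **the digon** -/
theorem gpp_of_norm {I : Type v} {P : I → Subgroup G} {i j : I} {S X Y : Subgroup G} (hB : ∀ k, S ≤ P k)
    (hi : P i = Y ⊔ S) (hj : P j = X ⊔ S) (hSX : ∀ s ∈ S, ∀ x ∈ X, s * x * s⁻¹ ∈ X)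
    (hSY : ∀ s ∈ S, ∀ y ∈ Y, s * y * s⁻¹ ∈ Y) (hXY : ∀ x ∈ X, ∀ y ∈ Y, x * y * x⁻¹ ∈ Y)
    (hinf : ∀ x, x ∈ P i → x ∈ P j → x ∈ S) : GPp S P i j 2 := by
  apply gpp_two hB hinf
  intro p hp q hq
  rw [hi] at hp
  rw [hj] at hq
  obtain ⟨y, hy, s, hs, rfl⟩ := mem_sup_of hSY hp
  obtain ⟨x, hx, t, ht, rfl⟩ := mem_sup_of hSX hq
  have hx' := hSX s hs x hx
  have hy' := hXY _ (inv_mem hx') y hy
  refine ⟨s * x * s⁻¹, ?_, (s * x * s⁻¹)⁻¹ * y * (s * x * s⁻¹)⁻¹⁻¹ * (s * t), ?_, by group⟩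
  · rw [hj]; exact (le_sup_left : X ≤ X ⊔ S) hx'
  · rw [hi]
    exact mul_mem ((le_sup_left : Y ≤ Y ⊔ S) hy') ((le_sup_right : S ≤ Y ⊔ S) (mul_mem hs ht))

/-- the digon, `X = XX A`, `Y = XX B` -/
theorem gpp_digon {I : Type v} {P : I → Subgroup G} {i j : I} {S : Subgroup G} {A B : Set G} (hB : ∀ k, S ≤ P k)
    (hi : P i = XX B ⊔ S) (hj : P j = XX A ⊔ S) (hSA : ∀ s ∈ S, ∀ a ∈ A, s * a * s⁻¹ ∈ A)
    (hSB : ∀ s ∈ S, ∀ b ∈ B, s * b * s⁻¹ ∈ B) (hXB : ∀ x ∈ XX A, ∀ b ∈ B, x * b = b * x)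
    (hinf : ∀ x, x ∈ P i → x ∈ P j → x ∈ S) : GPp S P i j 2 := by
  refine gpp_of_norm hB hi hj (fun s hs x hx => XX_conj (hSA s hs) hx) (fun s hs x hx => XX_conj (hSB s hs) hx) ?_ hinf
  intro x hx y hy
  refine XX_conj (fun b hb => ?_) hy
  rw [hXB x hx b hb, mul_inv_cancel_right]
  exact hb

/-- a subgroup of prime index: `X S = P` as soon as `X ≤ P`, `X` is not in `S` -/
theorem sup_eq_of_relIndex [Finite G] {S P X : Subgroup G} (h3 : S.relIndex P = 3) (hSP : S ≤ P) (hX : X ≤ P)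
    (hne : ¬ X ≤ S) : P = X ⊔ S := by
  apply le_antisymm _ (sup_le hX hSP)
  have h1 : S ≤ X ⊔ S := le_sup_right
  have h2 : X ⊔ S ≤ P := sup_le hX hSP
  have h4 := Subgroup.relIndex_mul_relIndex S (X ⊔ S) P h1 h2
  rw [h3] at h4
  have h5 : S.relIndex (X ⊔ S) ≠ 1 := by
    intro h
    rw [Subgroup.relIndex_eq_one] at h
    exact hne (le_sup_left.trans h)
  have h6 : S.relIndex (X ⊔ S) = 1 ∨ S.relIndex (X ⊔ S) = 3 :=
    (Nat.dvd_prime Nat.prime_three).1 ⟨_, h4.symm⟩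
  have h7 : (X ⊔ S).relIndex P = 1 := by
    rcases h6 with h | h
    · exact absurd h h5
    · rw [h] at h4; omega
  rwa [Subgroup.relIndex_eq_one] at h7

end Cfsg.Agent.Omega.HOneTwo.FDigon
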