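import Cfsg.Agent.Omega.HOneTwo.OpOut

/-!
# II.0h1, `q = 2`, F4-type: the intersections `N_p ∩ N_q`, `N_p ∩ N_q ∩ N_e` ((21) of #16429)

* `OpSys.mem_inf2`, `mem_inf3` : `Σ_q ∩ Σ_r = T_r Σ_q`, `Σ_q ∩ Σ_r ∩ Σ_e = T_e T_r Σ_q`; `card_inf2`, `card_inf3`;
* `OpD.card_two`, `card_three` : `|N_p ∩ N_q| = 2 |T_q Σ_p|`, `|N_p ∩ N_q ∩ N_e| = 2 |T_e T_q Σ_p|`;
* `TS.F4.card_two` (`= 8`), `TS.F4.card_three` (`= 4`), `TS.Inp.ti` : total isotropy.
-/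

set_option autoImplicit false
set_option linter.unusedSectionVars false
set_option linter.dupNamespace false

namespace Cfsg.Agent.Omega.HOneTwo.OpSys

namespace OpSys

variable {E S : Type*} [AddCommGroup E] [AddCommGroup S] {f : E → E → ZMod 2} {T : E → S →+ S}

theorem mem_inf2 (h : OpSys f T) {q r r' : E} (hr : f q r = 0) (hr' : f q r' = 0) (hrr : f r r' = 1) {x : S} :
    x ∈ (T q).range.map (T r) ↔ x ∈ (T q).range ∧ x ∈ (T r).range := by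
  constructor
  · rintro ⟨y, hy, rfl⟩
    exact ⟨h.mem_of_comm hr hy, ⟨y, rfl⟩⟩
  · rintro ⟨h1, h2⟩
    have h3 := h.split hr hr' hrr h1
    rw [h.zero_of_mem h2, map_zero, add_zero] at h3
    exact ⟨T r' x, h.mem_of_comm hr' h1, h3.symm⟩

theorem mem_inf3 (h : OpSys f T) {q r r' e e' : E} (hr : f q r = 0) (hr' : f q r' = 0) (hrr : f r r' = 1)
    (he : f q e = 0) (he' : f q e' = 0) (hee : f e e' = 1) (hre : f r e = 0) (hre' : f r e' = 0) {x : S} :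
    x ∈ ((T q).range.map (T r)).map (T e) ↔ x ∈ (T q).range ∧ x ∈ (T r).range ∧ x ∈ (T e).range := by
  constructor
  · rintro ⟨_, ⟨y, hy, rfl⟩, rfl⟩
    refine ⟨h.mem_of_comm he (h.mem_of_comm hr hy), ?_, ⟨_, rfl⟩⟩
    rw [← h.comm r e hre]
    exact ⟨_, rfl⟩
  · rintro ⟨h1, h2, h3⟩
    have h4 := h.split hr hr' hrr h1
    rw [h.zero_of_mem h2, map_zero, add_zero] at h4
    have h5 := h.split he he' hee h1
    rw [h.zero_of_mem h3, map_zero, add_zero] at h5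
    refine ⟨T e' x, ⟨T e' (T r' x), h.mem_of_comm he' (h.mem_of_comm hr' h1), ?_⟩, h5.symm⟩
    rw [h.comm r e' hre', ← h4]

theorem card_inf2 (h : OpSys f T) {q r r' : E} (hr : f q r = 0) (hr' : f q r' = 0) (hrr : f r r' = 1) :
    Nat.card (T q).range = Nat.card ((T q).range.map (T r)) ^ 2 :=
  h.card_sq hr hr' hrr (T q).range le_rfl (fun _ hx => h.mem_of_comm hr hx) (fun _ hx => h.mem_of_comm hr' hx)

theorem card_inf3 (h : OpSys f T) {q r e e' : E} (hr : f q r = 0)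
    (he : f q e = 0) (he' : f q e' = 0) (hee : f e e' = 1) (hre : f r e = 0) (hre' : f r e' = 0) :
    Nat.card ((T q).range.map (T r)) = Nat.card (((T q).range.map (T r)).map (T e)) ^ 2 := by
  refine h.card_sq he he' hee ((T q).range.map (T r)) ?_ ?_ ?_
  · rintro _ ⟨y, hy, rfl⟩
    exact h.mem_of_comm hr hy
  · rintro _ ⟨y, hy, rfl⟩
    exact ⟨T e y, h.mem_of_comm he hy, h.comm r e hre y⟩
  · rintro _ ⟨y, hy, rfl⟩
    exact ⟨T e' y, h.mem_of_comm he' hy, h.comm r e' hre' y⟩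

end OpSys

end Cfsg.Agent.Omega.HOneTwo.OpSys

namespace Cfsg.Agent.Omega.HOneTwo.OpInst

open Subgroup Cfsg.Agent.Omega.BTwo Cfsg.Agent.Omega.HTwo.Eight Cfsg.Agent.Omega.HOneTwo.OpSys

universe u

variable {G : Type u} [Group G]

namespace OpD

variable (D : OpD G)

/-- `N_p ∩ N_q ≤ C(U)` for `p ≠ q` -/
theorem N_inf_cen {p q n : G} (hp : p ∈ D.Δ) (hq : q ∈ D.Δ) (hne : p ≠ q) (hn : n ∈ Np D.z p)
    (hn' : n ∈ Np D.z q) : ∀ u ∈ D.U, n * u = u * n := by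
  rcases D.res.act_or hp hn with h | h
  · exact h
  rcases D.res.act_or hq hn' with h' | h'
  · exact h'
  exfalso
  obtain ⟨u, hu, h1⟩ := D.res.exists_f1 hp
  have e1 := h u hu
  have e2 := h' u hu
  rw [e1, h1, pw_one] at e2
  have e3 := mul_left_cancel e2
  rcases HTwo.Eight.z2 (D.f q u) with h2 | h2 <;> rw [h2] at e3
  · rw [pw_zero] at e3
    exact D.res.pz_ne_one hp e3
  · rw [pw_one] at e3
    exact hne (mul_right_cancel e3)

variable [Finite G]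

/-- `K → S` for `K ≤ Γ` -/
noncomputable def clH (K : Subgroup G) (hK : K ≤ D.Γ) : Additive K →+ D.S where
  toFun x := D.cl (Additive.toMul x).1
  map_zero' := D.cl_one
  map_add' x y := D.cl_mul (hK (Additive.toMul x).2) (hK (Additive.toMul y).2)

theorem card_clH (K : Subgroup G) (hK : K ≤ D.Γ) :
    Nat.card K = Nat.card (D.clH K hK).range * Nat.card (K ⊓ D.U : Subgroup G) := by
  have h1 : Nat.card K = Nat.card (Additive K) := rfl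
  rw [h1, AddSubgroup.card_eq_card_quotient_mul_card_addSubgroup (D.clH K hK).ker]
  congr 1
  · exact Nat.card_congr (QuotientAddGroup.quotientKerEquivRange (D.clH K hK)).toEquiv
  · refine Nat.card_congr ⟨fun x => ⟨(Additive.toMul x.1).1, (Additive.toMul x.1).2, ?_⟩,
      fun y => ⟨Additive.ofMul ⟨y.1, y.2.1⟩, ?_⟩, fun _ => rfl, fun _ => rfl⟩
    · have h2 : D.cl (Additive.toMul x.1).1 = 0 := x.2
      exact (D.cl_eq_zero (hK (Additive.toMul x.1).2)).1 h2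
    · show D.cl y.1 = 0
      exact (D.cl_eq_zero (hK y.2.1)).2 y.2.2

theorem mem_clH {K : Subgroup G} (hK : K ≤ D.Γ) {s : D.S} : s ∈ (D.clH K hK).range ↔ ∃ n ∈ K, D.cl n = s := by
  constructor
  · rintro ⟨x, rfl⟩
    exact ⟨_, (Additive.toMul x).2, rfl⟩
  · rintro ⟨n, hn, rfl⟩
    exact ⟨Additive.ofMul ⟨n, hn⟩, rfl⟩

theorem two_le {p q : G} (hp : p ∈ D.Δ) (hq : q ∈ D.Δ) (hne : p ≠ q) : Np D.z p ⊓ Np D.z q ≤ D.Γ :=
  fun _ hn => D.NU_Γ hp ⟨hn.1, D.N_inf_cen hp hq hne hn.1 hn.2⟩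

/-- `N_p ∩ N_q ∩ U = ⟨z⟩` -/
theorem N_inf_U {p q u : G} (hp : p ∈ D.Δ) (hq : q ∈ D.Δ) (hne : p ≠ q) (hn : u ∈ Np D.z p)
    (hn' : u ∈ Np D.z q) (hu : u ∈ D.U) : u = 1 ∨ u = D.z := by
  have hpq : p * D.z ≠ q := fun h => D.res.inj p hp (h ▸ hq)
  rcases D.UN p hp u hu hn with h | h | h | h
  · exact Or.inl h
  · exfalso
    rcases D.UN q hq u hu hn' with h' | h' | h' | h'
    · exact D.res.p_ne_one hp (h.symm.trans h')
    · exact hne (h.symm.trans h')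
    · exact D.res.p_ne_z hp (h.symm.trans h')
    · have h2 : p = q * D.z := h.symm.trans h'
      apply hpq
      rw [h2, mul_assoc, D.res.zz, mul_one]
  · exact Or.inr h
  · exfalso
    rcases D.UN q hq u hu hn' with h' | h' | h' | h'
    · exact D.res.pz_ne_one hp (h.symm.trans h')
    · exact hpq (h.symm.trans h')
    · have h2 : p * D.z = D.z := h.symm.trans h'
      exact D.res.p_ne_one hp (mul_eq_right.1 h2)
    · exact hne (mul_right_cancel (h.symm.trans h'))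

theorem card_z (K : Subgroup G) (hz : D.z ∈ K) (hK : ∀ u ∈ K, u ∈ D.U → u = 1 ∨ u = D.z) :
    Nat.card (K ⊓ D.U : Subgroup G) = 2 := by
  have e : ((K ⊓ D.U : Subgroup G) : Set G) = {1, D.z} := by
    ext u
    constructor
    · rintro ⟨h1, h2⟩
      rcases hK u h1 h2 with h | h
      · exact Or.inl h
      · exact Or.inr h
    · rintro (h | h)
      · rw [h]; exact one_mem _
      · rw [Set.mem_singleton_iff] at h; rw [h]; exact ⟨hz, D.res.z_U⟩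
  have h1 : Nat.card (K ⊓ D.U : Subgroup G) = ((K ⊓ D.U : Subgroup G) : Set G).ncard := rfl
  rw [h1, e, Set.ncard_pair (fun h => D.res.z1 h.symm)]

theorem tq_comm {p q : G} (hp : p ∈ D.Δ) (hq : q ∈ D.Δ) (h0 : D.f p q = 0) : D.t q ∈ Cp p :=
  mem_Cp.2 (D.res.t_0 q hq p (D.res.Δ_U p hp) (by
    rw [D.res.f_symm q (D.res.Δ_U q hq) p (D.res.Δ_U p hp)]; exact h0))

/-- `[n, t_q] ∈ N_p` for `n ∈ N_p`, `q ⟂ p` -/
theorem br_mem {p q n : G} (hp : p ∈ D.Δ) (hq : q ∈ D.Δ) (h0 : D.f p q = 0) (hn : n ∈ Np D.z p) :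
    n * D.t q * n⁻¹ * (D.t q)⁻¹ ∈ Np D.z p := by
  have e : n * D.t q * n⁻¹ * (D.t q)⁻¹ = n * (D.t q * n⁻¹ * (D.t q)⁻¹) := by group
  rw [e]
  exact mul_mem hn (N_normal (D.tq_comm hp hq h0) (inv_mem hn))

theorem T_eq {p : G} (hp : p ∈ D.Δ) (s : D.S) : D.T (ve (D.res.Δ_U p hp)) s = D.T₀ p s := by
  show D.TT p s = _
  rw [D.TT_Δ hp]

/-- `|N_p ∩ N_q| = 2 |T_q Σ_p|` -/
theorem card_two {p q : G} (hp : p ∈ D.Δ) (hq : q ∈ D.Δ) (hne : p ≠ q) (h0 : D.f p q = 0)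
    (hr : ∃ r ∈ D.U, D.f p r = 0 ∧ D.f q r = 1) :
    Nat.card (Np D.z p ⊓ Np D.z q : Subgroup G) =
      Nat.card ((D.T (ve (D.res.Δ_U p hp))).range.map (D.T (ve (D.res.Δ_U q hq)))) * 2 := by
  obtain ⟨r, hrU, h1, h2⟩ := hr
  have hle := D.two_le hp hq hne
  rw [D.card_clH _ hle, D.card_z (Np D.z p ⊓ Np D.z q) ⟨z_N _ _, z_N _ _⟩
    fun u hu hU => D.N_inf_U hp hq hne hu.1 hu.2 hU]
  suffices hr : (D.clH _ hle).range =
      (D.T (ve (D.res.Δ_U p hp))).range.map (D.T (ve (D.res.Δ_U q hq))) by rw [hr]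
  ext s
  rw [D.mem_clH hle]
  constructor
  · rintro ⟨n, hn, rfl⟩
    refine (D.ops.mem_inf2 (q := ve (D.res.Δ_U p hp)) (r := ve (D.res.Δ_U q hq)) (r' := ve hrU) h0 h1 h2).2 ⟨?_, ?_⟩
    · exact (D.mem_range hp _).2 ⟨n, ⟨hn.1, D.N_inf_cen hp hq hne hn.1 hn.2⟩, rfl⟩
    · exact (D.mem_range hq _).2 ⟨n, ⟨hn.2, D.N_inf_cen hp hq hne hn.1 hn.2⟩, rfl⟩
  · rintro ⟨_, hs, rfl⟩
    obtain ⟨n, hn, rfl⟩ := (D.mem_range hp _).1 hs
    have hnG := D.NU_Γ hp hn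
    refine ⟨_, ⟨D.br_mem hp hq h0 hn.1, (D.br_NU hq (D.Γ_O hnG)).1⟩, ?_⟩
    rw [D.T_eq hq, D.T₀_cl hq hnG]

/-- `|N_p ∩ N_q ∩ N_e| = 2 |T_e T_q Σ_p|` -/
theorem card_three {p q e : G} (hp : p ∈ D.Δ) (hq : q ∈ D.Δ) (he : e ∈ D.Δ) (hne : p ≠ q) (h0 : D.f p q = 0)
    (hpe : D.f p e = 0) (hqe : D.f q e = 0) (hr : ∃ r ∈ D.U, D.f p r = 0 ∧ D.f q r = 1)
    (hr' : ∃ r ∈ D.U, D.f p r = 0 ∧ D.f q r = 0 ∧ D.f e r = 1) :
    Nat.card (Np D.z p ⊓ Np D.z q ⊓ Np D.z e : Subgroup G) =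
      Nat.card (((D.T (ve (D.res.Δ_U p hp))).range.map (D.T (ve (D.res.Δ_U q hq)))).map
        (D.T (ve (D.res.Δ_U e he)))) * 2 := by
  obtain ⟨r, hrU, h1, h2⟩ := hr
  obtain ⟨r', hrU', h1', h2', h3'⟩ := hr'
  have hle : Np D.z p ⊓ Np D.z q ⊓ Np D.z e ≤ D.Γ := inf_le_left.trans (D.two_le hp hq hne)
  rw [D.card_clH _ hle, D.card_z (Np D.z p ⊓ Np D.z q ⊓ Np D.z e) ⟨⟨z_N _ _, z_N _ _⟩, z_N _ _⟩
    fun u hu hU => D.N_inf_U hp hq hne hu.1.1 hu.1.2 hU]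
  suffices hr : (D.clH _ hle).range =
      ((D.T (ve (D.res.Δ_U p hp))).range.map (D.T (ve (D.res.Δ_U q hq)))).map (D.T (ve (D.res.Δ_U e he))) by rw [hr]
  ext s
  rw [D.mem_clH hle]
  constructor
  · rintro ⟨n, hn, rfl⟩
    have hc := D.N_inf_cen hp hq hne hn.1.1 hn.1.2
    refine (D.ops.mem_inf3 (q := ve (D.res.Δ_U p hp)) (r := ve (D.res.Δ_U q hq)) (r' := ve hrU)
      (e := ve (D.res.Δ_U e he)) (e' := ve hrU')
      h0 h1 h2 hpe h1' h3' hqe h2').2 ⟨?_, ?_, ?_⟩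
    · exact (D.mem_range hp _).2 ⟨n, ⟨hn.1.1, hc⟩, rfl⟩
    · exact (D.mem_range hq _).2 ⟨n, ⟨hn.1.2, hc⟩, rfl⟩
    · exact (D.mem_range he _).2 ⟨n, ⟨hn.2, hc⟩, rfl⟩
  · rintro ⟨_, ⟨_, hs, rfl⟩, rfl⟩
    obtain ⟨n, hn, rfl⟩ := (D.mem_range hp _).1 hs
    have hnG := D.NU_Γ hp hn
    have hk := D.br_NU hq (D.Γ_O hnG)
    have hkG := D.NU_Γ hq hk
    have hkp := D.br_mem hp hq h0 hn.1
    obtain ⟨k, hk'⟩ : ∃ k, k = n * D.t q * n⁻¹ * (D.t q)⁻¹ := ⟨_, rfl⟩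
    rw [← hk'] at hk hkG hkp
    refine ⟨k * D.t e * k⁻¹ * (D.t e)⁻¹, ⟨⟨D.br_mem hp he hpe hkp, D.br_mem hq he hqe hk.1⟩,
      (D.br_NU he (D.Γ_O hkG)).1⟩, ?_⟩
    rw [D.T_eq hq, D.T₀_cl hq hnG, ← hk', D.T_eq he, D.T₀_cl he hkG]

end OpD

end Cfsg.Agent.Omega.HOneTwo.OpInst

namespace Cfsg.Agent.Omega.HOneTwo.Trans

open Subgroup Cfsg.Agent.Omega.BTwo Cfsg.Agent.Omega.HTwo.Eight Cfsg.Agent.Omega.HOneTwo.OpSys
  Cfsg.Agent.Omega.HOneTwo.OpInst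
open Cfsg.Agent.Omega.HOneTwo.OpInst.OpD (el ve el_mem)

universe u

variable {G : Type u} [Group G]

namespace TS

variable {D : TS G}

/-- `u ∉ ⟨p, z⟩`-independence: a functional on `U` -/
theorem exists_sep {p q : G} (hp : p ∈ D.Δ) (hq : q ∈ D.Δ) (hne : p ≠ q) :
    ∃ v ∈ D.U, D.f p v = 0 ∧ D.f q v = 1 := by
  have hpU := D.ΔU hp
  have hqU := D.ΔU hq
  by_contra hcon
  push Not at hcon
  have hc : ∀ v ∈ D.U, D.f p v = 0 → D.f q v = 0 := fun v hv hv0 =>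
    (zmod_cases _).resolve_right (hcon v hv hv0)
  obtain ⟨w, hw, hw1⟩ := D.Ms.φ_ne hp
  have hw1' : D.f p w = 1 := by rw [D.f_Δ hp]; exact hw1
  rcases zmod_cases (D.f q w) with h2 | h2
  · have h3 := D.f_rad hqU (fun v hv => by
      rcases zmod_cases (D.f p v) with h4 | h4
      · exact hc v hv h4
      · have h5 := hc (v * w) (Subgroup.mul_mem _ hv hw) (by
          rw [D.f_mul_right hpU hv hw, h4, hw1']; decide)
        rwa [D.f_mul_right hqU hv hw, h2, add_zero] at h5)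
    rcases h3 with h3 | h3
    · exact D.Ms.one_notin hq h3
    · exact D.Ms.z_notin hq h3
  · have h3 := D.f_rad (Subgroup.mul_mem _ hpU hqU) (fun v hv => by
      rw [D.f_mul_left hpU hqU hv]
      rcases zmod_cases (D.f p v) with h4 | h4
      · rw [h4, hc v hv h4, add_zero]
      · have h5 := hc (v * w) (Subgroup.mul_mem _ hv hw) (by
          rw [D.f_mul_right hpU hv hw, h4, hw1']; decide)
        rw [D.f_mul_right hqU hv hw, h2] at h5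
        rcases zmod_cases (D.f q v) with h6 | h6 <;> rw [h6] at h5 ⊢
        · exact absurd h5 (by decide)
        · rw [h4]; decide)
    rcases h3 with h3 | h3
    · apply hne
      rw [mul_eq_one_iff_eq_inv, D.Ms.U_inv hqU] at h3
      exact h3
    · have h4 : p = D.z * q := by
        have h5 := D.mul_self hqU
        calc p = p * (q * q) := by rw [h5, mul_one]
          _ = D.z * q := by rw [← mul_assoc, h3]
      rw [h4, D.U_comm D.z_mem hqU] at hp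
      exact D.zz_mem hq hp

/-- independence of three points -/
theorem exists_sep3 {p q e : G} (hp : p ∈ D.Δ) (hq : q ∈ D.Δ) (he : e ∈ D.Δ) (hne : p ≠ q) (hpe : e ≠ p)
    (hqe : e ≠ q) (h0 : D.f p q = 0) (hpq : e ≠ p * q) :
    ∃ v ∈ D.U, D.f p v = 0 ∧ D.f q v = 0 ∧ D.f e v = 1 := by
  have hpU := D.ΔU hp
  have hqU := D.ΔU hq
  have heU := D.ΔU he
  have hpqΔ : p * q ∈ D.Δ := D.mul_mem hp hq hne (by rw [← D.f_Δ hp]; exact h0)
  obtain ⟨a, ha, ha1, ha2⟩ := exists_sep hp he hpe.symm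
  obtain ⟨b, hb, hb1, hb2⟩ := exists_sep hq he hqe.symm
  obtain ⟨c, hc, hc1, hc2⟩ := exists_sep hpqΔ he (Ne.symm hpq)
  rw [D.f_mul_left hpU hqU hc] at hc1
  rcases zmod_cases (D.f q a) with h1 | h1
  · exact ⟨a, ha, ha1, h1, ha2⟩
  rcases zmod_cases (D.f p b) with h2 | h2
  · exact ⟨b, hb, h2, hb1, hb2⟩
  rcases zmod_cases (D.f p c) with h3 | h3
  · refine ⟨c, hc, h3, ?_, hc2⟩
    rwa [h3, zero_add] at hc1
  · have h4 : D.f q c = 1 := by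
      rcases zmod_cases (D.f q c) with h | h
      · rw [h3, h] at hc1; exact absurd hc1 (by decide)
      · exact h
    refine ⟨a * b * c, Subgroup.mul_mem _ (Subgroup.mul_mem _ ha hb) hc, ?_, ?_, ?_⟩
    · rw [D.f_mul_right hpU (Subgroup.mul_mem _ ha hb) hc, D.f_mul_right hpU ha hb, ha1, h2, h3]; decide
    · rw [D.f_mul_right hqU (Subgroup.mul_mem _ ha hb) hc, D.f_mul_right hqU ha hb, h1, hb1, h4]; decide
    · rw [D.f_mul_right heU (Subgroup.mul_mem _ ha hb) hc, D.f_mul_right heU ha hb, ha2, hb2, hc2]; decide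

namespace Inp

variable [Finite G] (I : Inp D)

include I in
/-- all `Σ_p` have the same order -/
theorem card_rg {p : G} (hp : p ∈ D.Δ) : Nat.card (I.op.T (ve (I.op.res.Δ_U p hp))).range =
    Nat.card (I.op.T I.q).range := by
  obtain ⟨q, hq, h1⟩ := I.op.res.exists_q1 hp
  obtain ⟨q', hq', h1'⟩ := I.op.res.exists_q1 (p := D.r 0) I.op.r_Δ
  have e1 := I.op.ops.card_S I.op.gen (p := ve (I.op.res.Δ_U q hq)) (q := ve (I.op.res.Δ_U p hp)) (by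
    show D.f q p = 1
    rw [D.f_symm (D.ΔU hq) (D.ΔU hp)]; exact h1)
  have e2 := I.op.ops.card_S I.op.gen (p := ve (I.op.res.Δ_U q' hq')) (q := I.q) (by
    show D.f q' (D.r 0) = 1
    rw [D.f_symm (D.ΔU hq') (D.r_mem 0)]; exact h1')
  rw [e1] at e2
  exact Nat.pow_left_injective (n := 2) (by norm_num) e2

/-- total isotropy of `T_s Σ_r` -/
theorem ti (s : I.op.E) (hs : I.op.F I.q s = 0) {x y : D.L} (hx : I.iota x ∈ (I.op.T I.q).range.map (I.op.T s))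
    (hy : I.iota y ∈ (I.op.T I.q).range.map (I.op.T s)) : g x y = 0 := by
  have hF := I.B.full
  obtain ⟨a, ha, hax⟩ := hx
  obtain ⟨b, hb, hby⟩ := hy
  have hb' : b ∈ I.iota.range := by rw [I.iota_range]; exact hb
  obtain ⟨b', rfl⟩ := hb'
  have e1 := I.iso s hs x b' 0 y (by rw [map_zero, ← hax, I.op.ops.sq]) hby.symm
  rw [add_zero, g_symm hF, g_add hF, g_symm hF b', g_symm hF y] at e1
  exact left_eq_add.1 e1.symm

end Inp

/-- `|N_p ∩ N_q| = 8` -/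
theorem F4_two [Finite G] (hQ : ∀ p, D.Q p = Qp p) (F : OM D (O2 D.M)) (B : Bz D) (hk : ¬ KOne D) {p q : G}
    (hp : p ∈ D.Δ) (hq : q ∈ D.Δ) (hne : p ≠ q) (h0 : D.f p q = 0) :
    Nat.card (gen p D.z ⊓ gen q D.z : Subgroup G) = 8 := by
  have I := Inp.of hQ F B hk
  have h1 := I.op.card_two hp hq hne h0 (exists_sep hp hq hne)
  obtain ⟨r, hrU, h2, h3⟩ := exists_sep hp hq hne
  have h4 := I.op.ops.card_inf2 (q := ve (I.op.res.Δ_U p hp)) (r := ve (I.op.res.Δ_U q hq)) (r' := ve hrU) h0 h2 h3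
  have h5 : Nat.card (I.op.T (ve (I.op.res.Δ_U p hp))).range = 4 ^ 2 := by
    rw [I.card_rg hp]
    rcases I.two_three (hk' hk) with ⟨h6, h7⟩ | ⟨-, h7, -⟩
    · exfalso
      obtain ⟨a, ha, b, hb, hne'⟩ := hnab F B hk
      rw [← D.Gam_eq] at ha hb
      exact hne' (I.op.dead h6 h7 a ha b hb)
    · exact h7
  rw [h5] at h4
  have h6 := Nat.pow_left_injective (n := 2) (by norm_num) h4.symm
  have h7 : Nat.card (Np D.z p ⊓ Np D.z q : Subgroup G) = 8 := by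
    have h8 : Nat.card (Np D.z p ⊓ Np D.z q : Subgroup G) = _ := h1
    rw [h8, show Nat.card ((I.op.T (ve (I.op.res.Δ_U p hp))).range.map (I.op.T (ve (I.op.res.Δ_U q hq)))) = 4 from h6]
  rwa [Np_eq, Np_eq] at h7

/-- `|N_p ∩ N_q ∩ N_e| = 4` -/
theorem F4_three [Finite G] (hQ : ∀ p, D.Q p = Qp p) (F : OM D (O2 D.M)) (B : Bz D) (hk : ¬ KOne D) {p q e : G}
    (hp : p ∈ D.Δ) (hq : q ∈ D.Δ) (he : e ∈ D.Δ) (hne : p ≠ q) (hpe : e ≠ p) (hqe : e ≠ q) (hpq : e ≠ p * q)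
    (h0 : D.f p q = 0) (h1 : D.f p e = 0) (h2 : D.f q e = 0) :
    Nat.card (gen p D.z ⊓ gen q D.z ⊓ gen e D.z : Subgroup G) = 4 := by
  have I := Inp.of hQ F B hk
  have k1 := I.op.card_three hp hq he hne h0 h1 h2 (exists_sep hp hq hne)
    (exists_sep3 hp hq he hne hpe hqe h0 hpq)
  have k2 := I.op.card_two hp hq hne h0 (exists_sep hp hq hne)
  obtain ⟨r, hrU, k3, k4, k5⟩ := exists_sep3 hp hq he hne hpe hqe h0 hpq
  have k6 := I.op.ops.card_inf3 (q := ve (I.op.res.Δ_U p hp)) (r := ve (I.op.res.Δ_U q hq))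
    (e := ve (I.op.res.Δ_U e he)) (e' := ve hrU) h0 h1 k3 k5 h2 k4
  have k7 : Nat.card (Np D.z p ⊓ Np D.z q : Subgroup G) = 8 := by
    have := F4_two hQ F B hk hp hq hne h0
    rwa [← Np_eq, ← Np_eq] at this
  have k8 : Nat.card (Np D.z p ⊓ Np D.z q : Subgroup G) = _ := k2
  rw [k7] at k8
  have k9 : Nat.card ((I.op.T (ve (I.op.res.Δ_U p hp))).range.map (I.op.T (ve (I.op.res.Δ_U q hq)))) = 2 ^ 2 := by
    omega
  rw [k9] at k6
  have k10 := Nat.pow_left_injective (n := 2) (by norm_num) k6.symm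
  have k11 : Nat.card (Np D.z p ⊓ Np D.z q ⊓ Np D.z e : Subgroup G) = _ := k1
  have k12 : Nat.card (((I.op.T (ve (I.op.res.Δ_U p hp))).range.map (I.op.T (ve (I.op.res.Δ_U q hq)))).map
      (I.op.T (ve (I.op.res.Δ_U e he)))) = 2 := k10
  rw [k12, Np_eq, Np_eq, Np_eq] at k11
  exact k11

/-- `N_p ∩ N_q ≤ C(U)` -/
theorem N_inf_NO [Finite G] (I : Inp D) {p q n : G} (hp : p ∈ D.Δ) (hq : q ∈ D.Δ) (hne : p ≠ q)
    (hn : n ∈ gen p D.z) (hn' : n ∈ gen q D.z) : n ∈ D.NO p := by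
  rw [D.mem_NO]
  refine ⟨hn, I.op.N_inf_cen hp hq hne ?_ ?_⟩
  · show n ∈ Np D.z p
    rwa [Np_eq]
  · show n ∈ Np D.z q
    rwa [Np_eq]

/-- `N_r ∩ N_p` is totally isotropic for the form of `N_r` -/
theorem F4_ti [Finite G] (hQ : ∀ p, D.Q p = Qp p) (F : OM D (O2 D.M)) (B : Bz D) (hk : ¬ KOne D) {p : G}
    (hp : p ∈ D.Δ) (hne : D.r 0 ≠ p) (h0 : D.f (D.r 0) p = 0) {x y : G} (hx : x ∈ gen (D.r 0) D.z)
    (hx' : x ∈ gen p D.z) (hy : y ∈ gen (D.r 0) D.z) (hy' : y ∈ gen p D.z) : D.Hs.f x y = 0 := by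
  have I := Inp.of hQ F B hk
  obtain ⟨r, hrU, h2, h3⟩ := exists_sep D.r0_Δ hp hne
  have key : ∀ x, x ∈ gen (D.r 0) D.z → x ∈ gen p D.z → ∃ h : x ∈ D.NO (D.r 0),
      I.iota (lv h) ∈ (I.op.T I.q).range.map (I.op.T (ve (I.op.res.Δ_U p hp))) := by
    intro x hx hx'
    have h1 := N_inf_NO I D.r0_Δ hp hne hx hx'
    have h4 := N_inf_NO I hp D.r0_Δ hne.symm hx' hx
    refine ⟨h1, (I.op.ops.mem_inf2 (q := I.q) (r := ve (I.op.res.Δ_U p hp)) (r' := ve hrU) h0 h2 h3).2 ⟨?_, ?_⟩⟩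
    · exact (I.op.mem_range I.op.r_Δ _).2 ⟨x, I.NU_iff.2 h1, rfl⟩
    · exact (I.op.mem_range hp _).2 ⟨x, I.NU_iff.2 h4, rfl⟩
  obtain ⟨k1, k2⟩ := key x hx hx'
  obtain ⟨k3, k4⟩ := key y hy hy'
  exact I.ti (ve (I.op.res.Δ_U p hp)) h0 k2 k4

end TS

end Cfsg.Agent.Omega.HOneTwo.Trans
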