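import Cfsg.Agent.Omega.HOneTwo.FStar

/-!
# II.0h1, `q = 2`, F4-type, (21) of #16429: the groups `N_p ∩ N_q`, `p, q ∈ Δ` orthogonal

* `TS.N_inf_mul` : `N_p ∩ N_q ≤ N_{pq}`;
* `TS.exists_a` : a third `a ∈ Δ` orthogonal to `p, q`, `a ∉ {p, q, pq}`;
* `TS.inf_O`, `TS.inf_U` : `N_p ∩ N_q ≤ O₂(M)`, `N_p ∩ N_q ∩ U = {1, z}`;
* `TS.F4_ZZ` : `N_r ∩ N_p ≤ {1} ∪ z^{C(r)}`.
-/

set_option autoImplicit false
set_option linter.unusedSectionVars false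

namespace Cfsg.Agent.Omega.HOneTwo.Trans

open Subgroup Cfsg.Agent.Omega.BTwo Cfsg.Agent.Omega.HTwo.Eight Cfsg.Agent.Omega.HOneTwo.OpSys
  Cfsg.Agent.Omega.HOneTwo.OpInst
open Cfsg.Agent.Omega.HOneTwo.OpInst.OpD (el ve el_mem)

universe u

variable {G : Type u} [Group G]

namespace TS

variable {D : TS G}

/-- `[N_p, Q_p] = 1` -/
theorem N_Q_comm {p n g : G} (hp : p ∈ D.Δ) (hn : n ∈ gen p D.z) (hg : g ∈ D.Q p) : g * n = n * g := by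
  obtain ⟨m, hm, rfl⟩ := hp
  have e : m⁻¹ * (m * D.r 0 * m⁻¹) * m⁻¹⁻¹ = D.r 0 := by group
  have h1 := gen_conj m⁻¹ hn
  rw [e, D.m_z' hm] at h1
  have h2 := D.Q_conj m⁻¹ _ _ hg
  rw [e] at h2
  have h3 := (mem_zt.1 (D.N_le_zt 0 h1)).2 _ h2
  calc g * n = m * ((m⁻¹ * g * m⁻¹⁻¹) * (m⁻¹ * n * m⁻¹⁻¹)) * m⁻¹ := by group
    _ = n * g := by rw [← h3]; group

theorem z_gen (p : G) : D.z ∈ gen p D.z := self_mem_gen p D.z

/-- `N_p ∩ N_q ≤ N_{qp}` -/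
theorem N_inf_mul {p q n : G} (hp : p ∈ D.Δ) (hq : q ∈ D.Δ) (hne : p ≠ q) (h0 : D.f p q = 0)
    (hn : n ∈ gen p D.z) (hn' : n ∈ gen q D.z) : n ∈ gen (q * p) D.z := by
  rw [D.f_Δ hp] at h0
  obtain ⟨g, hg, h1⟩ := D.Q_mv hp hq hne h0
  have h2 := gen_conj g hn'
  rw [conj_of_comm (N_Q_comm hp hn hg), conj_of_comm (N_Q_comm hp (z_gen p) hg), h1] at h2
  exact h2

theorem inf_O [Finite G] (hQ : ∀ p, D.Q p = Qp p) (F : OM D (O2 D.M)) (B : Bz D) (hk : ¬ KOne D) {p q n : G}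
    (hp : p ∈ D.Δ) (hq : q ∈ D.Δ) (hne : p ≠ q) (hn : n ∈ gen p D.z) (hn' : n ∈ gen q D.z) : n ∈ O2 D.M := by
  have I := Inp.of hQ F B hk
  exact F.NO_O hp (N_inf_NO I hp hq hne hn hn')

theorem inf_U [Finite G] (hQ : ∀ p, D.Q p = Qp p) (F : OM D (O2 D.M)) (B : Bz D) (hk : ¬ KOne D) {p q n : G}
    (hp : p ∈ D.Δ) (hq : q ∈ D.Δ) (hne : p ≠ q) (hn : n ∈ gen p D.z) (hn' : n ∈ gen q D.z) (hU : n ∈ D.U) :
    n = 1 ∨ n = D.z := by
  have I := Inp.of hQ F B hk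
  rw [← Np_eq] at hn hn'
  exact I.op.N_inf_U hp hq hne hn hn' hU

/-- a third point of `Δ` orthogonal to `p` and `q` -/
theorem exists_a [Finite G] (hU : 32 < Nat.card D.U) {p q : G} (hp : p ∈ D.Δ) (hq : q ∈ D.Δ) (hne : p ≠ q) :
    ∃ a ∈ D.Δ, D.f p a = 0 ∧ D.f q a = 0 ∧ a ≠ p ∧ a ≠ q ∧ a ≠ p * q := by
  have hpU := D.ΔU hp
  have hqU := D.ΔU hq
  have hzU := D.z_mem
  obtain ⟨v, hv, v0, v1⟩ := exists_sep hp hq hne
  obtain ⟨w, hw, w0, w1⟩ := exists_sep hq hp hne.symm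
  by_contra hcon
  push Not at hcon
  let Φ : ZMod 2 × ZMod 2 × ZMod 2 × ZMod 2 × ZMod 2 → G := fun c =>
    pw p c.1 * pw q c.2.1 * pw D.z c.2.2.1 * pw v c.2.2.2.1 * pw w c.2.2.2.2
  have hK : ∀ u ∈ D.U, D.f p u = 0 → D.f q u = 0 → ∃ a b c : ZMod 2, u = pw p a * pw q b * pw D.z c := by
    have key : ∀ u ∈ D.Δ, D.f p u = 0 → D.f q u = 0 → ∃ a b : ZMod 2, u = pw p a * pw q b := by
      intro u hu h1 h2
      by_cases h3 : u = p
      · exact ⟨1, 0, by rw [pw_one, pw_zero, mul_one, h3]⟩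
      by_cases h4 : u = q
      · exact ⟨0, 1, by rw [pw_one, pw_zero, one_mul, h4]⟩
      · exact ⟨1, 1, by rw [pw_one, pw_one]; exact hcon u hu h1 h2 h3 h4⟩
    intro u hu h1 h2
    rcases D.mem_U_iff.1 hu with h | h | h | h
    · exact ⟨0, 0, 0, by rw [h]; simp⟩
    · exact ⟨0, 0, 1, by rw [h]; simp⟩
    · obtain ⟨a, b, h3⟩ := key u h h1 h2
      exact ⟨a, b, 0, by rw [pw_zero, mul_one]; exact h3⟩
    · obtain ⟨a, b, h3⟩ := key (u * D.z) h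
        (by rw [D.f_mul_right hpU hu hzU, h1, D.f_zr hpU, add_zero])
        (by rw [D.f_mul_right hqU hu hzU, h2, D.f_zr hqU, add_zero])
      refine ⟨a, b, 1, ?_⟩
      rw [pw_one, ← h3, mul_assoc, D.z_sq, mul_one]
  have hcov : (D.U : Set G) ⊆ Set.range Φ := by
    intro u hu
    have hu' : u ∈ D.U := hu
    -- `u v^{f q u} w^{f p u} ∈ K`
    have hvc : pw v (D.f q u) ∈ D.U := D.Ms.pw_mem hv _
    have hwc : pw w (D.f p u) ∈ D.U := D.Ms.pw_mem hw _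
    have fpw : ∀ x ∈ D.U, ∀ y ∈ D.U, ∀ c : ZMod 2, D.f x (pw y c) = c * D.f x y := by
      intro x hx y hy c
      rcases zmod_cases c with rfl | rfl
      · rw [pw_zero, D.f_oner hx, zero_mul]
      · rw [pw_one, one_mul]
    obtain ⟨a, b, c, h1⟩ := hK (u * (pw v (D.f q u) * pw w (D.f p u)))
      (D.U.mul_mem hu' (D.U.mul_mem hvc hwc))
      (by
        rw [D.f_mul_right hpU hu' (D.U.mul_mem hvc hwc), D.f_mul_right hpU hvc hwc, fpw p hpU v hv, fpw p hpU w hw,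
          v0, w1, mul_zero, zero_add, mul_one]
        generalize D.f p u = x
        revert x; decide)
      (by
        rw [D.f_mul_right hqU hu' (D.U.mul_mem hvc hwc), D.f_mul_right hqU hvc hwc, fpw q hqU v hv, fpw q hqU w hw,
          v1, w0, mul_zero, add_zero, mul_one]
        generalize D.f q u = x
        revert x; decide)
    refine ⟨(a, b, c, D.f q u, D.f p u), ?_⟩
    show pw p a * pw q b * pw D.z c * pw v (D.f q u) * pw w (D.f p u) = u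
    rw [← h1]
    have h2 := D.U_sq _ (D.U.mul_mem hvc hwc)
    calc u * (pw v (D.f q u) * pw w (D.f p u)) * pw v (D.f q u) * pw w (D.f p u)
        = u * (pw v (D.f q u) * pw w (D.f p u) * (pw v (D.f q u) * pw w (D.f p u))) := by group
      _ = u := by rw [h2, mul_one]
  have h1 : Nat.card D.U ≤ (Set.range Φ).ncard := by
    rw [show Nat.card D.U = (D.U : Set G).ncard from rfl]
    exact Set.ncard_le_ncard hcov (Set.finite_range _)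
  have h2 : (Set.range Φ).ncard ≤ 32 := by
    have h3 : (Set.range Φ).ncard ≤ Nat.card (ZMod 2 × ZMod 2 × ZMod 2 × ZMod 2 × ZMod 2) := by
      rw [← Set.image_univ, ← Set.ncard_univ]
      exact Set.ncard_image_le Set.finite_univ
    refine h3.trans (le_of_eq ?_)
    simp
  omega

/-- **`N_r ∩ N_p ≤ {1} ∪ z^{C(r)}`** -/
theorem F4_ZZ [Finite G] (hQ : ∀ p, D.Q p = Qp p) (F : OM D (O2 D.M)) (B : Bz D) (hk : ¬ KOne D) {p : G}
    (hp : p ∈ D.Δ) (hne : D.r 0 ≠ p) (h0 : D.f (D.r 0) p = 0) {n : G} (hn : n ∈ gen (D.r 0) D.z)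
    (hn' : n ∈ gen p D.z) (hn1 : n ≠ 1) : n ∈ D.Hs.Δ := by
  have I := Inp.of hQ F B hk
  have hO := F.Hs_orth B hk
  have hr := D.r0_Δ
  have hrU : D.r 0 ∈ D.Hs.U := D.Hs.z_mem
  have hrr : D.r 0 * D.r 0 = 1 := D.r_sq 0
  -- `good`
  have hA : ∀ x y, x ∈ gen (D.r 0) D.z → x ∈ gen p D.z → y ∈ gen (D.r 0) D.z → y ∈ gen p D.z →
      (x = 1 ∨ x ∈ D.Hs.Δ) → (y = 1 ∨ y ∈ D.Hs.Δ) → (x * y = 1 ∨ x * y ∈ D.Hs.Δ) := by
    intro x y hx hx' hy hy' gx gy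
    rcases gx with rfl | gx
    · rw [one_mul]; exact gy
    rcases gy with rfl | gy
    · rw [mul_one]; exact Or.inr gx
    by_cases hxy : x = y
    · left; rw [hxy]; exact D.N_sq hy
    · right
      refine hO.mm x gx y gy hxy ?_
      have := F4_ti hQ F B hk hp hne h0 hx hx' hy hy'
      rwa [Side.f_Δ gx] at this
  -- the commutator with `t_a`
  have hB : ∀ a ∈ D.Δ, D.f (D.r 0) a = 0 → D.f p a = 0 → ∀ x, x ∈ gen (D.r 0) D.z → x ∈ gen p D.z →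
      (x * D.tz a * x⁻¹ * (D.tz a)⁻¹ ∈ gen (D.r 0) D.z ∧ x * D.tz a * x⁻¹ * (D.tz a)⁻¹ ∈ gen p D.z) ∧
      (x * D.tz a * x⁻¹ * (D.tz a)⁻¹ = 1 ∨ x * D.tz a * x⁻¹ * (D.tz a)⁻¹ ∈ D.Hs.Δ) := by
    intro a ha h1 h2 x hx hx'
    have k1 : x * D.tz a * x⁻¹ * (D.tz a)⁻¹ ∈ gen (D.r 0) D.z := by
      rw [← Np_eq] at hx ⊢
      exact I.op.br_mem hr ha h1 hx
    have k2 : x * D.tz a * x⁻¹ * (D.tz a)⁻¹ ∈ gen p D.z := by
      rw [← Np_eq] at hx' ⊢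
      exact I.op.br_mem hp ha h2 hx'
    refine ⟨⟨k1, k2⟩, ?_⟩
    have htA : D.tz a ∈ D.Hs.A := D.mem_HA.2 (mem_Cp.1 (I.op.tq_comm hr ha h1))
    have hxi : x⁻¹ = x := D.Hs.U_inv hx
    have e : x * D.tz a * x⁻¹ * (D.tz a)⁻¹ = x * (D.tz a * x * (D.tz a)⁻¹) := by rw [hxi]; group
    obtain ⟨y, hy⟩ : ∃ y, y = D.tz a * x * (D.tz a)⁻¹ := ⟨_, rfl⟩
    have hyN : y ∈ gen (D.r 0) D.z := by rw [hy]; exact D.Hs.U_conj _ htA x hx
    have hyx : x * y ∈ gen p D.z := by rw [hy, ← e]; exact k2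
    have hyp : y ∈ gen p D.z := by
      have := Subgroup.mul_mem _ (Subgroup.inv_mem _ hx') hyx
      rwa [inv_mul_cancel_left] at this
    rw [e, ← hy]
    rcases hO.full x hx with h3 | h3 | h3 | h3
    · left
      rw [h3, one_mul, hy, h3]; group
    · left
      have h4 : D.Hs.z = D.r 0 := rfl
      rw [h4] at h3
      rw [hy, h3, conj_of_comm (D.mem_HA.1 htA)]
      exact hrr
    · have h4 : y ∈ D.Hs.Δ := by rw [hy]; exact D.Hs.Δ_conj _ htA x h3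
      exact hA x y hx hx' hyN hyp (Or.inr h3) (Or.inr h4)
    · have h4 : D.Hs.z = D.r 0 := rfl
      rw [h4] at h3
      have h5 : y * D.r 0 ∈ D.Hs.Δ := by
        have := D.Hs.Δ_conj _ htA _ h3
        have e2 : D.tz a * (x * D.r 0) * (D.tz a)⁻¹ = y * D.r 0 := by
          calc D.tz a * (x * D.r 0) * (D.tz a)⁻¹ = (D.tz a * x * (D.tz a)⁻¹) * (D.tz a * D.r 0 * (D.tz a)⁻¹) := by
                group
            _ = y * D.r 0 := by rw [← hy, conj_of_comm (D.mem_HA.1 htA)]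
        rwa [e2] at this
      have hry : D.r 0 * y = y * D.r 0 := D.Hs.U_comm hrU hyN
      have e3 : x * D.r 0 * (y * D.r 0) = x * y := by
        calc x * D.r 0 * (y * D.r 0) = x * (D.r 0 * y) * D.r 0 := by group
          _ = x * y * (D.r 0 * D.r 0) := by rw [hry]; group
          _ = x * y := by rw [hrr, mul_one]
      by_cases hxy : x * D.r 0 = y * D.r 0
      · left
        rw [← e3, hxy]
        exact D.Hs.U_sq _ (D.Hs.Δ_le h5)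
      · right
        rw [← e3]
        refine hO.mm _ h3 _ h5 hxy ?_
        have h6 := F4_ti hQ F B hk hp hne h0 hx hx' hyN hyp
        have hF := B.full
        have h7 : D.Hs.f x y = D.Hs.φ (x * D.Hs.z) y := hF.f_Δz h3
        rw [h7] at h6
        have h8 := hF.φ_mul_z (p := x * D.Hs.z) h3 hyN
        exact h8.trans h6
  -- `a`, `a'`
  have hU := (f4 hQ F B hk).1
  obtain ⟨a, ha, a1, a2, a3, a4, a5⟩ := exists_a (by rw [hU]; norm_num) hr hp hne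
  obtain ⟨a', ha', b1, b2, b3⟩ : ∃ a' ∈ D.Δ, D.f (D.r 0) a' = 0 ∧ D.f p a' = 0 ∧ D.f a a' = 1 := by
    obtain ⟨v, hv, c1, c2, c3⟩ := exists_sep3 hr hp ha hne a3 a4 h0 a5
    have hrU' := D.ΔU hr
    have hpU := D.ΔU hp
    have haU := D.ΔU ha
    rcases D.mem_U_iff.1 hv with h | h | h | h
    · rw [h, D.f_oner haU] at c3
      exact absurd c3 (by decide)
    · rw [h, D.f_zr haU] at c3
      exact absurd c3 (by decide)
    · exact ⟨v, h, c1, c2, c3⟩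
    · refine ⟨v * D.z, h, ?_, ?_, ?_⟩
      · rw [D.f_mul_right hrU' hv D.z_mem, c1, D.f_zr hrU', add_zero]
      · rw [D.f_mul_right hpU hv D.z_mem, c2, D.f_zr hpU, add_zero]
      · rw [D.f_mul_right haU hv D.z_mem, c3, D.f_zr haU, add_zero]
  -- the decomposition
  obtain ⟨⟨k1, k2⟩, -⟩ := hB a' ha' b1 b2 n hn hn'
  obtain ⟨⟨k3, k4⟩, g3⟩ := hB a ha a1 a2 _ k1 k2
  obtain ⟨⟨l1, l2⟩, -⟩ := hB a ha a1 a2 n hn hn'
  obtain ⟨⟨l3, l4⟩, g4⟩ := hB a' ha' b1 b2 _ l1 l2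
  have hnO := N_inf_NO I hr hp hne hn hn'
  have hΓ : ∀ {x : G}, x ∈ gen (D.r 0) D.z → x ∈ gen p D.z → x ∈ I.op.Γ := fun {x} h1 h2 =>
    I.op.NU_Γ hr (I.NU_iff.2 (N_inf_NO I hr hp hne h1 h2))
  have hx : I.op.cl n ∈ (I.op.T I.q).range := (I.op.mem_range hr _).2 ⟨n, I.NU_iff.2 hnO, rfl⟩
  have h5 := I.op.ops.split (q := I.q) (r := ve (I.op.res.Δ_U a ha)) (r' := ve (I.op.res.Δ_U a' ha')) a1 b1 b3 hx
  rw [I.op.T_eq ha', I.op.T_eq ha, I.op.T_eq ha, I.op.T_eq ha'] at h5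
  have hnΓ := hΓ hn hn'
  have e1 : I.op.T₀ a' (I.op.cl n) = I.op.cl (n * D.tz a' * n⁻¹ * (D.tz a')⁻¹) := I.op.T₀_cl ha' hnΓ
  have e2 : I.op.T₀ a (I.op.cl n) = I.op.cl (n * D.tz a * n⁻¹ * (D.tz a)⁻¹) := I.op.T₀_cl ha hnΓ
  rw [e1, e2] at h5
  have e3 := I.op.T₀_cl ha (hΓ k1 k2)
  have e4 := I.op.T₀_cl ha' (hΓ l1 l2)
  rw [e3, e4] at h5
  have h6 : I.op.cl n = I.op.cl (_ * _) := h5.trans (I.op.cl_mul (hΓ k3 k4) (hΓ l3 l4)).symm
  have h7 := (I.op.cl_eq_iff hnΓ (Subgroup.mul_mem _ (hΓ k3 k4) (hΓ l3 l4))).1 h6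
  have g5 := hA _ _ k3 k4 l3 l4 g3 g4
  have m1 := Subgroup.mul_mem _ k3 l3
  have m2 := Subgroup.mul_mem _ k4 l4
  have h8 := inf_U hQ F B hk hr hp hne (Subgroup.mul_mem _ (Subgroup.inv_mem _ hn) m1)
    (Subgroup.mul_mem _ (Subgroup.inv_mem _ hn') m2) h7
  have h9 : n = 1 ∨ n ∈ D.Hs.Δ := by
    rcases h8 with h8 | h8
    · rw [inv_mul_eq_one] at h8
      rw [h8]; exact g5
    · have h10 := hA _ _ m1 m2 (z_gen (D.r 0)) (z_gen p) g5 (Or.inr D.zHΔ)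
      rw [inv_mul_eq_iff_eq_mul] at h8
      rw [h8, mul_assoc, D.z_sq, mul_one] at h10
      exact h10
  exact h9.resolve_left hn1

end TS

end Cfsg.Agent.Omega.HOneTwo.Trans
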