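import Cfsg.Agent.Omega.HOneTwo.EndM
import Cfsg.Agent.Omega.HOneTwo.FStar
import Cfsg.Agent.Omega.HTwo.SysFlag

/-!
# II.0h1, `q = 2`, F4-type: the flag of `M` ((21) of #16429)

* `Side.sdata` : a full side gives `SData`;
* `mem_ad`, `card_ad` : adjoining an involution in an elementary abelian group;
* `FF.exists_flag` : `⟨z⟩ < ⟨z, r₀⟩ < ⟨z, r₀, r₁⟩ < X 3 ≤ U`, `S` its full stabiliser in `M`.
-/

set_option autoImplicit false
set_option linter.unusedSectionVars false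

namespace Cfsg.Agent.Omega.HOneTwo.Trans

open Subgroup Cfsg.Agent.Omega.BTwo Cfsg.Agent.Omega.HTwo.Eight Cfsg.Agent.Omega.HTwo.SysSymp

universe u

variable {G : Type u} [Group G]

/-- a full side -/
theorem Side.sdata {D : Side G} (h : D.IsFull) : SData D.A D.U D.z D.f where
  zz := h.zz
  C_z := D.z_comm
  z_U := D.z_mem
  U_comm := fun _ hu _ hv => D.U_comm hu hv
  U_sq := D.U_sq
  U_C := D.U_conj
  f_add := fun _ hu _ hv _ hw => h.f_mul_left hu hv hw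
  f_symm := fun _ hu _ hv => h.f_symm hu hv
  f_self := fun _ hu => h.f_self hu
  f_C := fun _ hc _ hu _ hv => h.f_conj hc hu hv
  f_rad := fun u hu hv => h.rad hu fun p hp => hv p (D.Δ_le hp)
  f_z := fun _ _ => h.f_z
  tv := by
    have key : ∀ q ∈ D.Δ, ∀ u ∈ D.U, (D.f u q = 0 → D.t q * u * (D.t q)⁻¹ = u) ∧
        (D.f u q = 1 → D.t q * u * (D.t q)⁻¹ = u * (q * D.z)) := by
      intro q hq u hu
      have h1 := D.t_act hq hu
      have h2 : D.f u q = D.φ q u := by rw [h.f_symm hu (D.Δ_le hq), Side.f_Δ hq]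
      rw [h2]
      exact ⟨fun h3 => by rw [h1, h3, pw_zero, mul_one], fun h3 => by rw [h1, h3, pw_one]⟩
    intro p hp
    rcases h.cases hp with h1 | ⟨q, hq, h1⟩
    · refine ⟨1, D.A.one_mem, fun u hu => ⟨fun _ => Or.inl (by group), fun h2 => ?_⟩⟩
      exfalso
      rcases h1 with rfl | rfl
      · rw [h.f_right_one hu] at h2; exact zero_ne_one h2
      · rw [h.f_right_z hu] at h2; exact zero_ne_one h2
    · refine ⟨D.t q, D.t_A hq, fun u hu => ?_⟩
      have hqz : D.U_comm D.z_mem (D.Δ_le hq) = D.U_comm D.z_mem (D.Δ_le hq) := rfl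
      rcases h1 with rfl | rfl
      · refine ⟨fun h2 => Or.inl ((key _ hq u hu).1 h2), fun h2 => Or.inr ?_⟩
        rw [(key _ hq u hu).2 h2, mul_assoc]
      · have e : D.f u (q * D.z) = D.f u q := by
          rw [h.f_mul_right (D.Δ_le hq) D.z_mem hu, h.f_right_z hu, add_zero]
        rw [e]
        refine ⟨fun h2 => Or.inl ((key _ hq u hu).1 h2), fun h2 => Or.inl ?_⟩
        rw [(key _ hq u hu).2 h2]

/-! ### adjoining an involution -/

section ad

variable {U A : Subgroup G} (hc : ∀ u ∈ U, ∀ v ∈ U, u * v = v * u) (hs : ∀ u ∈ U, u * u = 1) (hA : A ≤ U) {u : G}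
  (hu : u ∈ U)

include hc hs hA hu

theorem mem_ad {x : G} : x ∈ A ⊔ zpowers u ↔ x ∈ A ∨ x * u ∈ A := by
  constructor
  · intro hx
    let K : Subgroup G :=
      { carrier := {x | x ∈ U ∧ (x ∈ A ∨ x * u ∈ A)}
        one_mem' := ⟨U.one_mem, Or.inl A.one_mem⟩
        mul_mem' := by
          rintro a b ⟨ha, ha'⟩ ⟨hb, hb'⟩
          refine ⟨U.mul_mem ha hb, ?_⟩
          rcases ha' with ha' | ha' <;> rcases hb' with hb' | hb'
          · exact Or.inl (A.mul_mem ha' hb')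
          · right
            rw [mul_assoc]
            exact A.mul_mem ha' hb'
          · right
            have e : a * b * u = (a * u) * b := by
              rw [mul_assoc, hc b hb u hu, ← mul_assoc]
            rw [e]
            exact A.mul_mem ha' hb'
          · left
            have e : a * b = (a * u) * (b * u) := by
              calc a * b = a * (u * u) * b := by rw [hs u hu, mul_one]
                _ = (a * u) * (u * b) := by group
                _ = _ := by rw [hc u hu b hb]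
            rw [e]
            exact A.mul_mem ha' hb'
        inv_mem' := by
          rintro a ⟨ha, ha'⟩
          have e : a⁻¹ = a := inv_eq_of_mul_eq_one_left (hs a ha)
          rw [e]
          exact ⟨ha, ha'⟩ }
    have h1 : A ⊔ zpowers u ≤ K := sup_le (fun a ha => ⟨hA ha, Or.inl ha⟩)
      (zpowers_le.2 ⟨hu, Or.inr (by rw [hs u hu]; exact A.one_mem)⟩)
    exact (h1 hx).2
  · rintro (h | h)
    · exact mem_sup_left h
    · have e : x = x * u * u := by rw [mul_assoc, hs u hu, mul_one]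
      rw [e]
      exact Subgroup.mul_mem _ (mem_sup_left h) (mem_sup_right (mem_zpowers u))

theorem card_ad [Finite G] (hn : u ∉ A) : Nat.card (A ⊔ zpowers u : Subgroup G) = 2 * Nat.card A := by
  have h1 : A ≤ A ⊔ zpowers u := le_sup_left
  have h2 : (A.subgroupOf (A ⊔ zpowers u)).index = 2 := by
    rw [Subgroup.index_eq_two_iff]
    refine ⟨⟨u, mem_sup_right (mem_zpowers u)⟩, fun b => ?_⟩
    rw [mem_subgroupOf, mem_subgroupOf]
    rcases (mem_ad hc hs hA hu).1 b.2 with h | h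
    · right
      refine ⟨h, fun h3 => hn ?_⟩
      have h4 := A.mul_mem (A.inv_mem h) h3
      have e : (b : G)⁻¹ * ((b : G) * u) = u := by group
      change (b : G)⁻¹ * ((b : G) * u) ∈ A at h4
      rwa [e] at h4
    · left
      refine ⟨h, fun h3 => hn ?_⟩
      have h4 := A.mul_mem (A.inv_mem h3) h
      have e : (b : G)⁻¹ * ((b : G) * u) = u := by group
      rwa [e] at h4
  have h3 := Subgroup.card_mul_index (A.subgroupOf (A ⊔ zpowers u))
  rw [h2, Nat.card_congr (Subgroup.subgroupOfEquivOfLe h1).toEquiv] at h3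
  rw [← h3, mul_comm]

end ad

theorem conj_ad {A : Subgroup G} {u g : G} (hA : ∀ a ∈ A, g * a * g⁻¹ ∈ A ⊔ zpowers u)
    (hu : g * u * g⁻¹ ∈ A ⊔ zpowers u) : ∀ x ∈ A ⊔ zpowers u, g * x * g⁻¹ ∈ A ⊔ zpowers u := by
  have h : A ⊔ zpowers u ≤ (A ⊔ zpowers u).comap (MulAut.conj g).toMonoidHom := by
    refine sup_le (fun a ha => ?_) (zpowers_le.2 ?_)
    · exact hA a ha
    · exact hu
  exact fun x hx => h hx

theorem mem_zp {u x : G} (hu : u * u = 1) : x ∈ zpowers u ↔ x = 1 ∨ x = u := by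
  constructor
  · intro hx
    obtain ⟨k, rfl⟩ := mem_zpowers_iff.1 hx
    rcases Int.even_or_odd' k with ⟨c, hc | hc⟩
    · left
      rw [hc, zpow_mul, zpow_two, hu, one_zpow]
    · right
      rw [hc, zpow_add, zpow_mul, zpow_two, hu, one_zpow, one_mul, zpow_one]
  · rintro (rfl | rfl)
    · exact Subgroup.one_mem _
    · exact mem_zpowers _

theorem card_zp [Finite G] {u : G} (hu : u * u = 1) (h1 : u ≠ 1) : Nat.card (zpowers u) = 2 := by
  rw [Nat.card_zpowers, orderOf_eq_prime (by rw [pow_two]; exact hu) h1]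

namespace TS

/-- the partial flag -/
def Yf (D : TS G) : ℕ → Subgroup G
  | 0 => zpowers D.z
  | 1 => zpowers D.z ⊔ zpowers (D.r 0)
  | _ => zpowers D.z ⊔ zpowers (D.r 0) ⊔ zpowers (D.r 1)

variable {D : TS G}

theorem zz : D.z * D.z = 1 := D.z_sq

theorem zp_U : zpowers D.z ≤ D.U := zpowers_le.2 D.z_mem

theorem zr_U : zpowers D.z ⊔ zpowers (D.r 0) ≤ D.U := sup_le zp_U (zpowers_le.2 (D.r_mem 0))

theorem Y2_U : zpowers D.z ⊔ zpowers (D.r 0) ⊔ zpowers (D.r 1) ≤ D.U := sup_le zr_U (zpowers_le.2 (D.r_mem 1))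

theorem cU (u : G) (hu : u ∈ D.U) (v : G) (hv : v ∈ D.U) : u * v = v * u := D.U_comm hu hv

theorem mem_Y0 {x : G} : x ∈ zpowers D.z ↔ x = 1 ∨ x = D.z := mem_zp D.z_sq

theorem mem_Y1 {x : G} : x ∈ zpowers D.z ⊔ zpowers (D.r 0) ↔
    x = 1 ∨ x = D.z ∨ x = D.r 0 ∨ x = D.r 0 * D.z := by
  rw [mem_ad cU D.U_sq zp_U (D.r_mem 0), mem_Y0, mem_Y0]
  have e : ∀ y, x * D.r 0 = y ↔ x = y * D.r 0 := by
    intro y
    constructor
    · intro h
      rw [← h, mul_assoc, D.r_sq, mul_one]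
    · intro h
      rw [h, mul_assoc, D.r_sq, mul_one]
  rw [e, e, one_mul, D.z_r]
  tauto

theorem r2_eq : D.r 2 = D.r 0 * D.r 1 := by
  have h1 := D.r_prod
  have h2 := mul_eq_one_iff_eq_inv.1 h1
  have h3 : (D.r 2)⁻¹ = D.r 2 := inv_eq_of_mul_eq_one_left (D.r_sq 2)
  rw [← h3, ← h2]

theorem f_r {i j : Fin 3} : D.φ (D.r i) (D.r j) = 0 := D.φ_eq_zero_iff.2 (D.r_Q j i)

/-- `Δ ∩ ⟨z, r₀, r₁⟩ = {r₀, r₁, r₀ r₁}` -/
theorem mem_Y2_Δ {x : G} (hx : x ∈ zpowers D.z ⊔ zpowers (D.r 0) ⊔ zpowers (D.r 1)) (hxΔ : x ∈ D.Δ) :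
    x = D.r 0 ∨ x = D.r 1 ∨ x = D.r 0 * D.r 1 := by
  rw [mem_ad cU D.U_sq zr_U (D.r_mem 1), mem_Y1, mem_Y1] at hx
  have hz := D.z_Δ
  have h1 := D.one_Δ
  have e : ∀ y, x * D.r 1 = y → x = y * D.r 1 := by
    intro y h
    rw [← h, mul_assoc, D.r_sq, mul_one]
  have r2 : D.r 0 * D.r 1 ∈ D.Δ := by rw [← r2_eq]; exact D.r_Δ 2
  rcases hx with (h | h | h | h) | (h | h | h | h)
  · rw [h] at hxΔ; exact absurd hxΔ h1
  · rw [h] at hxΔ; exact absurd hxΔ hz
  · exact Or.inl h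
  · rw [h] at hxΔ; exact absurd hxΔ (D.zz_mem D.r0_Δ)
  · right; left
    rw [e _ h, one_mul]
  · exfalso
    rw [e _ h, cU _ D.z_mem _ (D.r_mem 1)] at hxΔ
    exact D.zz_mem (D.r_Δ 1) hxΔ
  · right; right
    exact e _ h
  · exfalso
    have e2 : D.r 0 * D.z * D.r 1 = D.r 0 * D.r 1 * D.z := by
      rw [mul_assoc, cU _ D.z_mem _ (D.r_mem 1), ← mul_assoc]
    rw [e _ h, e2] at hxΔ
    exact D.zz_mem r2 hxΔ

theorem r1_nmem : D.r 1 ∉ zpowers D.z ⊔ zpowers (D.r 0) := by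
  rw [mem_Y1]
  rintro (h | h | h | h)
  · exact D.one_Δ (h ▸ D.r_Δ 1)
  · exact D.z_Δ (h ▸ D.r_Δ 1)
  · exact D.r_r (i := 1) (j := 0) (by decide) h
  · exact D.zz_mem D.r0_Δ (h ▸ D.r_Δ 1)

theorem r0_nmem : D.r 0 ∉ zpowers D.z := by
  rw [mem_Y0]
  rintro (h | h)
  · exact D.one_Δ (h ▸ D.r0_Δ)
  · exact D.z_Δ (h ▸ D.r0_Δ)

namespace FF

variable [Finite G] {S : Sylow 2 G} (A : FF D S)
include A

theorem Msd : SData D.M D.U D.z D.Ms.f := Side.sdata D.Ms_orth.toIsFull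

theorem Hsd : SData (centralizer {D.r 0}) (gen (D.r 0) D.z) (D.r 0) D.Hs.f := Side.sdata A.B.full

theorem card_Y (d : ℕ) (hd : d ≤ 2) : Nat.card (D.Yf d) = 2 ^ (d + 1) := by
  have h0 : Nat.card (zpowers D.z) = 2 := card_zp D.z_sq D.z_ne
  have h1 := card_ad (A := zpowers D.z) cU D.U_sq zp_U (D.r_mem 0) r0_nmem
  have h2 := card_ad (A := zpowers D.z ⊔ zpowers (D.r 0)) cU D.U_sq zr_U (D.r_mem 1) r1_nmem
  rw [h0] at h1
  rw [h1] at h2
  interval_cases d
  · exact h0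
  · exact h1
  · exact h2

theorem S_Y (d : ℕ) (hd : d ≤ 2) : ∀ s ∈ (S : Subgroup G), ∀ y ∈ D.Yf d, s * y * s⁻¹ ∈ D.Yf d := by
  have h0 : ∀ s ∈ (S : Subgroup G), ∀ y ∈ zpowers D.z, s * y * s⁻¹ ∈ zpowers D.z := by
    intro s hs y hy
    rw [mem_Y0] at hy ⊢
    rcases hy with rfl | rfl
    · left; group
    · right; exact conj_of_comm (A.S_z s hs)
  have h1 : ∀ s ∈ (S : Subgroup G), ∀ y ∈ zpowers D.z ⊔ zpowers (D.r 0),
      s * y * s⁻¹ ∈ zpowers D.z ⊔ zpowers (D.r 0) := fun s hs =>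
    conj_ad (fun a ha => mem_sup_left (h0 s hs a ha)) (by
      rw [conj_of_comm (A.S_r s hs)]; exact mem_sup_right (mem_zpowers _))
  have h2 : ∀ s ∈ (S : Subgroup G), ∀ y ∈ zpowers D.z ⊔ zpowers (D.r 0) ⊔ zpowers (D.r 1),
      s * y * s⁻¹ ∈ zpowers D.z ⊔ zpowers (D.r 0) ⊔ zpowers (D.r 1) := fun s hs =>
    conj_ad (fun a ha => mem_sup_left (h1 s hs a ha)) (by
      rcases A.S_V s hs with h | h <;> rw [h]
      · exact mem_sup_right (mem_zpowers _)
      · rw [r2_eq]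
        exact Subgroup.mul_mem _ (mem_sup_left (mem_sup_right (mem_zpowers _))) (mem_sup_right (mem_zpowers _)))
  interval_cases d
  · exact h0
  · exact h1
  · exact h2

/-- `f = 0` on `⟨z, r₀, r₁⟩` -/
theorem iso_Y : ∀ x ∈ D.Yf 2, ∀ y ∈ D.Yf 2, D.Ms.f x y = 0 := by
  have hF := D.Ms_orth.toIsFull
  have hle : D.Yf 2 ≤ D.U := Y2_U
  intro x hx y hy
  have key : ∀ p ∈ D.Δ, p ∈ D.Yf 2 → ∀ q ∈ D.Δ, q ∈ D.Yf 2 → D.Ms.f p q = 0 := by
    have a1 : ∀ i j, D.Ms.φ (D.r i) (D.r j) = 0 := fun i j => f_r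
    have hr2 : D.r 0 * D.r 1 = D.r 2 := r2_eq.symm
    intro p hp hpY q hq hqY
    rw [Side.f_Δ hp]
    rcases mem_Y2_Δ hpY hp with rfl | rfl | rfl <;> rcases mem_Y2_Δ hqY hq with rfl | rfl | rfl <;>
      (try rw [hr2]) <;> exact a1 _ _
  rcases hF.cases (hle hx) with (rfl | rfl) | ⟨p, hp, hp'⟩
  · exact hF.f_one
  · exact hF.f_z
  · change x = p ∨ x = p * D.z at hp'
    have hpY : p ∈ D.Yf 2 := by
      rcases hp' with rfl | rfl
      · exact hx
      · have h3 := Subgroup.mul_mem _ hx (show D.z ∈ D.Yf 2 from mem_sup_left (mem_sup_left (mem_zpowers _)))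
        rwa [mul_assoc, D.z_sq, mul_one] at h3
    have e : D.Ms.f x y = D.Ms.f p y := by
      rcases hp' with rfl | rfl
      · rfl
      · exact (hF.f_pz hp).trans (Side.f_Δ hp).symm
    rw [e]
    rcases hF.cases (hle hy) with (rfl | rfl) | ⟨q, hq, hq'⟩
    · exact hF.f_right_one (D.ΔU hp)
    · exact hF.f_right_z (D.ΔU hp)
    · change y = q ∨ y = q * D.z at hq'
      have hqY : q ∈ D.Yf 2 := by
        rcases hq' with rfl | rfl
        · exact hy
        · have h3 := Subgroup.mul_mem _ hy (show D.z ∈ D.Yf 2 from mem_sup_left (mem_sup_left (mem_zpowers _)))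
          rwa [mul_assoc, D.z_sq, mul_one] at h3
      rcases hq' with rfl | rfl
      · exact key p hp hpY _ hq hqY
      · have e2 : D.Ms.f p (q * D.z) = D.Ms.f p q + D.Ms.f p D.z :=
          hF.f_mul_right (D.ΔU hq) D.z_mem (D.ΔU hp)
        have e3 : D.Ms.f p D.z = 0 := hF.f_right_z (D.ΔU hp)
        rw [e2, e3, add_zero]
        exact key p hp hpY q hq hqY

theorem M_ker (c : G) (hc : c ∈ D.M) (h : ∀ u ∈ D.U, c * u = u * c) : ∃ n : ℕ, c ^ 2 ^ n = 1 := by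
  obtain ⟨n, hn⟩ := O2_isPGroup D.M ⟨c, A.KM hc h⟩
  exact ⟨n, congrArg Subtype.val hn⟩

theorem H_ker (c : G) (hc : c ∈ centralizer {D.r 0}) (h : ∀ u ∈ gen (D.r 0) D.z, c * u = u * c) :
    ∃ n : ℕ, c ^ 2 ^ n = 1 := A.K1_pow (mem_centralizer_singleton_iff.1 hc) h

theorem le_norm {Y : Subgroup G} {T : Subgroup G} (h : ∀ s ∈ T, ∀ y ∈ Y, s * y * s⁻¹ ∈ Y) :
    T ≤ normalizer (Y : Set G) := by
  intro s hs
  rw [Subgroup.mem_normalizer_iff]
  intro y
  refine ⟨h s hs y, fun hy => ?_⟩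
  have h1 := h s⁻¹ (T.inv_mem hs) _ hy
  have e : s⁻¹ * (s * y * s⁻¹) * s⁻¹⁻¹ = y := by group
  rwa [e] at h1

/-- **the flag of `M`** -/
theorem exists_flag : ∃ X : ℕ → Subgroup G, Flg D.U D.z D.Ms.f 3 X ∧ (∀ d ≤ 2, X d = D.Yf d) ∧
    PPs D.M 3 X ∅ = (S : Subgroup G) := by
  obtain ⟨m, X, h1, h2, h3, h4⟩ := exists_flg A.Msd D.z_ne S A.S_M A.M_ker (k := 2) (Y := D.Yf)
    (fun x => mem_Y0) (by
      intro d hd
      interval_cases d
      · exact le_sup_left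
      · exact le_sup_left) Y2_U A.card_Y A.iso_Y (fun d hd => A.le_norm (A.S_Y d hd))
  have h5 := h2.card_U
  rw [A.card_U] at h5
  have h6 := Nat.pow_right_injective (le_refl 2) h5
  have h7 : m = 3 := by
    have : 7 = 2 * m + 1 := h6
    omega
  subst h7
  exact ⟨X, h2, h3, h4⟩

end FF

end TS

end Cfsg.Agent.Omega.HOneTwo.Trans
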