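import Cfsg.Agent.Omega.HOneTwo.FSysA
import Cfsg.Agent.Omega.HOneTwo.FStarTwo

/-!
# II.0h1, `q = 2`, F4-type: the flag of `C(r₀)` ((21) of #16429)

`Ns K = ⋂ {N_p : p ∈ Δ ∩ K}`; `Zf X = ⟨r₀⟩ < ⟨r₀, z⟩ < Ns (X 3) ⟨r₀⟩ < Ns (X 2) ⟨r₀⟩`.

* `FF.exists_hflag` : `Zf X` is a flag, `S` its full stabiliser in `C(r₀)`.
-/

set_option autoImplicit false
set_option linter.unusedSectionVars false

namespace Cfsg.Agent.Omega.HOneTwo.Trans

open Subgroup Cfsg.Agent.Omega.BTwo Cfsg.Agent.Omega.HTwo.Eight Cfsg.Agent.Omega.HTwo.SysSymp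

universe u

variable {G : Type u} [Group G]

namespace TS

/-- `⋂ {N_p : p ∈ Δ ∩ K}` -/
def Ns (D : TS G) (K : Subgroup G) : Subgroup G where
  carrier := {n | ∀ p ∈ D.Δ, p ∈ K → n ∈ gen p D.z}
  one_mem' := fun _ _ _ => Subgroup.one_mem _
  mul_mem' := fun ha hb p hp hK => Subgroup.mul_mem _ (ha p hp hK) (hb p hp hK)
  inv_mem' := fun ha p hp hK => Subgroup.inv_mem _ (ha p hp hK)

variable {D : TS G}

theorem mem_Ns {K : Subgroup G} {n : G} : n ∈ D.Ns K ↔ ∀ p ∈ D.Δ, p ∈ K → n ∈ gen p D.z := Iff.rfl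

theorem Ns_anti {K L : Subgroup G} (h : K ≤ L) : D.Ns L ≤ D.Ns K := fun _ hn p hp hK => hn p hp (h hK)

theorem z_Ns (K : Subgroup G) : D.z ∈ D.Ns K := fun p _ _ => z_gen p

theorem Ns_conj {K : Subgroup G} {m : G} (hm : m ∈ D.M) (hK : m ∈ normalizer (K : Set G)) :
    ∀ n ∈ D.Ns K, m * n * m⁻¹ ∈ D.Ns K := by
  intro n hn p hp hpK
  have h1 := Dl_inv' hm hp
  have h2 : m⁻¹ * p * m ∈ K := by
    rw [Subgroup.mem_normalizer_iff] at hK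
    rw [hK]
    have e : m * (m⁻¹ * p * m) * m⁻¹ = p := by group
    rwa [e]
  have h3 := gen_conj m (hn _ h1 h2)
  have e : m * (m⁻¹ * p * m) * m⁻¹ = p := by group
  rwa [e, D.m_z hm] at h3

/-- the flag of `C(r₀)` -/
def Zf (D : TS G) (X : ℕ → Subgroup G) : ℕ → Subgroup G
  | 0 => zpowers (D.r 0)
  | 1 => zpowers (D.r 0) ⊔ zpowers D.z
  | 2 => D.Ns (X 3) ⊔ zpowers (D.r 0)
  | _ => D.Ns (X 2) ⊔ zpowers (D.r 0)

theorem cN (u : G) (hu : u ∈ gen (D.r 0) D.z) (v : G) (hv : v ∈ gen (D.r 0) D.z) : u * v = v * u :=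
  D.Hs.U_comm hu hv

theorem sN (u : G) (hu : u ∈ gen (D.r 0) D.z) : u * u = 1 := D.Hs.U_sq u hu

namespace FF

variable [Finite G] {S : Sylow 2 G} (A : FF D S) {X : ℕ → Subgroup G} (hX : Flg D.U D.z D.Ms.f 3 X)
  (hY : ∀ d ≤ 2, X d = D.Yf d)

omit [Finite G] in
theorem X2_eq (hY : ∀ d ≤ 2, X d = D.Yf d) : X 2 = zpowers D.z ⊔ zpowers (D.r 0) ⊔ zpowers (D.r 1) :=
  hY 2 le_rfl

omit [Finite G] in
theorem r0_X2 (hY : ∀ d ≤ 2, X d = D.Yf d) : D.r 0 ∈ X 2 := by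
  rw [X2_eq hY]; exact mem_sup_left (mem_sup_right (mem_zpowers _))

omit [Finite G] in
theorem r1_X2 (hY : ∀ d ≤ 2, X d = D.Yf d) : D.r 1 ∈ X 2 := by
  rw [X2_eq hY]; exact mem_sup_right (mem_zpowers _)

omit [Finite G] in
theorem f_X3 (hX : Flg D.U D.z D.Ms.f 3 X) {p q : G} (hp : p ∈ D.Δ) (hpX : p ∈ X 3) (hqX : q ∈ X 3) :
    D.f p q = 0 := by
  rw [D.f_Δ hp]
  exact (Side.f_Δ (D := D.Ms) hp).symm.trans (hX.iso p hpX q hqX)

omit [Finite G] in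
theorem X23 (hX : Flg D.U D.z D.Ms.f 3 X) : X 2 ≤ X 3 := hX.mono 2 (by omega)

include hX in
/-- the third point -/
theorem exists_e : ∃ e ∈ D.Δ, e ∈ X 3 ∧ e ∉ X 2 ∧ X 3 = X 2 ⊔ zpowers e := by
  have h1 : ∃ u ∈ X 3, u ∉ X 2 := by
    by_contra hcon
    push Not at hcon
    have h2 := Subgroup.card_le_of_le (show X 3 ≤ X 2 from hcon)
    rw [hX.card 3 le_rfl, hX.card 2 (by omega)] at h2
    norm_num at h2
  obtain ⟨u, hu, hu2⟩ := h1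
  have hz2 : D.z ∈ X 2 := hX.z_mem (by omega)
  have key : ∀ e ∈ D.Δ, e ∈ X 3 → e ∉ X 2 → X 3 = X 2 ⊔ zpowers e := by
    intro e he he3 he2
    have h3 := card_ad (A := X 2) cU D.U_sq (hX.le_U (by omega)) (D.ΔU he) he2
    rw [hX.card 2 (by omega)] at h3
    symm
    refine Subgroup.eq_of_le_of_card_ge (sup_le (X23 hX) (zpowers_le.2 he3)) ?_
    rw [h3, hX.card 3 le_rfl]
    norm_num
  rcases D.mem_U_iff.1 (hX.le_U (by omega) hu) with h | h | h | h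
  · exact absurd (h ▸ Subgroup.one_mem _) hu2
  · exact absurd (h ▸ hz2) hu2
  · exact ⟨u, h, hu, hu2, key u h hu hu2⟩
  · have h3 : u * D.z ∈ X 3 := Subgroup.mul_mem _ hu (X23 hX hz2)
    have h4 : u * D.z ∉ X 2 := fun h5 => hu2 (by
      have h6 := Subgroup.mul_mem _ h5 hz2
      rwa [mul_assoc, D.z_sq, mul_one] at h6)
    exact ⟨_, h, h3, h4, key _ h h3 h4⟩

omit [Finite G] in
theorem r01 : D.r 0 ≠ D.r 1 := D.r_r (by decide)

omit [Finite G] in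
theorem fr01 : D.f (D.r 0) (D.r 1) = 0 := by
  rw [D.f_Δ D.r0_Δ]; exact f_r

omit [Finite G] in
/-- `Ns (X 2) = N₀ ∩ N₁` -/
theorem Ns2_eq (hY : ∀ d ≤ 2, X d = D.Yf d) : D.Ns (X 2) = gen (D.r 0) D.z ⊓ gen (D.r 1) D.z := by
  apply le_antisymm
  · intro n hn
    exact ⟨hn _ D.r0_Δ (r0_X2 hY), hn _ (D.r_Δ 1) (r1_X2 hY)⟩
  · rintro n ⟨h1, h2⟩ p hp hpX
    rw [X2_eq hY] at hpX
    rcases mem_Y2_Δ hpX hp with rfl | rfl | rfl
    · exact h1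
    · exact h2
    · exact N_inf_mul (D.r_Δ 1) D.r0_Δ r01.symm (by
        rw [D.f_symm (D.r_mem 1) (D.r_mem 0)]; exact fr01) h2 h1

omit [Finite G] in
/-- `Ns (X 3) = N₀ ∩ N₁ ∩ N_e` -/
theorem Ns3_eq (hX : Flg D.U D.z D.Ms.f 3 X) (hY : ∀ d ≤ 2, X d = D.Yf d) {e : G} (he : e ∈ D.Δ) (he3 : e ∈ X 3)
    (he2 : e ∉ X 2) (hX3 : X 3 = X 2 ⊔ zpowers e) :
    D.Ns (X 3) = gen (D.r 0) D.z ⊓ gen (D.r 1) D.z ⊓ gen e D.z := by
  apply le_antisymm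
  · intro n hn
    exact ⟨⟨hn _ D.r0_Δ (X23 hX (r0_X2 hY)), hn _ (D.r_Δ 1) (X23 hX (r1_X2 hY))⟩, hn e he he3⟩
  · rintro n ⟨h12, h3⟩ p hp hpX
    have h2 : n ∈ D.Ns (X 2) := by rw [Ns2_eq hY]; exact h12
    have hpX' := hpX
    rw [hX3, mem_ad cU D.U_sq (hX.le_U (by omega)) (D.ΔU he)] at hpX
    rcases hpX with hpX | hpX
    · exact h2 p hp hpX
    · have hzU := D.z_mem
      have heU := D.ΔU he
      have epe : p = p * e * e := by rw [mul_assoc, D.U_sq e heU, mul_one]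
      have main : ∀ y ∈ D.Δ, y ∈ X 2 → n ∈ gen (y * e) D.z ∧ y * e ∈ D.Δ := by
        intro y hy hyX
        have hne : e ≠ y := fun h => he2 (h ▸ hyX)
        have h0 := f_X3 hX he he3 (X23 hX hyX)
        refine ⟨N_inf_mul he hy hne h0 h3 (h2 y hy hyX), ?_⟩
        have h4 := D.mul_mem hy he hne.symm (by
          rw [D.φ_symm hy he, ← D.f_Δ he]; exact h0)
        exact h4
      rcases D.mem_U_iff.1 (hX.le_U (by omega) hpX) with h | h | h | h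
      · rw [epe, h, one_mul]; exact h3
      · exfalso
        rw [epe, h, cU _ hzU _ heU] at hp
        exact D.zz_mem he hp
      · rw [epe]
        exact (main _ h hpX).1
      · exfalso
        have h5 := (main _ h (Subgroup.mul_mem _ hpX (hX.z_mem (by omega)))).2
        have e2 : p * e * D.z * e = p * D.z := by
          calc p * e * D.z * e = p * (e * D.z) * e := by group
            _ = p * (D.z * e) * e := by rw [cU _ heU _ hzU]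
            _ = p * D.z * (e * e) := by group
            _ = p * D.z := by rw [D.U_sq e heU, mul_one]
        rw [e2] at h5
        exact D.zz_mem hp h5

include A

theorem card_Ns2 (hY : ∀ d ≤ 2, X d = D.Yf d) : Nat.card (D.Ns (X 2)) = 8 := by
  rw [Ns2_eq hY]
  exact F4_two A.hQ A.F A.B A.hk D.r0_Δ (D.r_Δ 1) r01 fr01

include hX in
theorem card_Ns3 (hY : ∀ d ≤ 2, X d = D.Yf d) : Nat.card (D.Ns (X 3)) = 4 := by
  obtain ⟨e, he, he3, he2, h3⟩ := exists_e hX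
  rw [Ns3_eq hX hY he he3 he2 h3]
  have h0 := r0_X2 hY
  have h1 := r1_X2 hY
  exact F4_three A.hQ A.F A.B A.hk D.r0_Δ (D.r_Δ 1) he r01 (fun h => he2 (h ▸ h0)) (fun h => he2 (h ▸ h1))
    (fun h => he2 (h ▸ Subgroup.mul_mem _ h0 h1)) fr01 (f_X3 hX D.r0_Δ (X23 hX h0) he3)
    (f_X3 hX (D.r_Δ 1) (X23 hX h1) he3)

omit A [Finite G] in
theorem Ns2_N (hY : ∀ d ≤ 2, X d = D.Yf d) : D.Ns (X 2) ≤ gen (D.r 0) D.z := by
  rw [Ns2_eq hY]; exact inf_le_left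

omit A [Finite G] in
theorem Ns3_N (hX : Flg D.U D.z D.Ms.f 3 X) (hY : ∀ d ≤ 2, X d = D.Yf d) : D.Ns (X 3) ≤ gen (D.r 0) D.z :=
  (Ns_anti (X23 hX)).trans (Ns2_N hY)

theorem r0_Ns2 (hY : ∀ d ≤ 2, X d = D.Yf d) : D.r 0 ∉ D.Ns (X 2) := by
  intro h
  rw [Ns2_eq hY] at h
  rcases inf_U A.hQ A.F A.B A.hk D.r0_Δ (D.r_Δ 1) r01 h.1 h.2 (D.r_mem 0) with h1 | h1
  · exact D.one_Δ (h1 ▸ D.r0_Δ)
  · exact D.z_Δ (h1 ▸ D.r0_Δ)

theorem r0_Ns3 (hX : Flg D.U D.z D.Ms.f 3 X) (hY : ∀ d ≤ 2, X d = D.Yf d) : D.r 0 ∉ D.Ns (X 3) := fun h =>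
  A.r0_Ns2 hY (Ns_anti (X23 hX) h)

omit A [Finite G] in
theorem zpr_N : zpowers (D.r 0) ≤ gen (D.r 0) D.z := zpowers_le.2 D.r_mem_N

theorem card_Z (hX : Flg D.U D.z D.Ms.f 3 X) (hY : ∀ d ≤ 2, X d = D.Yf d) (d : ℕ) (hd : d ≤ 3) :
    Nat.card (D.Zf X d) = 2 ^ (d + 1) := by
  have r1 : D.r 0 ≠ 1 := fun h => D.one_Δ (h ▸ D.r0_Δ)
  have hzr : D.z ∉ zpowers (D.r 0) := by
    rw [mem_zp (D.r_sq 0)]
    rintro (h | h)
    · exact D.z_ne h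
    · exact D.z_Δ (h ▸ D.r0_Δ)
  have h0 : Nat.card (zpowers (D.r 0)) = 2 := card_zp (D.r_sq 0) r1
  have h1 := card_ad (A := zpowers (D.r 0)) cN sN zpr_N (self_mem_gen _ _ : D.z ∈ gen (D.r 0) D.z) hzr
  have h2 := card_ad (A := D.Ns (X 3)) cN sN (Ns3_N hX hY) D.r_mem_N (A.r0_Ns3 hX hY)
  have h3 := card_ad (A := D.Ns (X 2)) cN sN (Ns2_N hY) D.r_mem_N (A.r0_Ns2 hY)
  rw [h0] at h1
  rw [A.card_Ns3 hX hY] at h2
  rw [A.card_Ns2 hY] at h3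
  interval_cases d
  · exact h0
  · exact h1
  · exact h2
  · exact h3

omit A [Finite G] in
theorem Z_N (hX : Flg D.U D.z D.Ms.f 3 X) (hY : ∀ d ≤ 2, X d = D.Yf d) : D.Zf X 3 ≤ gen (D.r 0) D.z :=
  sup_le (Ns2_N hY) zpr_N

omit A [Finite G] in
theorem Z_mono (hX : Flg D.U D.z D.Ms.f 3 X) (d : ℕ) (hd : d < 3) : D.Zf X d ≤ D.Zf X (d + 1) := by
  interval_cases d
  · exact le_sup_left
  · exact sup_le le_sup_right (zpowers_le.2 (mem_sup_left (z_Ns _)))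
  · exact sup_le_sup_right (Ns_anti (X23 hX)) _

theorem Z_iso (hY : ∀ d ≤ 2, X d = D.Yf d) : ∀ x ∈ D.Zf X 3, ∀ y ∈ D.Zf X 3, D.Hs.f x y = 0 := by
  have hF := A.B.full
  have hrN : D.r 0 ∈ gen (D.r 0) D.z := D.r_mem_N
  have hle : D.Zf X 3 ≤ gen (D.r 0) D.z := sup_le (Ns2_N hY) zpr_N
  have key : ∀ x ∈ D.Ns (X 2), ∀ y ∈ D.Ns (X 2), D.Hs.f x y = 0 := by
    intro x hx y hy
    rw [Ns2_eq hY] at hx hy
    exact F4_ti A.hQ A.F A.B A.hk (D.r_Δ 1) r01 fr01 hx.1 hx.2 hy.1 hy.2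
  have k2 : ∀ x ∈ D.Ns (X 2), ∀ y ∈ D.Zf X 3, D.Hs.f x y = 0 := by
    intro x hx y hy
    have hxN := Ns2_N hY hx
    rcases (mem_ad cN sN (Ns2_N hY) hrN).1 hy with h | h
    · exact key x hx y h
    · have h1 := key x hx _ h
      have h2 : D.Hs.f x (y * D.r 0) = D.Hs.f x y + D.Hs.f x (D.r 0) := hF.f_mul_right (hle hy) hrN hxN
      have h3 : D.Hs.f x (D.r 0) = 0 := hF.f_right_z hxN
      rwa [h2, h3, add_zero] at h1
  intro x hx y hy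
  rcases (mem_ad cN sN (Ns2_N hY) hrN).1 hx with h | h
  · exact k2 x h y hy
  · have h1 := k2 _ h y hy
    have h2 : D.Hs.f (x * D.r 0) y = D.Hs.f x y + D.Hs.f (D.r 0) y := hF.f_mul_left (hle hx) hrN (hle hy)
    have h3 : D.Hs.f (D.r 0) y = 0 := hF.f_z
    rwa [h2, h3, add_zero] at h1

omit A in
/-- elements of `M ∩ C(r₀)` normalising `X d` -/
theorem Ns_Z {K : Subgroup G} {m : G} (hm : m ∈ D.M) (hr : m * D.r 0 = D.r 0 * m)
    (hK : m ∈ normalizer (K : Set G)) : ∀ x ∈ D.Ns K ⊔ zpowers (D.r 0), m * x * m⁻¹ ∈ D.Ns K ⊔ zpowers (D.r 0) :=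
  conj_ad (fun a ha => mem_sup_left (Ns_conj hm hK a ha)) (by
    rw [conj_of_comm hr]; exact mem_sup_right (mem_zpowers _))

omit A in
theorem Z1_conj {m : G} (hm : m * D.z = D.z * m) (hr : m * D.r 0 = D.r 0 * m) :
    ∀ x ∈ zpowers (D.r 0) ⊔ zpowers D.z, m * x * m⁻¹ ∈ zpowers (D.r 0) ⊔ zpowers D.z :=
  conj_ad (fun a ha => by
    refine mem_sup_left ?_
    rw [mem_zp (D.r_sq 0)] at ha ⊢
    rcases ha with rfl | rfl
    · left; group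
    · right; exact conj_of_comm hr) (by
    rw [conj_of_comm hm]; exact mem_sup_right (mem_zpowers _))

omit A in
theorem Z0_conj {m : G} (hr : m * D.r 0 = D.r 0 * m) :
    ∀ x ∈ zpowers (D.r 0), m * x * m⁻¹ ∈ zpowers (D.r 0) := by
  intro x hx
  rw [mem_zp (D.r_sq 0)] at hx ⊢
  rcases hx with rfl | rfl
  · left; group
  · right; exact conj_of_comm hr

theorem S_Xn (hP : PPs D.M 3 X ∅ = (S : Subgroup G)) {s : G} (hs : s ∈ (S : Subgroup G)) (d : ℕ) (hd : d ≤ 3) :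
    s ∈ normalizer (X d : Set G) := by
  rw [← hP] at hs
  exact hs.2 d hd (by simp)

theorem S_Z (hP : PPs D.M 3 X ∅ = (S : Subgroup G)) (d : ℕ) (hd : d ≤ 3) :
    ∀ s ∈ (S : Subgroup G), ∀ y ∈ D.Zf X d, s * y * s⁻¹ ∈ D.Zf X d := by
  intro s hs
  have hm := A.S_M hs
  have hr := A.S_r s hs
  have hz := A.S_z s hs
  interval_cases d
  · exact Z0_conj hr
  · exact Z1_conj hz hr
  · exact Ns_Z hm hr (A.S_Xn hP hs 3 le_rfl)
  · exact Ns_Z hm hr (A.S_Xn hP hs 2 (by omega))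

/-- **the flag of `C(r₀)`** -/
theorem hflag (hX : Flg D.U D.z D.Ms.f 3 X) (hY : ∀ d ≤ 2, X d = D.Yf d)
    (hP : PPs D.M 3 X ∅ = (S : Subgroup G)) : Flg (gen (D.r 0) D.z) (D.r 0) D.Hs.f 3 (D.Zf X) ∧
      PPs (centralizer {D.r 0}) 3 (D.Zf X) ∅ = (S : Subgroup G) := by
  have r1 : D.r 0 ≠ 1 := fun h => D.one_Δ (h ▸ D.r0_Δ)
  have hSr : (S : Subgroup G) ≤ centralizer {D.r 0} := fun s hs => mem_centralizer_singleton_iff.2 (A.S_r s hs)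
  obtain ⟨m, X', -, h2, h3, h4⟩ := exists_flg A.Hsd r1 S hSr A.H_ker (k := 3) (Y := D.Zf X)
    (fun x => mem_zp (D.r_sq 0)) (fun d hd => Z_mono hX d hd) (Z_N hX hY) (fun d hd => A.card_Z hX hY d hd)
    (A.Z_iso hY) (fun d hd => A.le_norm (A.S_Z hP d hd))
  have h5 := h2.card_U
  rw [A.card_N] at h5
  have h6 := Nat.pow_right_injective (le_refl 2) h5
  have h7 : m = 3 := by
    have : 7 = 2 * m + 1 := h6
    omega
  subst h7
  refine ⟨⟨fun x => mem_zp (D.r_sq 0), fun d hd => Z_mono hX d hd, Z_N hX hY, fun d hd => A.card_Z hX hY d hd,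
    A.Z_iso hY, h2.card_U⟩, ?_⟩
  rw [← h4]
  exact PPs_congr (fun d hd => (h3 d hd).symm) _

end FF

end TS

end Cfsg.Agent.Omega.HOneTwo.Trans
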