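import Cfsg.Agent.Omega.HOneTwo.FSysB
import Cfsg.Agent.Omega.HOneTwo.FDigon

/-!
# II.0h1, `q = 2`, F4-type: the four parabolics ((21) of #16429)

`P₁ = PPs C(r₀) {1}`, `P₂ = PPs C(r₀) {2} = PPs M {3}`, `P₃ = PPs C(r₀) {3} = PPs M {2}`, `P₄ = PPs M {1}`.

* `FF.eq_two`, `FF.eq_three`;
* `FF.one_eq` : `P₁ = ⟨O₂(C(z^h)) : h ∈ P₁⟩ S`.
-/

set_option autoImplicit false
set_option linter.unusedSectionVars false

namespace Cfsg.Agent.Omega.HOneTwo.Trans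

open Subgroup Cfsg.Agent.Omega.BTwo Cfsg.Agent.Omega.HTwo.Eight Cfsg.Agent.Omega.HTwo.SysSymp
open Cfsg.Agent.Omega.HOneTwo.FDigon (XX le_XX XX_le O2_cent_conj XX_conj mem_sup_of sup_eq_of_relIndex)

universe u

variable {G : Type u} [Group G]

theorem eq_of_relIndex {S P P' : Subgroup G} (hS : S ≤ P) (h : P ≤ P') (h3 : S.relIndex P = 3)
    (h3' : S.relIndex P' = 3) : P = P' := by
  have h4 := Subgroup.relIndex_mul_relIndex S P P' hS h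
  rw [h3, h3'] at h4
  have h5 : P.relIndex P' = 1 := by omega
  exact le_antisymm h (Subgroup.relIndex_eq_one.1 h5)

namespace TS

variable {D : TS G}

namespace FF

variable [Finite G] {S : Sylow 2 G} (A : FF D S) {X : ℕ → Subgroup G}

omit [Finite G] in
theorem r_of_X1 (hY : ∀ d ≤ 2, X d = D.Yf d) {m : G} (hm : m ∈ D.M) (h : m ∈ normalizer (X 1 : Set G)) :
    m * D.r 0 = D.r 0 * m := by
  have e : X 1 = zpowers D.z ⊔ zpowers (D.r 0) := hY 1 (by omega)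
  rw [e, Subgroup.mem_normalizer_iff] at h
  have h1 := (h (D.r 0)).1 (mem_sup_right (mem_zpowers _))
  have h2 := Dl_inv hm D.r0_Δ
  rw [mem_Y1] at h1
  rcases h1 with h1 | h1 | h1 | h1
  · exact absurd (h1 ▸ h2) D.one_Δ
  · exact absurd (h1 ▸ h2) D.z_Δ
  · exact comm_of_conj h1
  · exact absurd (h1 ▸ h2) (D.zz_mem D.r0_Δ)

theorem mem_norm {K : Subgroup G} {m : G} (h : ∀ x ∈ K, m * x * m⁻¹ ∈ K) : m ∈ normalizer (K : Set G) := by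
  exact mem_normalizer_of_conj h

theorem le_two (hY : ∀ d ≤ 2, X d = D.Yf d) :
    PPs D.M 3 X {3} ≤ PPs (centralizer {D.r 0}) 3 (D.Zf X) {2} := by
  rintro m ⟨hm, h⟩
  have hr := r_of_X1 hY hm (h 1 (by omega) (by simp))
  refine ⟨mem_centralizer_singleton_iff.2 hr, fun d hd hd2 => ?_⟩
  apply mem_norm
  interval_cases d
  · exact Z0_conj hr
  · exact Z1_conj (D.M_z m hm) hr
  · exact absurd rfl hd2
  · exact Ns_Z hm hr (h 2 (by omega) (by simp))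

theorem le_three (hY : ∀ d ≤ 2, X d = D.Yf d) :
    PPs D.M 3 X {2} ≤ PPs (centralizer {D.r 0}) 3 (D.Zf X) {3} := by
  rintro m ⟨hm, h⟩
  have hr := r_of_X1 hY hm (h 1 (by omega) (by simp))
  refine ⟨mem_centralizer_singleton_iff.2 hr, fun d hd hd3 => ?_⟩
  apply mem_norm
  interval_cases d
  · exact Z0_conj hr
  · exact Z1_conj (D.M_z m hm) hr
  · exact Ns_Z hm hr (h 3 (by omega) (by simp))
  · exact absurd rfl hd3

section

variable (hX : Flg D.U D.z D.Ms.f 3 X) (hY : ∀ d ≤ 2, X d = D.Yf d) (hP : PPs D.M 3 X ∅ = (S : Subgroup G))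

include A hX hP

theorem idxM {j : ℕ} (h1 : 1 ≤ j) (h3 : j ≤ 3) : (S : Subgroup G).relIndex (PPs D.M 3 X {j}) = 3 := by
  rw [← hP]; exact hX.relIndex A.Msd D.z_ne h1 h3

theorem S_PM (j : ℕ) : (S : Subgroup G) ≤ PPs D.M 3 X {j} := by
  rw [← hP]; exact PPs_mono (Set.empty_subset _)

include hY

theorem r_ne : D.r 0 ≠ 1 := fun h => D.one_Δ (h ▸ D.r0_Δ)

theorem idxH {j : ℕ} (h1 : 1 ≤ j) (h3 : j ≤ 3) :
    (S : Subgroup G).relIndex (PPs (centralizer {D.r 0}) 3 (D.Zf X) {j}) = 3 := by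
  obtain ⟨h4, h5⟩ := A.hflag hX hY hP
  rw [← h5]
  exact h4.relIndex A.Hsd (A.r_ne hX hY hP) h1 h3

theorem S_PH (j : ℕ) : (S : Subgroup G) ≤ PPs (centralizer {D.r 0}) 3 (D.Zf X) {j} := by
  obtain ⟨h4, h5⟩ := A.hflag hX hY hP
  rw [← h5]; exact PPs_mono (Set.empty_subset _)

/-- `P₂` -/
theorem eq_two : PPs D.M 3 X {3} = PPs (centralizer {D.r 0}) 3 (D.Zf X) {2} :=
  eq_of_relIndex (A.S_PM hX hP 3) (le_two hY) (A.idxM hX hP (by omega) le_rfl)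
    (A.idxH hX hY hP (by omega) (by omega))

/-- `P₃` -/
theorem eq_three : PPs D.M 3 X {2} = PPs (centralizer {D.r 0}) 3 (D.Zf X) {3} :=
  eq_of_relIndex (A.S_PM hX hP 2) (le_three hY) (A.idxM hX hP (by omega) (by omega))
    (A.idxH hX hY hP (by omega) le_rfl)

/-! ### `P₁` -/

/-- `P₁ ∩ C(z) ≤ S` -/
theorem one_inf {x : G} (hx : x ∈ PPs (centralizer {D.r 0}) 3 (D.Zf X) {1}) (hz : x * D.z = D.z * x) :
    x ∈ (S : Subgroup G) := by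
  obtain ⟨h4, h5⟩ := A.hflag hX hY hP
  rw [← h5]
  refine ⟨hx.1, fun d hd _ => ?_⟩
  by_cases h1 : d = 1
  · subst h1
    exact mem_norm (Z1_conj hz (mem_centralizer_singleton_iff.1 hx.1))
  · exact hx.2 d hd h1

/-- the orbit of `z` -/
theorem orb_Ns {h : G} (hh : h ∈ PPs (centralizer {D.r 0}) 3 (D.Zf X) {1}) : h * D.z * h⁻¹ ∈ D.Ns (X 3) := by
  have hr := mem_centralizer_singleton_iff.1 hh.1
  have h2 := hh.2 2 (by omega) (by simp)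
  rw [Subgroup.mem_normalizer_iff] at h2
  have h3 : h * D.z * h⁻¹ ∈ D.Ns (X 3) ⊔ zpowers (D.r 0) := (h2 D.z).1 (mem_sup_left (z_Ns _))
  have h4 : h * D.z * h⁻¹ ∈ D.Hs.Δ := ⟨h, hr, rfl⟩
  rcases (mem_ad cN sN (Ns3_N hX hY) D.r_mem_N).1 h3 with h5 | h5
  · exact h5
  · exfalso
    refine A.B.full.inj _ h4 ?_
    have h6 : h * D.z * h⁻¹ * D.r 0 ∈ gen (D.r 0) D.z ⊓ gen (D.r 1) D.z := by
      rw [← Ns2_eq hY]; exact Ns_anti (X23 hX) h5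
    refine F4_ZZ A.hQ A.F A.B A.hk (D.r_Δ 1) r01 fr01 h6.1 h6.2 fun h7 => ?_
    have h8 : h * D.z * h⁻¹ = D.r 0 := by
      rw [mul_eq_one_iff_eq_inv] at h7
      rw [h7]
      exact inv_eq_of_mul_eq_one_left (D.r_sq 0)
    exact D.Hs.z_notin (h8 ▸ h4 : D.r 0 ∈ D.Hs.Δ) rfl

theorem XX_le_one : XX {y | ∃ h ∈ PPs (centralizer {D.r 0}) 3 (D.Zf X) {1}, y = h * D.z * h⁻¹} ≤
    PPs (centralizer {D.r 0}) 3 (D.Zf X) {1} := by
  refine XX_le ?_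
  rintro _ ⟨h, hh, rfl⟩ x hx
  have h1 := O2_cent_conj (g := h⁻¹) hx
  have e : h⁻¹ * (h * D.z * h⁻¹) * h⁻¹⁻¹ = D.z := by group
  rw [e, A.O_z] at h1
  have h2 := A.S_PH hX hY hP 1 (A.O_S h1)
  have h3 := Subgroup.mul_mem _ (Subgroup.mul_mem _ hh h2) (Subgroup.inv_mem _ hh)
  have e2 : h * (h⁻¹ * x * h⁻¹⁻¹) * h⁻¹ = x := by group
  rwa [e2] at h3

theorem XX_not_one : ¬ XX {y | ∃ h ∈ PPs (centralizer {D.r 0}) 3 (D.Zf X) {1}, y = h * D.z * h⁻¹} ≤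
    (S : Subgroup G) := by
  intro hcon
  have hex : ∃ h ∈ PPs (centralizer {D.r 0}) 3 (D.Zf X) {1}, h ∉ (S : Subgroup G) := by
    by_contra hall
    push Not at hall
    have h1 := A.idxH hX hY hP (j := 1) le_rfl (by omega)
    rw [Subgroup.relIndex_eq_one.2 hall] at h1
    omega
  obtain ⟨h, hh, hhS⟩ := hex
  have hinv := Subgroup.inv_mem _ hh
  have hw : h⁻¹ * D.z * h⁻¹⁻¹ ∈ D.Ns (X 3) := A.orb_Ns hX hY hP hinv
  have hw2 : h⁻¹ * D.z * h⁻¹⁻¹ ∈ gen (D.r 0) D.z ⊓ gen (D.r 1) D.z := by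
    rw [← Ns2_eq hY]; exact Ns_anti (X23 hX) hw
  have hwO := inf_O A.hQ A.F A.B A.hk D.r0_Δ (D.r_Δ 1) r01 hw2.1 hw2.2
  have hwc : ∀ o ∈ O2 D.M, h⁻¹ * D.z * h⁻¹⁻¹ * o = o * (h⁻¹ * D.z * h⁻¹⁻¹) := by
    intro o ho
    rw [← A.O_z] at ho
    have h1 := O2_cent_conj (g := h) ho
    have hB : h * D.z * h⁻¹ ∈ {y | ∃ h ∈ PPs (centralizer {D.r 0}) 3 (D.Zf X) {1},
        y = h * D.z * h⁻¹} := ⟨h, hh, rfl⟩
    have h2 := hcon (le_XX hB h1)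
    have h3 := A.S_z _ h2
    calc h⁻¹ * D.z * h⁻¹⁻¹ * o = h⁻¹ * (D.z * (h * o * h⁻¹)) * h := by group
      _ = h⁻¹ * (h * o * h⁻¹ * D.z) * h := by rw [h3]
      _ = _ := by group
  have hwU := A.Z_O hwO hwc
  rcases inf_U A.hQ A.F A.B A.hk D.r0_Δ (D.r_Δ 1) r01 hw2.1 hw2.2 hwU with h1 | h1
  · have h2 : D.z = h * (h⁻¹ * D.z * h⁻¹⁻¹) * h⁻¹ := by group
    rw [h1] at h2
    exact D.z_ne (h2.trans (by group))
  · have h2 := comm_of_conj h1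
    have h3 := inv_comm h2
    rw [inv_inv] at h3
    exact hhS (A.one_inf hX hY hP hh h3)

/-- `P₁ = X* S` -/
theorem one_eq : PPs (centralizer {D.r 0}) 3 (D.Zf X) {1} =
    XX {y | ∃ h ∈ PPs (centralizer {D.r 0}) 3 (D.Zf X) {1}, y = h * D.z * h⁻¹} ⊔ (S : Subgroup G) :=
  sup_eq_of_relIndex (A.idxH hX hY hP le_rfl (by omega)) (A.S_PH hX hY hP 1) (A.XX_le_one hX hY hP)
    (A.XX_not_one hX hY hP)

end

end FF

end TS

end Cfsg.Agent.Omega.HOneTwo.Trans
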