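import Cfsg.Agent.Omega.HOneTwo.FSysB
import Cfsg.Agent.Omega.HOneTwo.FDigon

/-!
# II.0h1, `q = 2`, F4-type, (21) of #16429: `XX {r₀, r₁, r₂}`

* `TS.Q_le_M`, `TS.Q_act` : `Q_p ≤ M`; `g ∈ Q_p` moves `e ∈ p^⊥` to `e` or `e p`;
* `TS.XX_PPs` : `XX {r₀, r₁, r₂} ≤ PPs M 3 X {1}`;
* `TS.XX_not_le` : `XX {r₀, r₁, r₂}` is not in `S`;
* `TS.XX_comm` : `XX {r₀, r₁, r₂}` centralises `Ns (X 3)` (even `Ns (X 2)`).
-/

set_option autoImplicit false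
set_option linter.unusedSectionVars false

namespace Cfsg.Agent.Omega.HOneTwo.Trans

open Subgroup Cfsg.Agent.Omega.BTwo Cfsg.Agent.Omega.HTwo.Eight Cfsg.Agent.Omega.HTwo.SysSymp
  Cfsg.Agent.Omega.HOneTwo.OpSys Cfsg.Agent.Omega.HOneTwo.OpInst Cfsg.Agent.Omega.HOneTwo.FDigon

universe u

variable {G : Type u} [Group G]

namespace TS

variable {D : TS G}

theorem self_N {p : G} (hp : p ∈ D.Δ) : p ∈ gen p D.z := by
  obtain ⟨m, hm, rfl⟩ := hp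
  have h := gen_conj m D.r_mem_N
  rwa [conj_of_comm (D.M_z m hm)] at h

/-- `Q_p ≤ C(p)` -/
theorem Q_comm_p {p g : G} (hp : p ∈ D.Δ) (hg : g ∈ D.Q p) : g * p = p * g := N_Q_comm hp (self_N hp) hg

/-- `Q_p ≤ M` -/
theorem Q_le_M {p g : G} (hp : p ∈ D.Δ) (hg : g ∈ D.Q p) : g ∈ D.M :=
  D.mem_M_of hp (Q_comm_p hp hg) (N_Q_comm hp (z_gen p) hg)

theorem mem_Q_of {p e : G} (hp : p ∈ D.Δ) (he : e ∈ D.U) (h0 : D.f p e = 0) : e ∈ D.Q p := by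
  rw [D.f_Δ hp] at h0
  exact D.φ_eq_zero_iff.1 h0

/-- `g ∈ Q_p`, `e ∈ p^⊥`: `e^g ∈ {e, e p}` -/
theorem Q_act {p e g : G} (hp : p ∈ D.Δ) (he : e ∈ D.U) (h0 : D.f p e = 0) (hg : g ∈ D.Q p) :
    g * e * g⁻¹ = e ∨ g * e * g⁻¹ = e * p := by
  have hU : e * p = p * e := D.U_comm he (D.Ms.Δ_le hp)
  rcases D.Q_der' hp hg (mem_Q_of hp he h0) with h | h
  · left; rw [h, mul_inv_cancel_right]
  · right
    rw [h, hU]; group

/-- `K ∋ p`, `K ⊥ p`: `Q_p` normalises `K` -/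
theorem Q_norm {p g : G} {K : Subgroup G} (hp : p ∈ D.Δ) (hpK : p ∈ K) (hK : K ≤ D.U) (h0 : ∀ e ∈ K, D.f p e = 0)
    (hg : g ∈ D.Q p) : g ∈ normalizer (K : Set G) := by
  have key : ∀ g ∈ D.Q p, ∀ e ∈ K, g * e * g⁻¹ ∈ K := by
    intro g hg e he
    rcases Q_act hp (hK he) (h0 e he) hg with h | h <;> rw [h]
    · exact he
    · exact Subgroup.mul_mem _ he hpK
  rw [Subgroup.mem_normalizer_iff]
  intro e
  refine ⟨key g hg e, fun h => ?_⟩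
  have h1 := key g⁻¹ ((D.Q p).inv_mem hg) _ h
  have e2 : g⁻¹ * (g * e * g⁻¹) * g⁻¹⁻¹ = e := by group
  rwa [e2] at h1

variable {X : ℕ → Subgroup G}

theorem r_X2 (hY : ∀ d ≤ 2, X d = D.Yf d) (i : Fin 3) : D.r i ∈ X 2 := by
  have h0 := FF.r0_X2 hY
  have h1 := FF.r1_X2 hY
  fin_cases i
  · exact h0
  · exact h1
  · change D.r 2 ∈ X 2
    rw [r2_eq]; exact Subgroup.mul_mem _ h0 h1

variable [Finite G] {S : Sylow 2 G} (A : FF D S)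
include A

/-- **`XX {r₀, r₁, r₂} ≤ PPs M 3 X {1}`** -/
theorem FF.XX_PPs (hX : Flg D.U D.z D.Ms.f 3 X) (hY : ∀ d ≤ 2, X d = D.Yf d) :
    XX {D.r 0, D.r 1, D.r 2} ≤ PPs D.M 3 X {1} := by
  refine XX_le fun a ha g hg => ?_
  have ha' : ∃ i, a = D.r i := by
    rcases ha with rfl | rfl | rfl
    · exact ⟨0, rfl⟩
    · exact ⟨1, rfl⟩
    · exact ⟨2, rfl⟩
  obtain ⟨i, rfl⟩ := ha'
  have hp := D.r_Δ i
  have hg' : g ∈ D.Q (D.r i) := by rw [A.hQ]; exact hg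
  have hM := Q_le_M hp hg'
  refine ⟨hM, fun d hd hd1 => ?_⟩
  have hd1 : d ≠ 1 := hd1
  have h2 := r_X2 hY i
  have h3 : D.r i ∈ X 3 := FF.X23 hX h2
  have hd' : d = 0 ∨ d = 2 ∨ d = 3 := by omega
  rcases hd' with rfl | rfl | rfl
  · rw [Subgroup.mem_normalizer_iff]
    intro x
    rw [hX.zero, hX.zero]
    have hz := conj_of_comm (D.M_z g hM)
    constructor
    · rintro (rfl | rfl)
      · left; group
      · exact Or.inr hz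
    · rintro (h | h)
      · left
        rwa [mul_inv_eq_one, mul_eq_left] at h
      · right
        rw [← hz] at h
        exact mul_left_cancel (mul_right_cancel h)
  · exact Q_norm hp h2 (hX.le_U (by omega)) (fun e he => FF.f_X3 hX hp h3 (FF.X23 hX he)) hg'
  · exact Q_norm hp h3 (hX.le_U (by omega)) (fun e he => FF.f_X3 hX hp h3 he) hg'

/-- **`XX {r₀, r₁, r₂}` is not in `S`** -/
theorem FF.XX_not_le : ¬ XX {D.r 0, D.r 1, D.r 2} ≤ (S : Subgroup G) := by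
  intro hle
  obtain ⟨g, hg, h1⟩ := D.Q_mv (D.r_Δ 1) D.r0_Δ FF.r01.symm f_r
  have hg' : g ∈ O2 (centralizer {D.r 1}) := by
    have h2 := hg
    rw [A.hQ] at h2
    exact h2
  have h2 := hle (le_XX (show D.r 1 ∈ ({D.r 0, D.r 1, D.r 2} : Set G) by simp) hg')
  have h3 := conj_of_comm (A.S_r g h2)
  rw [h3] at h1
  have h4 : D.r 1 = 1 := by
    have h5 := h1.symm
    rwa [mul_eq_left] at h5
  exact D.one_Δ (h4 ▸ D.r_Δ 1)

/-- **`XX {r₀, r₁, r₂}` centralises `N₀ ∩ N₁ ∩ N₂`** -/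
theorem FF.XX_comm' {n : G} (hn : ∀ i, n ∈ gen (D.r i) D.z) {x : G} (hx : x ∈ XX {D.r 0, D.r 1, D.r 2}) :
    x * n = n * x := by
  have h1 : XX {D.r 0, D.r 1, D.r 2} ≤ centralizer {n} := by
    refine XX_le fun a ha g hg => ?_
    rw [mem_centralizer_singleton_iff]
    have key : ∀ i, g ∈ O2 (centralizer {D.r i}) → g * n = n * g := by
      intro i hg
      refine N_Q_comm (D.r_Δ i) (hn i) ?_
      rw [A.hQ]; exact hg
    rcases ha with rfl | rfl | rfl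
    · exact key 0 hg
    · exact key 1 hg
    · exact key 2 hg
  exact mem_centralizer_singleton_iff.1 (h1 hx)

/-- **`XX {r₀, r₁, r₂}` centralises `Ns K`, `K ∋ r₀, r₁, r₂`** -/
theorem FF.XX_comm {K : Subgroup G} (hK : ∀ i, D.r i ∈ K) {n : G} (hn : n ∈ D.Ns K) {x : G}
    (hx : x ∈ XX {D.r 0, D.r 1, D.r 2}) : x * n = n * x :=
  A.XX_comm' (fun i => hn _ (D.r_Δ i) (hK i)) hx

theorem FF.XX_comm_Ns2 (hY : ∀ d ≤ 2, X d = D.Yf d) {n : G} (hn : n ∈ D.Ns (X 2)) {x : G}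
    (hx : x ∈ XX {D.r 0, D.r 1, D.r 2}) : x * n = n * x := A.XX_comm (r_X2 hY) hn hx

theorem FF.XX_comm_Ns3 (hX : Flg D.U D.z D.Ms.f 3 X) (hY : ∀ d ≤ 2, X d = D.Yf d) {n : G} (hn : n ∈ D.Ns (X 3))
    {x : G} (hx : x ∈ XX {D.r 0, D.r 1, D.r 2}) : x * n = n * x :=
  A.XX_comm (fun i => FF.X23 hX (r_X2 hY i)) hn hx

/-- `S` normalises `{r₀, r₁, r₂}` -/
theorem FF.S_R {s : G} (hs : s ∈ (S : Subgroup G)) :
    ∀ a ∈ ({D.r 0, D.r 1, D.r 2} : Set G), s * a * s⁻¹ ∈ ({D.r 0, D.r 1, D.r 2} : Set G) := by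
  have h0 := conj_of_comm (A.S_r s hs)
  have hU : D.r 0 * D.r 1 = D.r 1 * D.r 0 := D.U_comm (D.r_mem 0) (D.r_mem 1)
  have h2 : s * D.r 2 * s⁻¹ = D.r 0 * (s * D.r 1 * s⁻¹) := by
    rw [r2_eq]
    calc s * (D.r 0 * D.r 1) * s⁻¹ = (s * D.r 0 * s⁻¹) * (s * D.r 1 * s⁻¹) := by group
      _ = _ := by rw [h0]
  rintro a (rfl | rfl | rfl)
  · rw [h0]; simp
  · rcases A.S_V s hs with h | h <;> rw [h] <;> simp
  · rcases A.S_V s hs with h | h <;> rw [h2, h]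
    · rw [← r2_eq]; simp
    · rw [r2_eq, ← mul_assoc, D.r_sq, one_mul]; simp

end TS

end Cfsg.Agent.Omega.HOneTwo.Trans
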