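import Cfsg.Agent.Omega.HOneTwo.FSysA

/-!
# II.0h1, `q = 2`: a 2-subgroup of the commutator group of order `|O| 2 ^ (m²)` ((7) of #15507, (21) of #16429)

* `SData.mono`, `Side.sdata_sub` : `SData` for a subgroup which contains the transvections;
* `exists_T` : `T ≤ PPs C m X ∅`, `T ≤ C₀`, `|O| 2 ^ (m²) ≤ |T|`;
* `FF.exists_T` : `T ≤ S`, `2 ^ 24 ≤ |T|`, `T ≤ ⟨(z ^ H₁) ^ M⟩`; `FF.S_le` : `S ≤ ⟨(z ^ H₁) ^ M⟩` if `|S| ≤ 2 ^ 24`.
-/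

set_option autoImplicit false
set_option linter.unusedSectionVars false
set_option maxHeartbeats 400000

namespace Cfsg.Agent.Omega.HOneTwo.Trans

open Subgroup Cfsg.Agent.Omega.BTwo Cfsg.Agent.Omega.HTwo.Eight Cfsg.Agent.Omega.HTwo.SysSymp

universe u

variable {G : Type u} [Group G]

/-- `SData` for a subgroup which contains the transvections -/
theorem sdata_mono {C C₀ U : Subgroup G} {z : G} {f : G → G → ZMod 2} (D : SData C U z f) (h0 : C₀ ≤ C)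
    (htv : ∀ p ∈ U, ∃ c ∈ C₀, ∀ u ∈ U, (f u p = 0 → c * u * c⁻¹ = u ∨ c * u * c⁻¹ = u * z) ∧
      (f u p = 1 → c * u * c⁻¹ = u * p ∨ c * u * c⁻¹ = u * p * z)) : SData C₀ U z f where
  zz := D.zz
  C_z := fun c hc => D.C_z c (h0 hc)
  z_U := D.z_U
  U_comm := D.U_comm
  U_sq := D.U_sq
  U_C := fun c hc => D.U_C c (h0 hc)
  f_add := D.f_add
  f_symm := D.f_symm
  f_self := D.f_self
  f_C := fun c hc => D.f_C c (h0 hc)
  f_rad := D.f_rad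
  f_z := D.f_z
  tv := htv

/-- **a subgroup of the flag stabiliser in a subgroup which contains the transvections** -/
theorem exists_T [Finite G] {C C₀ U : Subgroup G} {z : G} {f : G → G → ZMod 2} (D : SData C U z f)
    (h0 : C₀ ≤ C) (htv : ∀ p ∈ U, ∃ c ∈ C₀, ∀ u ∈ U, (f u p = 0 → c * u * c⁻¹ = u ∨ c * u * c⁻¹ = u * z) ∧
      (f u p = 1 → c * u * c⁻¹ = u * p ∨ c * u * c⁻¹ = u * p * z)) (hz1 : z ≠ 1) {m : ℕ} {X : ℕ → Subgroup G}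
    (F : Flg U z f m X) {O : Subgroup G} (hO : O ≤ C₀)
    (hOU : ∀ x ∈ O, ∀ u ∈ U, x * u * x⁻¹ = u ∨ x * u * x⁻¹ = u * z) :
    ∃ T : Subgroup G, T ≤ PPs C m X ∅ ∧ T ≤ C₀ ∧ Nat.card O * 2 ^ (m ^ 2) ≤ Nat.card T :=
  ⟨PPs C₀ m X ∅, fun _ hx => ⟨h0 hx.1, hx.2⟩, PPs_le, F.card_le (sdata_mono D h0 htv) hz1 hO hOU⟩

/-- the transvections of a full side -/
theorem Side.tv_sub {D : Side G} (h : D.IsFull) {A₀ : Subgroup G} (hN : ∀ p ∈ D.Δ, D.N p ≤ A₀) :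
    ∀ p ∈ D.U, ∃ c ∈ A₀, ∀ u ∈ D.U, (D.f u p = 0 → c * u * c⁻¹ = u ∨ c * u * c⁻¹ = u * D.z) ∧
      (D.f u p = 1 → c * u * c⁻¹ = u * p ∨ c * u * c⁻¹ = u * p * D.z) := by
  have key : ∀ q ∈ D.Δ, ∀ u ∈ D.U, (D.f u q = 0 → D.t q * u * (D.t q)⁻¹ = u) ∧
      (D.f u q = 1 → D.t q * u * (D.t q)⁻¹ = u * (q * D.z)) := by
    intro q hq u hu
    have h1 := D.t_act hq hu
    have h2 : D.f u q = D.φ q u := by rw [h.f_symm hu (D.Δ_le hq), Side.f_Δ hq]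
    rw [h2]
    exact ⟨fun h3 => by rw [h1, h3, pw_zero, mul_one], fun h3 => by rw [h1, h3, pw_one]⟩
  intro p hp
  rcases h.cases hp with h1 | ⟨q, hq, h1⟩
  · refine ⟨1, A₀.one_mem, fun u hu => ⟨fun _ => Or.inl (by group), fun h2 => ?_⟩⟩
    exfalso
    rcases h1 with rfl | rfl
    · rw [h.f_right_one hu] at h2; exact zero_ne_one h2
    · rw [h.f_right_z hu] at h2; exact zero_ne_one h2
  · refine ⟨D.t q, hN q hq (D.t_mem hq), fun u hu => ?_⟩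
    rcases h1 with rfl | rfl
    · refine ⟨fun h2 => Or.inl ((key _ hq u hu).1 h2), fun h2 => Or.inr ?_⟩
      rw [(key _ hq u hu).2 h2, mul_assoc]
    · have e : D.f u (q * D.z) = D.f u q := by
        rw [h.f_mul_right (D.Δ_le hq) D.z_mem hu, h.f_right_z hu, add_zero]
      rw [e]
      refine ⟨fun h2 => Or.inl ((key _ hq u hu).1 h2), fun h2 => Or.inl ?_⟩
      rw [(key _ hq u hu).2 h2]

namespace TS

variable {D : TS G}

/-- `⟨(z ^ H₁) ^ M⟩` -/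
def MN (D : TS G) : Subgroup G := closure {x | ∃ m ∈ D.M, ∃ y ∈ gen (D.r 0) D.z, x = m * y * m⁻¹}

theorem gen_le_MN : ∀ p ∈ D.Δ, gen p D.z ≤ D.MN := by
  rintro p ⟨m, hm, rfl⟩ n hn
  have h1 := gen_conj m⁻¹ hn
  have e : m⁻¹ * (m * D.r 0 * m⁻¹) * m⁻¹⁻¹ = D.r 0 := by group
  rw [e, D.m_z' hm, inv_inv] at h1
  exact subset_closure ⟨m, hm, _, h1, by group⟩

theorem MN_le : D.MN ≤ D.M := by
  unfold MN
  rw [closure_le]
  rintro _ ⟨m, hm, y, hy, rfl⟩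
  exact Subgroup.mul_mem _ (Subgroup.mul_mem _ hm (D.N_M hy)) (Subgroup.inv_mem _ hm)

theorem Gam_MN : D.Gam ≤ D.MN := by
  unfold Gam
  rw [closure_le]
  rintro x ⟨p, hp, hx⟩
  exact gen_le_MN p hp (D.mem_NO.1 hx).1

namespace FF

variable [Finite G] {S : Sylow 2 G} (A : FF D S)
include A

/-- **a 2-subgroup of `⟨(z ^ H₁) ^ M⟩` of order at least `2 ^ 24`** -/
theorem exists_T {X : ℕ → Subgroup G} (F : Flg D.U D.z D.Ms.f 3 X) (hX : PPs D.M 3 X ∅ = (S : Subgroup G)) :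
    ∃ T : Subgroup G, T ≤ (S : Subgroup G) ∧ 2 ^ 24 ≤ Nat.card T ∧
      T ≤ closure {x | ∃ m ∈ D.M, ∃ y ∈ gen (D.r 0) D.z, x = m * y * m⁻¹} := by
  obtain ⟨T, h1, h2, h3⟩ := Trans.exists_T A.Msd (C₀ := D.MN) MN_le
    (Side.tv_sub D.Ms_orth.toIsFull gen_le_MN) D.z_ne F (O := O2 D.M) (by rw [A.O_eq]; exact Gam_MN) (by
      intro x hx u hu
      left
      rw [A.F.O_U x hx u hu]
      group)
  refine ⟨T, h1.trans hX.le, ?_, h2⟩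
  rw [A.card_O] at h3
  exact le_trans (by norm_num) h3

/-- `S ≤ ⟨(z ^ H₁) ^ M⟩` -/
theorem S_le {X : ℕ → Subgroup G} (F : Flg D.U D.z D.Ms.f 3 X) (hX : PPs D.M 3 X ∅ = (S : Subgroup G))
    (hS : Nat.card (S : Subgroup G) ≤ 2 ^ 24) :
    (S : Subgroup G) ≤ closure {x | ∃ m ∈ D.M, ∃ y ∈ gen (D.r 0) D.z, x = m * y * m⁻¹} := by
  obtain ⟨T, h1, h2, h3⟩ := A.exists_T F hX
  rwa [Subgroup.eq_of_le_of_card_ge h1 (hS.trans h2)] at h3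

end FF

end TS

end Cfsg.Agent.Omega.HOneTwo.Trans
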