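import Cfsg.Agent.Omega.HOneTwo.FSysC
import Cfsg.Agent.Omega.HOneTwo.FSysT
import Cfsg.Agent.ParSys.FreeCount

/-!
# II.0h1, `q = 2`, F4-type: the system of (21) of #16429

* `FF.P4` : the four parabolics `P₁, P₂, P₃ ≤ C(r₀)`, `P₂, P₃, P₄ ≤ M`;
* `FF.gpp` : the residues of rank two, type `F₄`;
* `FF.gen_H`, `FF.gen_M` : `C(r₀)` and `M` lie in `⟨P₁, P₂, P₃, P₄⟩`.
-/

set_option autoImplicit false
set_option linter.unusedSectionVars false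

namespace Cfsg.Agent.Omega.HOneTwo.Trans

open Subgroup Cfsg.Agent.Omega.BTwo Cfsg.Agent.Omega.HTwo.Eight Cfsg.Agent.Omega.HTwo.SysSymp
open Cfsg.Agent.ParSys Cfsg.Agent.ParSys.RankTwo Cfsg.Agent.ParSys.FreeCount
open Cfsg.Agent.Omega.HOneTwo.FDigon (XX le_XX XX_le O2_cent_conj XX_conj mem_sup_of sup_eq_of_relIndex)

universe u v

variable {G : Type u} [Group G]

/-- a digon in both directions -/
theorem gpp_both {I : Type v} {P : I → Subgroup G} {i j : I} {S X Y : Subgroup G} (hB : ∀ k, S ≤ P k)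
    (hi : P i = Y ⊔ S) (hj : P j = X ⊔ S) (hSX : ∀ s ∈ S, ∀ x ∈ X, s * x * s⁻¹ ∈ X)
    (hSY : ∀ s ∈ S, ∀ y ∈ Y, s * y * s⁻¹ ∈ Y) (hXY : ∀ x ∈ X, ∀ y ∈ Y, x * y * x⁻¹ ∈ Y)
    (hinf : ∀ x, x ∈ P i → x ∈ P j → x ∈ S) : GPp S P i j 2 ∧ GPp S P j i 2 := by
  have comm : ∀ p ∈ P i, ∀ q ∈ P j, ∃ q' ∈ P j, ∃ p' ∈ P i, p * q = q' * p' := by
    intro p hp q hq
    rw [hi] at hp
    rw [hj] at hq
    obtain ⟨y, hy, s, hs, rfl⟩ := mem_sup_of hSY hp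
    obtain ⟨x, hx, t, ht, rfl⟩ := mem_sup_of hSX hq
    have hx' := hSX s hs x hx
    have hy' := hXY _ (inv_mem hx') y hy
    refine ⟨s * x * s⁻¹, ?_, (s * x * s⁻¹)⁻¹ * y * (s * x * s⁻¹)⁻¹⁻¹ * (s * t), ?_, by group⟩
    · rw [hj]; exact (le_sup_left : X ≤ X ⊔ S) hx'
    · rw [hi]
      exact mul_mem ((le_sup_left : Y ≤ Y ⊔ S) hy') ((le_sup_right : S ≤ Y ⊔ S) (mul_mem hs ht))
  refine ⟨gpp_two hB hinf comm, gpp_two hB (fun x hx hy => hinf x hy hx) fun p hp q hq => ?_⟩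
  obtain ⟨q', hq', p', hp', h⟩ := comm q⁻¹ (inv_mem hq) p⁻¹ (inv_mem hp)
  refine ⟨p'⁻¹, inv_mem hp', q'⁻¹, inv_mem hq', ?_⟩
  rw [← mul_inv_rev, ← h]
  group

namespace TS

/-- the four parabolics -/
def P4 (D : TS G) (X : ℕ → Subgroup G) : Fin 4 → Subgroup G :=
  ![PPs (centralizer {D.r 0}) 3 (D.Zf X) {1}, PPs (centralizer {D.r 0}) 3 (D.Zf X) {2},
    PPs (centralizer {D.r 0}) 3 (D.Zf X) {3}, PPs D.M 3 X {1}]

variable {D : TS G}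

namespace FF

variable [Finite G] {S : Sylow 2 G} (A : FF D S) {X : ℕ → Subgroup G}
  (hX : Flg D.U D.z D.Ms.f 3 X) (hY : ∀ d ≤ 2, X d = D.Yf d) (hP : PPs D.M 3 X ∅ = (S : Subgroup G))

include A hX hY hP

theorem S_P4 : ∀ i, (S : Subgroup G) ≤ D.P4 X i := by
  intro i
  fin_cases i
  · exact A.S_PH hX hY hP 1
  · exact A.S_PH hX hY hP 2
  · exact A.S_PH hX hY hP 3
  · exact A.S_PM hX hP 1

theorem idx_P4 : ∀ i, (S : Subgroup G).relIndex (D.P4 X i) = 3 := by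
  intro i
  fin_cases i
  · exact A.idxH hX hY hP le_rfl (by omega)
  · exact A.idxH hX hY hP (by omega) (by omega)
  · exact A.idxH hX hY hP (by omega) le_rfl
  · exact A.idxM hX hP le_rfl (by omega)

omit A hX hY hP in
theorem P4_le (i : Fin 4) (hi : i ≠ 3) : D.P4 X i ≤ centralizer {D.r 0} := by
  fin_cases i
  · exact PPs_le
  · exact PPs_le
  · exact PPs_le
  · exact absurd rfl hi

/-- `C(r₀)` is generated by `P₁, P₂, P₃` -/
theorem gen_H : centralizer {D.r 0} ≤ ⨆ i, D.P4 X i := by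
  obtain ⟨h4, h5⟩ := A.hflag hX hY hP
  refine h4.gen A.Hsd (A.r_ne hX hY hP) (by omega) fun j h1 h2 => ?_
  interval_cases j
  · exact le_iSup (D.P4 X) 0
  · exact le_iSup (D.P4 X) 1
  · exact le_iSup (D.P4 X) 2

/-- `M` is generated by `P₂, P₃, P₄` -/
theorem gen_M : D.M ≤ ⨆ i, D.P4 X i := by
  refine hX.gen A.Msd D.z_ne (by omega) fun j h1 h2 => ?_
  interval_cases j
  · exact le_iSup (D.P4 X) 3
  · rw [A.eq_three hX hY hP]; exact le_iSup (D.P4 X) 2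
  · rw [A.eq_two hX hY hP]; exact le_iSup (D.P4 X) 1

/-- `2 ^ 24 ≤ |S|` -/
theorem card_S : 2 ^ 24 ≤ Nat.card (S : Subgroup G) := by
  have h1 := hX.card_le A.Msd D.z_ne (Q := O2 D.M) (O2_le _) (fun x hx u hu => by
    left
    rw [A.F.O_U x hx u hu]
    group)
  rw [A.card_O, hP] at h1
  exact le_trans (by norm_num) h1

/-- the digon `(1, 4)` -/
theorem digon (h1 : XX {D.r 0, D.r 1, D.r 2} ≤ PPs D.M 3 X {1}) (h2 : ¬ XX {D.r 0, D.r 1, D.r 2} ≤ (S : Subgroup G))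
    (h3 : ∀ x ∈ XX {D.r 0, D.r 1, D.r 2}, ∀ n, n ∈ gen (D.r 0) D.z → n ∈ gen (D.r 1) D.z → n ∈ gen (D.r 2) D.z →
      x * n = n * x) : GPp (S : Subgroup G) (D.P4 X) 0 3 2 ∧ GPp (S : Subgroup G) (D.P4 X) 3 0 2 := by
  have hAS : ∀ s ∈ (S : Subgroup G), ∀ a ∈ ({D.r 0, D.r 1, D.r 2} : Set G), s * a * s⁻¹ ∈ ({D.r 0, D.r 1, D.r 2} : Set G) := by
    intro s hs a ha
    have h0 := A.S_r s hs
    have e0 : s * D.r 0 * s⁻¹ = D.r 0 := by rw [h0]; group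
    have hr2 : D.r 2 = D.r 0 * D.r 1 := r2_eq
    have hr1 : D.r 1 = D.r 0 * D.r 2 := by rw [hr2, ← mul_assoc, D.r_sq 0, one_mul]
    have e2 : s * D.r 2 * s⁻¹ = D.r 0 * (s * D.r 1 * s⁻¹) := by
      rw [hr2]
      calc s * (D.r 0 * D.r 1) * s⁻¹ = (s * D.r 0 * s⁻¹) * (s * D.r 1 * s⁻¹) := by group
        _ = _ := by rw [e0]
    rcases ha with rfl | rfl | rfl
    · rw [e0]; exact Or.inl rfl
    · rcases A.S_V s hs with h | h
      · rw [h]; exact Or.inr (Or.inl rfl)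
      · rw [h]; exact Or.inr (Or.inr rfl)
    · rcases A.S_V s hs with h | h
      · rw [e2, h, ← hr2]; exact Or.inr (Or.inr rfl)
      · rw [e2, h, ← hr1]; exact Or.inr (Or.inl rfl)
  refine gpp_both (A.S_P4 hX hY hP) (A.one_eq hX hY hP)
    (sup_eq_of_relIndex (A.idxM hX hP le_rfl (by omega)) (A.S_PM hX hP 1) h1 h2)
    (fun s hs x hx => XX_conj (hAS s hs) hx) (fun s hs y hy => XX_conj ?_ hy) ?_ ?_
  · rintro _ ⟨h, hh, rfl⟩
    exact ⟨s * h, Subgroup.mul_mem _ (A.S_PH hX hY hP 1 hs) hh, by group⟩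
  · intro x hx y hy
    refine XX_conj ?_ hy
    rintro _ ⟨h, hh, rfl⟩
    have h4 := Ns_anti (X23 hX) (A.orb_Ns hX hY hP hh)
    have r2X : D.r 2 ∈ X 2 := by rw [r2_eq]; exact Subgroup.mul_mem _ (r0_X2 hY) (r1_X2 hY)
    have h5 := h3 x hx _ (h4 _ D.r0_Δ (r0_X2 hY)) (h4 _ (D.r_Δ 1) (r1_X2 hY)) (h4 _ (D.r_Δ 2) r2X)
    refine ⟨h, hh, ?_⟩
    rw [h5]
    group
  · intro x hx hx'
    exact A.one_inf hX hY hP hx (D.M_z x hx'.1)

theorem gpp (h03 : GPp (S : Subgroup G) (D.P4 X) 0 3 2 ∧ GPp (S : Subgroup G) (D.P4 X) 3 0 2) :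
    ∀ i j : Fin 4, i ≠ j → GPp (S : Subgroup G) (D.P4 X) i j (CoxeterMatrix.F₄ i j) := by
  obtain ⟨h4, h5⟩ := A.hflag hX hY hP
  have hr := A.r_ne hX hY hP
  have hBH : ∀ k, PPs (centralizer {D.r 0}) 3 (D.Zf X) ∅ ≤ D.P4 X k := by rw [h5]; exact A.S_P4 hX hY hP
  have hBM : ∀ k, PPs D.M 3 X ∅ ≤ D.P4 X k := by rw [hP]; exact A.S_P4 hX hY hP
  have e1 : D.P4 X 1 = PPs D.M 3 X {3} := (A.eq_two hX hY hP).symm
  have e2 : D.P4 X 2 = PPs D.M 3 X {2} := (A.eq_three hX hY hP).symm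
  have h01 := h4.gpp_three A.Hsd hr hBH (a := 0) (b := 1) (i := 1) (j := 2) rfl rfl le_rfl rfl (by omega)
  have h12 := h4.gpp_four A.Hsd hr hBH (a := 1) (b := 2) (i := 2) (j := 3) rfl rfl (by omega) rfl rfl
  have h02 := h4.gpp_two A.Hsd hr hBH (a := 0) (b := 2) (i := 1) (j := 3) rfl rfl (by omega) le_rfl
  have h32 := hX.gpp_three A.Msd D.z_ne hBM (a := 3) (b := 2) (i := 1) (j := 2) rfl e2 le_rfl rfl (by omega)
  have h31 := hX.gpp_two A.Msd D.z_ne hBM (a := 3) (b := 1) (i := 1) (j := 3) rfl e1 (by omega) le_rfl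
  rw [h5] at h01 h12 h02
  rw [hP] at h32 h31
  intro i j hij
  fin_cases i <;> fin_cases j
  · exact absurd rfl hij
  · exact h01.1
  · exact h02.1
  · exact h03.1
  · exact h01.2
  · exact absurd rfl hij
  · exact h12.1
  · exact h31.2
  · exact h02.2
  · exact h12.2
  · exact absurd rfl hij
  · exact h32.2
  · exact h03.2
  · exact h31.1
  · exact h32.1
  · exact absurd rfl hij

end FF

end TS

/-- the order of the Borel subgroup of `F₄(2)` -/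
theorem hasQ_four : HasQ CoxeterMatrix.F₄ (fun _ => 2) (2 ^ 24) := by
  have h := hasQ_F4 (M := CoxeterMatrix.F₄) (q := fun _ => 2) (Equiv.refl (Fin 4)) rfl (x := 2) (y := 2) (by
    intro i; simp)
  norm_num at h ⊢
  exact h

theorem conn_four : ∀ J : Set (Fin 4), J.Nonempty → Jᶜ.Nonempty → ∃ i ∈ J, ∃ j ∈ Jᶜ, CoxeterMatrix.F₄ i j ≠ 2 :=
  conn_F4 (Equiv.refl (Fin 4)) rfl

end Cfsg.Agent.Omega.HOneTwo.Trans
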