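import Cfsg.Agent.Omega.HOneTwo.FSysD
import Cfsg.Agent.Omega.HOneTwo.FSysE

/-!
# II.0h1, `q = 2`, F4-type: the system of (21) of #16429, closed form

`FF.exists_sys` : the four parabolics over `S`, of type `F₄`, three chambers in each panel.
-/

set_option autoImplicit false
set_option linter.unusedSectionVars false

namespace Cfsg.Agent.Omega.HOneTwo.Trans

open Subgroup Cfsg.Agent.Omega.BTwo Cfsg.Agent.Omega.HTwo.Eight Cfsg.Agent.Omega.HTwo.SysSymp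
open Cfsg.Agent.ParSys Cfsg.Agent.ParSys.RankTwo Cfsg.Agent.ParSys.FreeCount

universe u v

variable {G : Type u} [Group G]

/-- **the system of type `F₄`** -/
theorem TS.FF.exists_sys {D : TS G} [Finite G] {S : Sylow 2 G} (A : TS.FF D S) :
    ∃ PP : Fin 4 → Subgroup G, (∀ i, (S : Subgroup G) ≤ PP i) ∧ (∀ i, (S : Subgroup G).relIndex (PP i) = 3) ∧
      (∀ i j : Fin 4, i ≠ j → GPp (S : Subgroup G) PP i j (CoxeterMatrix.F₄ i j)) ∧
      (∀ i, i ≠ 3 → PP i ≤ centralizer {D.r 0}) ∧ centralizer {D.r 0} ≤ (⨆ i, PP i) ∧ D.M ≤ (⨆ i, PP i) ∧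
      2 ^ 24 ≤ Nat.card (S : Subgroup G) ∧
      ∃ T : Subgroup G, T ≤ (S : Subgroup G) ∧ 2 ^ 24 ≤ Nat.card T ∧
        T ≤ closure {x | ∃ m ∈ D.M, ∃ y ∈ gen (D.r 0) D.z, x = m * y * m⁻¹} := by
  obtain ⟨X, hX, hY, hP⟩ := A.exists_flag
  exact ⟨D.P4 X, A.S_P4 hX hY hP, A.idx_P4 hX hY hP,
    A.gpp hX hY hP (A.digon hX hY hP (A.XX_PPs hX hY) A.XX_not_le fun x hx n h0 h1 h2 =>
      A.XX_comm' (fun i => by
        fin_cases i
        · exact h0
        · exact h1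
        · exact h2) hx),
    TS.FF.P4_le, A.gen_H hX hY hP, A.gen_M hX hY hP, A.card_S hX hY hP, A.exists_T hX hP⟩

end Cfsg.Agent.Omega.HOneTwo.Trans
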