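import Mathlib

/-!
# The cardinality of a finite `F₂`-group with an alternating form: `|L| = 4 ^ n |rad|`
-/

set_option autoImplicit false

namespace Cfsg.Agent.Omega.HOneTwo.FormPow

theorem z2 (c : ZMod 2) : c = 0 ∨ c = 1 := by
  revert c; decide

variable {L : Type*} [AddCommGroup L] {g : L → L → ZMod 2}

theorem form_step (add : ∀ u v w, g (u + v) w = g u w + g v w) (symm : ∀ v w, g v w = g w v)
    (alt : ∀ v, g v v = 0) (R : AddSubgroup L) (hR : ∀ c ∈ R, ∀ e, g e c = 0) (D : AddSubgroup L)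
    (hD : ∀ d ∈ D, d ∉ R → ∃ d' ∈ D, g d d' = 1) (hRD : R ≤ D) (hne : D ≠ R) :
    ∃ D' : AddSubgroup L, (∀ d ∈ D', d ∉ R → ∃ d' ∈ D', g d d' = 1) ∧ R ≤ D' ∧
      Nat.card D = 4 * Nat.card D' := by
  have addr : ∀ u v w, g w (u + v) = g w u + g w v := fun u v w => by
    rw [symm, add, symm u, symm v]
  have hne' : ∃ d ∈ D, d ∉ R := by
    by_contra hcon
    push Not at hcon
    exact hne (le_antisymm hcon hRD)
  obtain ⟨r, hrD, hrR⟩ := hne'
  obtain ⟨r', hrD', hrr⟩ := hD r hrD hrR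
  have hrr' : g r' r = 1 := by rw [symm]; exact hrr
  let φ : D →+ ZMod 2 × ZMod 2 :=
    { toFun := fun d => (g r d, g r' d)
      map_zero' := by
        have z1 : g r 0 = 0 := by
          have := addr 0 0 r; simp at this; exact this
        have z2 : g r' 0 = 0 := by
          have := addr 0 0 r'; simp at this; exact this
        simp [z1, z2]
      map_add' := by
        intro x y
        simp [addr] }
  have hφ : Function.Surjective φ := by
    have e1 : φ ⟨r, hrD⟩ = (0, 1) := by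
      show (g r r, g r' r) = (0, 1); rw [alt, hrr']
    have e2 : φ ⟨r', hrD'⟩ = (1, 0) := by
      show (g r r', g r' r') = (1, 0); rw [alt, hrr]
    rintro ⟨a, b⟩
    rcases z2 a with rfl | rfl <;> rcases z2 b with rfl | rfl
    · exact ⟨0, map_zero φ⟩
    · exact ⟨_, e1⟩
    · exact ⟨_, e2⟩
    · refine ⟨⟨r, hrD⟩ + ⟨r', hrD'⟩, ?_⟩
      rw [map_add, e1, e2]; rfl
  let D' : AddSubgroup L := φ.ker.map D.subtype
  have memD' : ∀ d, d ∈ D' ↔ d ∈ D ∧ g r d = 0 ∧ g r' d = 0 := by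
    intro d
    constructor
    · rintro ⟨⟨e, he⟩, hk, rfl⟩
      have hk' : φ ⟨e, he⟩ = 0 := hk
      exact ⟨he, congrArg Prod.fst hk', congrArg Prod.snd hk'⟩
    · rintro ⟨hd, h1, h2⟩
      refine ⟨⟨d, hd⟩, ?_, rfl⟩
      show φ ⟨d, hd⟩ = 0
      exact Prod.ext h1 h2
  have cD' : Nat.card D = 4 * Nat.card D' := by
    have c1 : Nat.card D' = Nat.card φ.ker :=
      Nat.card_congr (φ.ker.equivMapOfInjective D.subtype D.subtype_injective).symm.toEquiv
    have c2 : Nat.card D = Nat.card (D ⧸ φ.ker) * Nat.card φ.ker :=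
      AddSubgroup.card_eq_card_quotient_mul_card_addSubgroup φ.ker
    have c3 : Nat.card (D ⧸ φ.ker) = 4 := by
      rw [Nat.card_congr (QuotientAddGroup.quotientKerEquivOfSurjective φ hφ).toEquiv]
      simp
    rw [c2, c3, c1]
  refine ⟨D', ?_, fun c hcR => (memD' c).2 ⟨hRD hcR, hR c hcR r, hR c hcR r'⟩, cD'⟩
  intro d hd hdR
  obtain ⟨hdD, hrd, hrd'⟩ := (memD' d).1 hd
  obtain ⟨e, he, hde⟩ := hD d hdD hdR
  have hdr : g d r = 0 := by rw [symm]; exact hrd
  have hdr' : g d r' = 0 := by rw [symm]; exact hrd'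
  rcases z2 (g r e) with a | a <;> rcases z2 (g r' e) with b | b
  · exact ⟨e, (memD' e).2 ⟨he, a, b⟩, hde⟩
  · refine ⟨e + r, (memD' _).2 ⟨D.add_mem he hrD, ?_, ?_⟩, ?_⟩
    · rw [addr, a, alt, add_zero]
    · rw [addr, b, hrr']; decide
    · rw [addr, hde, hdr, add_zero]
  · refine ⟨e + r', (memD' _).2 ⟨D.add_mem he hrD', ?_, ?_⟩, ?_⟩
    · rw [addr, a, hrr]; decide
    · rw [addr, b, alt, add_zero]
    · rw [addr, hde, hdr', add_zero]
  · refine ⟨e + r + r', (memD' _).2 ⟨D.add_mem (D.add_mem he hrD) hrD', ?_, ?_⟩, ?_⟩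
    · rw [addr, addr, a, alt, hrr]; decide
    · rw [addr, addr, b, alt, hrr']; decide
    · rw [addr, addr, hde, hdr, hdr', add_zero, add_zero]

/-- `|L| = 4 ^ n |rad|` -/
theorem form_pow [Finite L] (add : ∀ u v w, g (u + v) w = g u w + g v w) (symm : ∀ v w, g v w = g w v)
    (alt : ∀ v, g v v = 0) (R : AddSubgroup L) (hR : ∀ c, c ∈ R ↔ ∀ e, g e c = 0) :
    ∃ n, Nat.card L = 4 ^ n * Nat.card R := by
  have key : ∀ k, ∀ D : AddSubgroup L, Nat.card D = k → (∀ d ∈ D, d ∉ R → ∃ d' ∈ D, g d d' = 1) → R ≤ D →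
      ∃ n, Nat.card D = 4 ^ n * Nat.card R := by
    intro k
    induction k using Nat.strong_induction_on with
    | _ k ih =>
      intro D hk hD hRD
      by_cases hne : D = R
      · exact ⟨0, by rw [hne, pow_zero, one_mul]⟩
      · obtain ⟨D', h1, h2, h3⟩ := form_step add symm alt R (fun c hc => (hR c).1 hc) D hD hRD hne
        have h4 : 0 < Nat.card D' := Nat.card_pos
        obtain ⟨n, hn⟩ := ih (Nat.card D') (by omega) D' rfl h1 h2
        exact ⟨n + 1, by rw [h3, hn, pow_succ]; ring⟩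
  obtain ⟨n, hn⟩ := key _ ⊤ rfl (by
    intro d _ hd
    rw [hR] at hd
    push Not at hd
    obtain ⟨e, he⟩ := hd
    exact ⟨e, trivial, by rw [symm]; exact (z2 _).resolve_left he⟩) le_top
  exact ⟨n, by rw [← hn]; simp⟩

end Cfsg.Agent.Omega.HOneTwo.FormPow
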