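import Cfsg.Agent.Omega.HOneTwo.TransMain
import Cfsg.Agent.Omega.HTwo.EightBase

/-!
# II.0h1, `q = 2`, after the transvection statement: `TS` gives `Eight.Res`

* `TS.f`: the alternating bilinear form on `U`, `TS.f_mul_left`, `f_mul_right`, `f_symm`, `f_self`, `f_conj`, `f_rad`;
* `TS.tz p ∈ z^{C(p)}` acting as the transvection;
* `TS.res`.
-/

set_option autoImplicit false
set_option linter.unusedSectionVars false

namespace Cfsg.Agent.Omega.HOneTwo.Trans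

open Subgroup

universe u

variable {G : Type u} [Group G]

namespace TS

variable (D : TS G)

theorem zz_mem {p : G} (hp : p ∈ D.Δ) : p * D.z ∉ D.Δ := fun h =>
  D.z_ne (D.Ms.inj D.Ms_O2 hp h D.Ms.z_U0)

theorem one_Δ : (1 : G) ∉ D.Δ := fun h => D.Ms.one_notin h rfl

theorem z_Δ : D.z ∉ D.Δ := fun h => D.Ms.z_notin h rfl

open Classical in
/-- the form -/
noncomputable def f (u v : G) : ZMod 2 :=
  if u ∈ D.Δ then D.φ u v else if u * D.z ∈ D.Δ then D.φ (u * D.z) v else 0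

theorem f_Δ {p v : G} (hp : p ∈ D.Δ) : D.f p v = D.φ p v := if_pos hp

theorem f_Δz {u v : G} (hu : u * D.z ∈ D.Δ) : D.f u v = D.φ (u * D.z) v := by
  unfold f
  rw [if_neg, if_pos hu]
  intro h
  exact D.zz_mem h hu

theorem f_one (v : G) : D.f 1 v = 0 := by
  unfold f
  rw [if_neg D.one_Δ, if_neg]
  rw [one_mul]; exact D.z_Δ

theorem f_z (v : G) : D.f D.z v = 0 := by
  unfold f
  rw [if_neg D.z_Δ, if_neg]
  rw [D.z_sq]; exact D.one_Δ

/-- `f u w = φ w u` for `w ∈ Δ` -/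
theorem f_eq {u w : G} (hu : u ∈ D.U) (hw : w ∈ D.Δ) : D.f u w = D.φ w u := by
  rcases D.mem_U_iff.1 hu with rfl | rfl | h | h
  · rw [f_one]; exact (D.Ms.φ_one hw).symm
  · rw [f_z]; exact (D.Ms.φ_z hw).symm
  · rw [D.f_Δ h]; exact D.Ms.symm h hw
  · rw [D.f_Δz h]
    have h1 : D.Ms.φ w (u * D.z) = D.Ms.φ w u := by
      rw [D.Ms.φ_mul hw hu D.z_mem, show D.Ms.φ w D.z = 0 from D.Ms.φ_z hw, add_zero]
    exact (D.Ms.symm h hw).trans h1

theorem f_mul_right {u v w : G} (hu : u ∈ D.U) (hv : v ∈ D.U) (hw : w ∈ D.U) :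
    D.f u (v * w) = D.f u v + D.f u w := by
  rcases D.mem_U_iff.1 hu with rfl | rfl | h | h
  · rw [f_one, f_one, f_one, add_zero]
  · rw [f_z, f_z, f_z, add_zero]
  · rw [D.f_Δ h, D.f_Δ h, D.f_Δ h]; exact D.Ms.φ_mul h hv hw
  · rw [D.f_Δz h, D.f_Δz h, D.f_Δz h]; exact D.Ms.φ_mul h hv hw

theorem f_zr {u : G} (hu : u ∈ D.U) : D.f u D.z = 0 := by
  rcases D.mem_U_iff.1 hu with rfl | rfl | h | h
  · exact D.f_one _
  · exact D.f_z _
  · rw [D.f_Δ h]; exact D.Ms.φ_z h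
  · rw [D.f_Δz h]; exact D.Ms.φ_z h

theorem f_oner {u : G} (hu : u ∈ D.U) : D.f u 1 = 0 := by
  rcases D.mem_U_iff.1 hu with rfl | rfl | h | h
  · exact D.f_one _
  · exact D.f_z _
  · rw [D.f_Δ h]; exact D.Ms.φ_one h
  · rw [D.f_Δz h]; exact D.Ms.φ_one h

theorem f_symm {u v : G} (hu : u ∈ D.U) (hv : v ∈ D.U) : D.f u v = D.f v u := by
  rcases D.mem_U_iff.1 hv with rfl | rfl | h | h
  · rw [D.f_oner hu, f_one]
  · rw [D.f_zr hu, f_z]
  · rw [D.f_eq hu h, D.f_Δ h]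
  · have h1 : D.f u v = D.f u (v * D.z) := by
      rw [D.f_mul_right hu hv D.z_mem, D.f_zr hu, add_zero]
    rw [h1, D.f_eq hu h, D.f_Δz h]

theorem f_mul_left {u v w : G} (hu : u ∈ D.U) (hv : v ∈ D.U) (hw : w ∈ D.U) :
    D.f (u * v) w = D.f u w + D.f v w := by
  rw [D.f_symm (Subgroup.mul_mem _ hu hv) hw, D.f_mul_right hw hu hv, D.f_symm hw hu, D.f_symm hw hv]

theorem f_self {u : G} (hu : u ∈ D.U) : D.f u u = 0 := by
  rcases D.mem_U_iff.1 hu with rfl | rfl | h | h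
  · exact D.f_one _
  · exact D.f_z _
  · rw [D.f_Δ h]; exact D.Ms.φ_self h
  · have h1 : D.f u u = D.f u (u * D.z) := by
      rw [D.f_mul_right hu hu D.z_mem, D.f_zr hu, add_zero]
    rw [h1, D.f_Δz h]; exact D.Ms.φ_self h

theorem f_conj {m u v : G} (hm : m ∈ D.M) (hu : u ∈ D.U) (hv : v ∈ D.U) :
    D.f (m * u * m⁻¹) (m * v * m⁻¹) = D.f u v := by
  have hz : m * D.z * m⁻¹ = D.z := D.m_z hm
  rcases D.mem_U_iff.1 hu with rfl | rfl | h | h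
  · have e : m * 1 * m⁻¹ = 1 := by group
    rw [e, f_one, f_one]
  · rw [hz, f_z, f_z]
  · rw [D.f_Δ (Dl_inv hm h), D.f_Δ h]
    exact D.Ms.φ_conj hm h hv
  · have e : m * u * m⁻¹ * D.z = m * (u * D.z) * m⁻¹ := by
      calc m * u * m⁻¹ * D.z = m * u * m⁻¹ * (m * D.z * m⁻¹) := by rw [hz]
        _ = _ := by group
    have h1 : m * u * m⁻¹ * D.z ∈ D.Δ := by rw [e]; exact Dl_inv hm h
    rw [D.f_Δz h1, D.f_Δz h, e]
    exact D.Ms.φ_conj hm h hv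

theorem f_rad {u : G} (hu : u ∈ D.U) (h : ∀ v ∈ D.U, D.f u v = 0) : u = 1 ∨ u = D.z := by
  rw [← D.mem_U0_iff]
  refine ⟨hu, fun p hp => ?_⟩
  rw [← h p (D.Ms.Δ_le hp)]
  exact (D.f_eq hu hp).symm

/-! ### `t p ∈ z^{C(p)}` -/

theorem exists_tz {p : G} (hp : p ∈ D.Δ) : ∃ t, (∃ h, h * p = p * h ∧ t = h * D.z * h⁻¹) ∧
    ∀ u ∈ D.U, t * u * t⁻¹ = u * pw (p * D.z) (D.φ p u) := by
  by_contra hcon
  push Not at hcon
  -- all elements of `z^{C(p)}` centralise `U`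
  have h1 : ∀ n ∈ gen p D.z, ∀ u ∈ D.U, n * u = u * n := by
    intro n hn
    unfold gen at hn
    induction hn using closure_induction with
    | mem x hx =>
      obtain ⟨h, hh, rfl⟩ := hx
      obtain ⟨u, hu, hne⟩ := hcon _ ⟨h, hh, rfl⟩
      have hN : h * D.z * h⁻¹ ∈ D.Ms.N p := subset_closure ⟨h, hh, rfl⟩
      have h2 := (D.Ms.act' hp hN).resolve_right fun h3 => hne (h3 u hu)
      exact fun v hv => comm_of_conj (h2 v hv)
    | one => intro u _; rw [one_mul, mul_one]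
    | mul x y _ _ hx hy => intro u hu; rw [mul_assoc, hy u hu, ← mul_assoc, hx u hu, mul_assoc]
    | inv x _ hx => intro u hu; exact inv_comm (hx u hu)
  obtain ⟨n, hn, u, hu, h2⟩ := D.Ms.exN p hp
  exact h2 (conj_of_comm (h1 n hn u hu))

open Classical in
/-- an element of `z^{C(p)}` acting as the transvection -/
noncomputable def tz (p : G) : G := if hp : p ∈ D.Δ then (D.exists_tz hp).choose else 1

theorem tz_spec {p : G} (hp : p ∈ D.Δ) : (∃ h, h * p = p * h ∧ D.tz p = h * D.z * h⁻¹) ∧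
    ∀ u ∈ D.U, D.tz p * u * (D.tz p)⁻¹ = u * pw (p * D.z) (D.φ p u) := by
  unfold tz
  rw [dif_pos hp]
  exact (D.exists_tz hp).choose_spec

/-! ### `Q p` -/

theorem Q_der' {p : G} (hp : p ∈ D.Δ) {x y : G} (hx : x ∈ D.Q p) (hy : y ∈ D.Q p) :
    x * y = y * x ∨ x * y = p * (y * x) := by
  obtain ⟨m, hm, rfl⟩ := hp
  have e : m⁻¹ * (m * D.r 0 * m⁻¹) * m⁻¹⁻¹ = D.r 0 := by group
  have hx' := D.Q_conj m⁻¹ _ _ hx
  have hy' := D.Q_conj m⁻¹ _ _ hy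
  rw [e, inv_inv] at hx' hy'
  rcases D.Q_der _ hx' _ hy' with h | h
  · left
    calc x * y = m * ((m⁻¹ * x * m) * (m⁻¹ * y * m)) * m⁻¹ := by group
      _ = y * x := by rw [h]; group
  · right
    calc x * y = m * ((m⁻¹ * x * m) * (m⁻¹ * y * m)) * m⁻¹ := by group
      _ = _ := by rw [h]; group

theorem N_sq' {p : G} (hp : p ∈ D.Δ) {n : G} (hn : n ∈ gen p D.z) : n * n = 1 := by
  obtain ⟨m, hm, rfl⟩ := hp
  have e : m⁻¹ * (m * D.r 0 * m⁻¹) * m⁻¹⁻¹ = D.r 0 := by group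
  have h1 := gen_conj m⁻¹ hn
  rw [e, D.m_z' hm, inv_inv] at h1
  have h2 := D.N_sq h1
  calc n * n = m * ((m⁻¹ * n * m) * (m⁻¹ * n * m)) * m⁻¹ := by group
    _ = 1 := by rw [h2]; group

/-- `Q_p` moves `q` to `q p` -/
theorem Q_mv {p q : G} (hp : p ∈ D.Δ) (hq : q ∈ D.Δ) (hne : p ≠ q) (h0 : D.φ p q = 0) :
    ∃ g ∈ D.Q p, g * q * g⁻¹ = q * p := by
  obtain ⟨m, hm, rfl⟩ := hp
  have e : m⁻¹ * (m * D.r 0 * m⁻¹) * m⁻¹⁻¹ = D.r 0 := by group
  have hq' : m⁻¹ * q * m⁻¹⁻¹ ∈ D.Δ := Dl_inv (inv_mem hm) hq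
  have h1 := D.Ms.φ_conj (show m⁻¹ ∈ D.Ms.A from inv_mem hm) ⟨m, hm, rfl⟩ (D.Ms.Δ_le hq)
  rw [e] at h1
  have h2 : m⁻¹ * q * m⁻¹⁻¹ ∈ D.Q (D.r 0) := D.φ_eq_zero_iff.1 (h1.trans h0)
  have h3 : m⁻¹ * q * m⁻¹⁻¹ ∉ zt (D.Q (D.r 0)) := by
    intro h
    apply D.Δ_C hq'
    apply D.mem_C_of_zt hq' h
    intro h'
    apply hne
    rw [← h']; group
  obtain ⟨g, hg, h4⟩ := D.exists_conj h2 h3
  refine ⟨m * g * m⁻¹, D.Q_conj m _ _ hg, ?_⟩
  have hc : q * (m * D.r 0 * m⁻¹) = m * D.r 0 * m⁻¹ * q :=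
    D.U_comm (D.Ms.Δ_le hq) (D.Ms.Δ_le ⟨m, hm, rfl⟩)
  rw [hc]
  calc m * g * m⁻¹ * q * (m * g * m⁻¹)⁻¹ = m * (g * (m⁻¹ * q * m⁻¹⁻¹) * g⁻¹) * m⁻¹ := by group
    _ = m * D.r 0 * m⁻¹ * q := by rw [h4]; group

theorem mem_M_of {p g : G} (hp : p ∈ D.Δ) (hg : g * p = p * g) (hz : g * D.z = D.z * g) : g ∈ D.M := by
  obtain ⟨m, hm, rfl⟩ := hp
  have h1 : m⁻¹ * g * m ∈ D.M := by
    apply D.M_r
    · calc m⁻¹ * g * m * D.r 0 = m⁻¹ * (g * (m * D.r 0 * m⁻¹)) * m := by group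
        _ = D.r 0 * (m⁻¹ * g * m) := by rw [hg]; group
    · have h2 := D.M_z m hm
      have h3 := inv_comm h2
      calc m⁻¹ * g * m * D.z = m⁻¹ * g * (m * D.z) := by group
        _ = m⁻¹ * (g * D.z) * m := by rw [h2]; group
        _ = (m⁻¹ * D.z) * g * m := by rw [hz]; group
        _ = D.z * (m⁻¹ * g * m) := by rw [h3]; group
  have e : g = m * (m⁻¹ * g * m) * m⁻¹ := by group
  rw [e]
  exact Subgroup.mul_mem _ (Subgroup.mul_mem _ hm h1) (inv_mem hm)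

open Cfsg.Agent.Omega.HTwo.Eight in
theorem Np_eq (z p : G) : Np z p = gen p z := by
  unfold gen Delta Np
  have e : {x | ∃ h ∈ Cp p, x = h * z * h⁻¹} = {x | ∃ m, m * p = p * m ∧ x = m * z * m⁻¹} := by
    ext x
    constructor
    · rintro ⟨h, hh, e⟩; exact ⟨h, mem_centralizer_singleton_iff.1 hh, e⟩
    · rintro ⟨h, hh, e⟩; exact ⟨h, mem_centralizer_singleton_iff.2 hh, e⟩
  rw [e]

theorem N_act {p : G} (hp : p ∈ D.Δ) {n : G} (hn : n ∈ gen p D.z) {u : G} (hu : u ∈ D.U) :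
    n * u * n⁻¹ = u ∨ n * u * n⁻¹ = u * (p * D.z) := by
  rcases D.Ms.act' hp hn with h | h
  · exact Or.inl (h u hu)
  · have h1 := h u hu
    rcases zmod_cases (D.Ms.φ p u) with h2 | h2 <;> rw [h2] at h1
    · rw [pw_zero, mul_one] at h1; exact Or.inl h1
    · rw [pw_one] at h1; exact Or.inr h1

open Cfsg.Agent.Omega.HTwo.Eight Cfsg.Agent.Omega.BTwo in
/-- **`TS` gives `Res`** -/
theorem res (hQ : ∀ p, D.Q p = Qp p) (hUO : ∀ o ∈ O2 D.M, ∀ u ∈ D.U, o * u = u * o) (hUle : D.U ≤ O2 D.M) :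
    Res D.z D.M D.U D.Δ D.f D.tz where
  zz := D.z_sq
  z1 := D.z_ne
  M_z := fun m hm => mem_centralizer_singleton_iff.2 (D.M_z m hm)
  M_p := by
    rintro p hp g ⟨h1, h2⟩
    exact D.mem_M_of hp (mem_centralizer_singleton_iff.1 h1) (mem_centralizer_singleton_iff.1 h2)
  U_comm := fun u hu v hv => D.U_comm hu hv
  U_sq := D.U_sq
  U_M := fun m hm u hu => gn_inv hm hu
  U_O := hUO
  U_le := hUle
  z_U := D.z_mem
  Δ_U := fun p hp => D.Ms.Δ_le hp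
  Δ_M := fun m hm p hp => Dl_inv hm hp
  Δ_tr := by
    rintro p ⟨m, hm, rfl⟩ q ⟨m', hm', rfl⟩
    exact ⟨m' * m⁻¹, Subgroup.mul_mem _ hm' (inv_mem hm), by group⟩
  Δ_1 := D.one_Δ
  Δ_z := D.z_Δ
  cover := fun u hu => D.mem_U_iff.1 hu
  inj := fun p hp => D.zz_mem hp
  f_add := fun u hu v hv w hw => D.f_mul_left hu hv hw
  f_symm := fun u hu v hv => D.f_symm hu hv
  f_self := fun u hu => D.f_self hu
  f_M := fun m hm u hu v hv => D.f_conj hm hu hv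
  f_rad := fun u hu h => D.f_rad hu h
  f_z := fun u _ => D.f_z u
  mul0 := fun p hp q hq hne h => D.mul_mem hp hq hne (by rw [← D.f_Δ hp]; exact h)
  mul1 := fun p hp q hq h => D.mul_z_mem hp hq (by rw [← D.f_Δ hp]; exact h)
  t_ZZ := by
    intro p hp
    obtain ⟨h, hh, e⟩ := (D.tz_spec hp).1
    exact ⟨h, mem_centralizer_singleton_iff.2 hh, e⟩
  t_0 := by
    intro p hp u hu h
    have h1 := (D.tz_spec hp).2 u hu
    rw [← D.f_Δ hp, h, pw_zero, mul_one] at h1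
    exact comm_of_conj h1
  t_1 := by
    intro p hp u hu h
    have h1 := (D.tz_spec hp).2 u hu
    rwa [← D.f_Δ hp, h, pw_one] at h1
  Q_comm := by
    intro p hp x hx y hy
    rw [← hQ p] at hx hy
    exact D.Q_der' hp hx hy
  N_Z := by
    intro p hp n hn
    rw [Np_eq] at hn
    have h2 := D.N_le_zt' hp hn
    rw [hQ p] at h2
    exact h2
  N_sq := by
    intro p hp n hn
    rw [Np_eq] at hn
    exact D.N_sq' hp hn
  N_act := by
    intro p hp n hn u hu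
    rw [Np_eq] at hn
    exact D.N_act hp hn hu
  Q_f := by
    intro p hp u hu
    rw [← hQ p, D.f_Δ hp, D.φ_eq_zero_iff]
  Q_mv := by
    intro p hp q hq hne h
    rw [← hQ p]
    exact D.Q_mv hp hq hne (by rw [← D.f_Δ hp]; exact h)

end TS

end Cfsg.Agent.Omega.HOneTwo.Trans
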