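import Cfsg.Agent.Omega.HOneTwo.OpInst

/-!
# II.0h1, `q = 2`, F4-type: (19), (20) of #16429 on `OpD`

* `OpSys.hyp` : hyperbolic pairs by descent;
* `OpD.O_eq` : (20): `O₂(M) = Γ` if `|U| = 2 · 4³`;
* `OpD.card_Γ` : `|Γ| = |S| |U|`, `|S| = |Σ_q|²`;
* `OpD.dead` : (19): `Γ` is abelian if `|U| = 2 · 4²`, `|Σ_q| = 4`.
-/

set_option autoImplicit false
set_option linter.unusedSectionVars false
set_option linter.dupNamespace false

namespace Cfsg.Agent.Omega.HOneTwo.OpSys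

namespace OpSys

variable {E S : Type*} [AddCommGroup E] [AddCommGroup S] {f : E → E → ZMod 2} {T : E → S →+ S}

/-- one step of the descent -/
theorem hyp [Finite E] (h : OpSys f T) (R : AddSubgroup E) (hR : ∀ c ∈ R, ∀ e, f e c = 0) (n : ℕ)
    (D : AddSubgroup E) (hD : ∀ d ∈ D, d ∉ R → ∃ d' ∈ D, f d d' = 1) (hRD : R ≤ D)
    (hc : Nat.card D = 4 ^ (n + 1) * Nat.card R) :
    ∃ r ∈ D, ∃ r' ∈ D, f r r' = 1 ∧ ∃ D' : AddSubgroup E, D' ≤ D ∧ (∀ d ∈ D', f r d = 0 ∧ f r' d = 0) ∧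
      (∀ d ∈ D', d ∉ R → ∃ d' ∈ D', f d d' = 1) ∧ R ≤ D' ∧ Nat.card D' = 4 ^ n * Nat.card R := by
  have hne : ∃ d ∈ D, d ∉ R := by
    by_contra hcon
    push Not at hcon
    have : D = R := le_antisymm hcon hRD
    rw [this] at hc
    have h0 : 0 < Nat.card R := Nat.card_pos
    have h4 : 4 ≤ 4 ^ (n + 1) := by
      calc 4 = 4 ^ 1 := by norm_num
        _ ≤ 4 ^ (n + 1) := Nat.pow_le_pow_right (by norm_num) (by omega)
    nlinarith
  obtain ⟨r, hrD, hrR⟩ := hne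
  obtain ⟨r', hrD', hrr⟩ := hD r hrD hrR
  have hrr' : f r' r = 1 := by rw [h.symm]; exact hrr
  let φ : D →+ ZMod 2 × ZMod 2 :=
    { toFun := fun d => (f r d, f r' d)
      map_zero' := by
        have z1 : f r 0 = 0 := by
          have := h.addr 0 0 r; simp at this; exact this
        have z2 : f r' 0 = 0 := by
          have := h.addr 0 0 r'; simp at this; exact this
        simp [z1, z2]
      map_add' := by
        intro x y
        simp [h.addr] }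
  have hφ : Function.Surjective φ := by
    have e1 : φ ⟨r, hrD⟩ = (0, 1) := by
      show (f r r, f r' r) = (0, 1); rw [h.alt, hrr']
    have e2 : φ ⟨r', hrD'⟩ = (1, 0) := by
      show (f r r', f r' r') = (1, 0); rw [h.alt, hrr]
    rintro ⟨a, b⟩
    rcases z2 a with rfl | rfl <;> rcases z2 b with rfl | rfl
    · exact ⟨0, map_zero φ⟩
    · exact ⟨_, e1⟩
    · exact ⟨_, e2⟩
    · refine ⟨⟨r, hrD⟩ + ⟨r', hrD'⟩, ?_⟩
      rw [map_add, e1, e2]; rfl
  let D' : AddSubgroup E := φ.ker.map D.subtype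
  have memD' : ∀ d, d ∈ D' ↔ d ∈ D ∧ f r d = 0 ∧ f r' d = 0 := by
    intro d
    constructor
    · rintro ⟨⟨e, he⟩, hk, rfl⟩
      have hk' : φ ⟨e, he⟩ = 0 := hk
      exact ⟨he, congrArg Prod.fst hk', congrArg Prod.snd hk'⟩
    · rintro ⟨hd, h1, h2⟩
      refine ⟨⟨d, hd⟩, ?_, rfl⟩
      show φ ⟨d, hd⟩ = 0
      exact Prod.ext h1 h2
  have cD' : Nat.card D' = 4 ^ n * Nat.card R := by
    have c1 : Nat.card D' = Nat.card φ.ker :=
      Nat.card_congr (φ.ker.equivMapOfInjective D.subtype D.subtype_injective).symm.toEquiv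
    have c2 : Nat.card D = Nat.card (D ⧸ φ.ker) * Nat.card φ.ker :=
      AddSubgroup.card_eq_card_quotient_mul_card_addSubgroup φ.ker
    have c3 : Nat.card (D ⧸ φ.ker) = 4 := by
      rw [Nat.card_congr (QuotientAddGroup.quotientKerEquivOfSurjective φ hφ).toEquiv]
      simp
    rw [c3, hc, pow_succ] at c2
    rw [c1]
    have : 4 * Nat.card φ.ker = 4 * (4 ^ n * Nat.card R) := by rw [← c2]; ring
    exact Nat.eq_of_mul_eq_mul_left (by norm_num) this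
  refine ⟨r, hrD, r', hrD', hrr, D', fun d hd => ((memD' d).1 hd).1, fun d hd => ((memD' d).1 hd).2, ?_,
    fun c hcR => (memD' c).2 ⟨hRD hcR, hR c hcR r, hR c hcR r'⟩, cD'⟩
  intro d hd hdR
  obtain ⟨hdD, hrd, hrd'⟩ := (memD' d).1 hd
  obtain ⟨e, he, hde⟩ := hD d hdD hdR
  have hdr : f d r = 0 := by rw [h.symm]; exact hrd
  have hdr' : f d r' = 0 := by rw [h.symm]; exact hrd'
  rcases z2 (f r e) with a | a <;> rcases z2 (f r' e) with b | b
  · exact ⟨e, (memD' e).2 ⟨he, a, b⟩, hde⟩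
  · refine ⟨e + r, (memD' _).2 ⟨D.add_mem he hrD, ?_, ?_⟩, ?_⟩
    · rw [h.addr, a, h.alt, add_zero]
    · rw [h.addr, b, hrr']; decide
    · rw [h.addr, hde, hdr, add_zero]
  · refine ⟨e + r', (memD' _).2 ⟨D.add_mem he hrD', ?_, ?_⟩, ?_⟩
    · rw [h.addr, a, hrr]; decide
    · rw [h.addr, b, h.alt, add_zero]
    · rw [h.addr, hde, hdr', add_zero]
  · refine ⟨e + r + r', (memD' _).2 ⟨D.add_mem (D.add_mem he hrD) hrD', ?_, ?_⟩, ?_⟩
    · rw [h.addr, h.addr, a, h.alt, hrr]; decide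
    · rw [h.addr, h.addr, b, h.alt, hrr']; decide
    · rw [h.addr, h.addr, hde, hdr, hdr', add_zero, add_zero]

theorem top_props (h : OpSys f T) (R : AddSubgroup E) (hR : ∀ c, c ∈ R ↔ ∀ e, f e c = 0) :
    ∀ d ∈ (⊤ : AddSubgroup E), d ∉ R → ∃ d' ∈ (⊤ : AddSubgroup E), f d d' = 1 := by
  intro d _ hd
  rw [hR] at hd
  push Not at hd
  obtain ⟨e, he⟩ := hd
  exact ⟨e, trivial, by rw [h.symm]; exact (z2 _).resolve_left he⟩

/-- rank 4: two orthogonal hyperbolic pairs -/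
theorem hyp_two [Finite E] (h : OpSys f T) (R : AddSubgroup E) (hR : ∀ c, c ∈ R ↔ ∀ e, f e c = 0) {n : ℕ}
    (hc : Nat.card E = 4 ^ (n + 2) * Nat.card R) : ∃ p q r r', f p q = 1 ∧ f p r = 0 ∧ f q r = 0 ∧ f p r' = 0 ∧
      f q r' = 0 ∧ f r r' = 1 := by
  obtain ⟨p, -, q, -, hpq, D1, -, h1, h2, h3, h4⟩ := h.hyp R (fun c hc => (hR c).1 hc) (n + 1) ⊤
    (h.top_props R hR) le_top (by rw [← hc]; simp)
  obtain ⟨r, hr, r', hr', hrr, -⟩ := h.hyp R (fun c hc => (hR c).1 hc) n D1 h2 h3 h4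
  exact ⟨p, q, r, r', hpq, (h1 r hr).1, (h1 r hr).2, (h1 r' hr').1, (h1 r' hr').2, hrr⟩

/-- rank ≥ 6: `Three` -/
theorem hyp_three [Finite E] (h : OpSys f T) (R : AddSubgroup E) (hR : ∀ c, c ∈ R ↔ ∀ e, f e c = 0) {n : ℕ}
    (hc : Nat.card E = 4 ^ (n + 3) * Nat.card R) : ∃ p q, f p q = 1 ∧ Three f p q := by
  obtain ⟨p, -, q, -, hpq, D1, -, h1, h2, h3, h4⟩ := h.hyp R (fun c hc => (hR c).1 hc) (n + 2) ⊤
    (h.top_props R hR) le_top (by rw [← hc]; simp)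
  obtain ⟨a, ha, a', ha', haa, D2, hD2, k1, k2, k3, k4⟩ := h.hyp R (fun c hc => (hR c).1 hc) (n + 1) D1 h2 h3 h4
  obtain ⟨b, hb, b', hb', hbb, -⟩ := h.hyp R (fun c hc => (hR c).1 hc) n D2 k2 k3 k4
  exact ⟨p, q, hpq, h.three_of (h1 a ha).1 (h1 a ha).2 (h1 a' ha').1 (h1 a' ha').2 (h1 b (hD2 hb)).1
    (h1 b (hD2 hb)).2 (h1 b' (hD2 hb')).1 (h1 b' (hD2 hb')).2 haa hbb (k1 b hb).1 (k1 b' hb').1 (k1 b hb).2
    (k1 b' hb').2⟩

end OpSys

end Cfsg.Agent.Omega.HOneTwo.OpSys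

namespace Cfsg.Agent.Omega.HOneTwo.OpInst

open Subgroup Cfsg.Agent.Omega.BTwo Cfsg.Agent.Omega.HTwo.Eight Cfsg.Agent.Omega.HOneTwo.OpSys

universe u

variable {G : Type u} [Group G]

namespace OpD

variable (D : OpD G) [Finite G]

/-! ### the cocycle of `o ∈ O₂(M)` -/

/-- `[o, m]` in `S` -/
noncomputable def cc (o m : G) : D.S := D.cl (o * m * o⁻¹ * m⁻¹)

theorem cc_mul {o m n : G} (hm : m ∈ D.M) (h1 : o * m * o⁻¹ * m⁻¹ ∈ D.Γ)
    (h2 : o * n * o⁻¹ * n⁻¹ ∈ D.Γ) : D.cc o (m * n) = D.cc o m + D.act m (D.cc o n) := by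
  unfold cc
  rw [D.act_cl hm h2, ← D.cl_mul h1 (D.Γ_conj hm h2)]
  congr 1
  group

theorem cc_mem {o m n : G} (hm : m ∈ D.M) (h1 : o * m * o⁻¹ * m⁻¹ ∈ D.Γ)
    (h2 : o * n * o⁻¹ * n⁻¹ ∈ D.Γ) : o * (m * n) * o⁻¹ * (m * n)⁻¹ ∈ D.Γ := by
  have e : o * (m * n) * o⁻¹ * (m * n)⁻¹ = (o * m * o⁻¹ * m⁻¹) * (m * (o * n * o⁻¹ * n⁻¹) * m⁻¹) := by group
  rw [e]
  exact mul_mem h1 (D.Γ_conj hm h2)

theorem oc_mem {o k : G} (ho : o ∈ O2 D.M) (hk : k ∈ D.Γ) : o * k * o⁻¹ * k⁻¹ ∈ D.U := by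
  rcases D.OG o ho k hk with h | h
  · have e : o * k * o⁻¹ * k⁻¹ = 1 := by rw [h]; group
    rw [e]; exact one_mem _
  · have e : o * k * o⁻¹ * k⁻¹ = D.z := by rw [h]; group
    rw [e]; exact D.res.z_U

theorem cc_Γ {o k : G} (ho : o ∈ O2 D.M) (hk : k ∈ D.Γ) : D.cc o k = 0 := by
  unfold cc
  have h1 := D.oc_mem ho hk
  rw [D.cl_eq_zero (D.U_Γ h1)]
  exact h1

/-- `[o, t_p]` -/
theorem cct_mem {o p : G} (ho : o ∈ O2 D.M) (hp : p ∈ D.Δ) : o * D.t p * o⁻¹ * (D.t p)⁻¹ ∈ D.Γ :=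
  D.NU_Γ hp (D.br_NU hp ho)

theorem act_Γ {k : G} (hk : k ∈ D.Γ) (s : D.S) : D.act k s = s := D.act_O (D.Γ_O hk) s

theorem T₀_cct {o p : G} (ho : o ∈ O2 D.M) (hp : p ∈ D.Δ) : D.T₀ p (D.cc o (D.t p)) = 0 :=
  D.T₀_zero hp (D.br_NU hp ho)

theorem cct_comm {o p q : G} (ho : o ∈ O2 D.M) (hp : p ∈ D.Δ) (hq : q ∈ D.Δ) (h0 : D.f p q = 0) :
    D.T₀ p (D.cc o (D.t q)) = D.T₀ q (D.cc o (D.t p)) := by
  have h1 := D.res.t_M hp
  have h2 := D.res.t_M hq
  have hc : D.t p ∈ Cp q := mem_Cp.2 (D.res.t_0 p hp q (D.res.Δ_U q hq) h0)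
  have h3 := N_normal hc (D.res.t_N hq)
  have h4 := D.NU_of_mv hq h3 (D.res.conj_mv h1 (D.res.t_mv hq))
  obtain ⟨k, hk⟩ : ∃ k, k = (D.t q)⁻¹ * (D.t p * D.t q * (D.t p)⁻¹) := ⟨_, rfl⟩
  rw [← hk] at h4
  have hkG := D.NU_Γ hq h4
  have e : D.t p * D.t q = D.t q * (k * D.t p) := by rw [hk]; group
  have m1 := D.cct_mem ho hp
  have m2 := D.cct_mem ho hq
  have mk : o * k * o⁻¹ * k⁻¹ ∈ D.Γ := D.U_Γ (D.oc_mem ho hkG)
  have e1 := D.cc_mul h1 m1 m2
  have e2 := D.cc_mul h2 m2 (D.cc_mem (D.Γ_M hkG) mk m1)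
  rw [D.cc_mul (D.Γ_M hkG) mk m1, D.cc_Γ ho hkG, D.act_Γ hkG, zero_add] at e2
  rw [e, e2, D.act_eq p, D.act_eq q] at e1
  have e3 : D.cc o (D.t p) + D.cc o (D.t q) + D.T₀ q (D.cc o (D.t p)) =
      D.cc o (D.t p) + D.cc o (D.t q) + D.T₀ p (D.cc o (D.t q)) := by
    calc D.cc o (D.t p) + D.cc o (D.t q) + D.T₀ q (D.cc o (D.t p)) =
        D.cc o (D.t q) + (D.cc o (D.t p) + D.T₀ q (D.cc o (D.t p))) := by abel
      _ = _ := by rw [e1]; abel
  exact (add_left_cancel e3).symm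

theorem cct_conj {o p q : G} (ho : o ∈ O2 D.M) (hp : p ∈ D.Δ) (hq : q ∈ D.Δ) (h1 : D.f p q = 1) :
    D.cc o (D.t (p * q * D.z)) = D.cc o (D.t q) + D.T₀ q (D.cc o (D.t p)) + D.T₀ p (D.cc o (D.t q)) +
      D.T₀ p (D.T₀ q (D.cc o (D.t p))) := by
  have h2 := D.res.t_M hp
  have h3 := D.res.t_M hq
  have hpq := D.res.mul1 p hp q hq h1
  have h4 := D.NU_of_mv hpq (D.res.tt_N hp hq h1) (D.res.conj_mv h2 (D.res.t_mv hq))
  obtain ⟨k, hk⟩ : ∃ k, k = (D.t (p * q * D.z))⁻¹ * (D.t p * D.t q * (D.t p)⁻¹) := ⟨_, rfl⟩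
  rw [← hk] at h4
  have hkG := D.NU_Γ hpq h4
  have e : D.t (p * q * D.z) * k = D.t p * (D.t q * D.t p) := by
    rw [hk, D.res.t_inv hp]; group
  have m1 := D.cct_mem ho hp
  have m2 := D.cct_mem ho hq
  have m3 := D.cct_mem ho hpq
  have mk : o * k * o⁻¹ * k⁻¹ ∈ D.Γ := D.U_Γ (D.oc_mem ho hkG)
  have e1 := D.cc_mul (D.res.t_M hpq) m3 mk
  rw [D.cc_Γ ho hkG, map_zero, add_zero, e, D.cc_mul h2 m1 (D.cc_mem h3 m2 m1), D.cc_mul h3 m2 m1] at e1
  rw [← e1, D.act_eq q, D.act_eq p]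
  simp only [map_add]
  rw [D.T₀_cct ho hp]
  have e3 : ∀ a b c d g : D.S, a + (b + (a + c) + (d + (0 + g))) = b + c + d + g := by
    intro a b c d g
    calc a + (b + (a + c) + (d + (0 + g))) = (a + a) + (b + c + d + g) := by abel
      _ = _ := by rw [D.twoS, zero_add]
  exact e3 _ _ _ _ _

open Classical in
/-- the family of `o` -/
noncomputable def ta (o u : G) : D.S :=
  if u ∈ D.Δ then D.cc o (D.t u) else if u * D.z ∈ D.Δ then D.cc o (D.t (u * D.z)) else 0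

theorem ta_Δ (o : G) {p : G} (hp : p ∈ D.Δ) : D.ta o p = D.cc o (D.t p) := if_pos hp

theorem ta_pz (o : G) {p : G} (hp : p ∈ D.Δ) : D.ta o (p * D.z) = D.cc o (D.t p) := by
  have e : p * D.z * D.z = p := by rw [mul_assoc, D.res.zz, mul_one]
  rw [ta, if_neg (D.res.inj p hp), e, if_pos hp]

theorem ta_one (o : G) : D.ta o 1 = 0 := by
  rw [ta, if_neg D.res.Δ_1, one_mul, if_neg D.res.Δ_z]

theorem ta_z (o : G) : D.ta o D.z = 0 := by
  rw [ta, if_neg D.res.Δ_z, D.res.zz, if_neg D.res.Δ_1]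

theorem ta_mulz (o : G) {u : G} (hu : u ∈ D.U) : D.ta o (u * D.z) = D.ta o u := by
  rcases D.res.cover u hu with rfl | rfl | h | h
  · rw [one_mul, ta_z, ta_one]
  · rw [D.res.zz, ta_z, ta_one]
  · rw [D.ta_pz o h, D.ta_Δ o h]
  · have e : u * D.z * D.z = u := by rw [mul_assoc, D.res.zz, mul_one]
    rw [D.ta_Δ o h]
    have := D.ta_pz o h
    rw [e] at this
    exact this.symm

/-- the cases, with `ta` -/
theorem cases' (o : G) {u : G} (hu : u ∈ D.U) :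
    ((u = 1 ∨ u = D.z) ∧ D.TT u = 0 ∧ (∀ w ∈ D.U, D.f u w = 0) ∧ D.ta o u = 0) ∨
    ∃ p ∈ D.Δ, (u = p ∨ u = p * D.z) ∧ D.TT u = D.T₀ p ∧ (∀ w ∈ D.U, D.f u w = D.f p w) ∧
      D.ta o u = D.cc o (D.t p) := by
  rcases D.cases hu with ⟨h1, h2, h3⟩ | ⟨p, hp, h1, h2, h3⟩
  · refine Or.inl ⟨h1, h2, h3, ?_⟩
    rcases h1 with rfl | rfl
    · exact D.ta_one o
    · exact D.ta_z o
  · refine Or.inr ⟨p, hp, h1, h2, h3, ?_⟩
    rcases h1 with rfl | rfl
    · exact D.ta_Δ o hp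
    · exact D.ta_pz o hp

theorem ta_mul (o : G) {u v p q : G} (hu : u = p ∨ u = p * D.z) (hv : v = q ∨ v = q * D.z) (hp : p ∈ D.Δ)
    (hq : q ∈ D.Δ) : D.ta o (u * v) = D.ta o (p * q) := by
  have hpU := D.res.Δ_U p hp
  have hqU := D.res.Δ_U q hq
  have hz := D.res.z_U
  rcases hu with rfl | rfl <;> rcases hv with rfl | rfl
  · rfl
  · rw [← mul_assoc, D.ta_mulz o (mul_mem hpU hqU)]
  · rw [mul_assoc, D.res.U_comm _ hz _ hqU, ← mul_assoc, D.ta_mulz o (mul_mem hpU hqU)]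
  · have e : p * D.z * (q * D.z) = p * q := by
      calc p * D.z * (q * D.z) = p * (D.z * q) * D.z := by group
        _ = p * q * (D.z * D.z) := by rw [D.res.U_comm _ hz _ hqU]; group
        _ = p * q := by rw [D.res.zz, mul_one]
    rw [e]

/-- the family is a cocycle -/
theorem coc {o : G} (ho : o ∈ O2 D.M) : OpSys.Coc D.F D.T (fun v => D.ta o (el v)) where
  mem := by
    intro v
    show D.ta o (el v) ∈ (D.TT (el v)).range
    rcases D.cases' o (el_mem v) with ⟨-, -, -, h⟩ | ⟨p, hp, h1, h2, h3, h4⟩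
    · rw [h]; exact AddSubgroup.zero_mem _
    · rw [h4, h2]
      have := (D.mem_range hp (D.cc o (D.t p))).2 ⟨_, D.br_NU hp ho, rfl⟩
      have e : (D.T (ve (D.res.Δ_U p hp))).range = (D.T₀ p).range := by
        show (D.TT p).range = _
        rw [D.TT_Δ hp]
      rwa [e] at this
  comm := by
    intro v w hvw
    show D.TT (el v) (D.ta o (el w)) = D.TT (el w) (D.ta o (el v))
    rcases D.cases' o (el_mem v) with ⟨-, h, -, h'⟩ | ⟨p, hp, h1, h2, h3, h4⟩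
    · rw [h, h', map_zero]; rfl
    · rcases D.cases' o (el_mem w) with ⟨-, h, -, h'⟩ | ⟨q, hq, k1, k2, k3, k4⟩
      · rw [h, h', map_zero]; rfl
      · rw [h2, k2, h4, k4]
        refine D.cct_comm ho hp hq ?_
        have h7 : D.f (el v) (el w) = 0 := hvw
        rwa [h3 _ (el_mem w), D.f_right (el_mem w) (D.res.Δ_U p hp) hq k3] at h7
  conj := by
    intro v w hvw
    show D.ta o (el v * el w) = D.ta o (el w) + D.TT (el w) (D.ta o (el v)) + D.TT (el v) (D.ta o (el w)) +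
      D.TT (el v) (D.TT (el w) (D.ta o (el v)))
    have h7 : D.f (el v) (el w) = 1 := hvw
    rcases D.cases' o (el_mem v) with ⟨-, -, h, -⟩ | ⟨p, hp, h1, h2, h3, h4⟩
    · exfalso
      rw [h _ (el_mem w)] at h7
      exact zero_ne_one h7
    · rcases D.cases' o (el_mem w) with ⟨-, -, h, -⟩ | ⟨q, hq, k1, k2, k3, k4⟩
      · exfalso
        rw [D.res.f_symm _ (el_mem v) _ (el_mem w), h _ (el_mem v)] at h7
        exact zero_ne_one h7
      · rw [h3 _ (el_mem w), D.f_right (el_mem w) (D.res.Δ_U p hp) hq k3] at h7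
        have hpq := mul_mem (D.res.Δ_U p hp) (D.res.Δ_U q hq)
        rw [D.ta_mul o h1 k1 hp hq, ← D.ta_mulz o hpq, D.ta_Δ o (D.res.mul1 p hp q hq h7), h2, k2, h4, k4]
        exact D.cct_conj ho hp hq h7

/-! ### the radical and the cardinalities -/

/-- `⟨z⟩` in `E` -/
def R (D : OpD G) : AddSubgroup D.E where
  carrier := {v | el v = 1 ∨ el v = D.z}
  zero_mem' := Or.inl el_zero
  add_mem' := by
    rintro v w hv hw
    show el v * el w = 1 ∨ el v * el w = D.z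
    rcases hv with hv | hv <;> rcases hw with hw | hw <;> rw [hv, hw]
    · exact Or.inl (mul_one 1)
    · exact Or.inr (one_mul _)
    · exact Or.inr (mul_one _)
    · exact Or.inl D.res.zz
  neg_mem' := by
    rintro v hv
    have e : el (-v) = (el v)⁻¹ := rfl
    show el (-v) = 1 ∨ el (-v) = D.z
    rw [e]
    rcases hv with hv | hv <;> rw [hv]
    · exact Or.inl inv_one
    · exact Or.inr D.z_inv

omit [Finite G] in
theorem mem_R {c : D.E} : c ∈ D.R ↔ ∀ e, D.F e c = 0 := by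
  constructor
  · rintro (h | h) e
    · show D.f (el e) (el c) = 0
      rw [h]; exact D.res.f_one (el_mem e)
    · show D.f (el e) (el c) = 0
      rw [h]; exact D.res.f_z' (el_mem e)
  · intro h
    refine D.res.f_rad _ (el_mem c) fun v hv => ?_
    rw [D.res.f_symm _ (el_mem c) v hv]
    exact h (ve hv)

omit [Finite G] in
theorem card_R : Nat.card D.R = 2 := by
  have e : (D.R : Set D.E) = {(0 : D.E), ve D.res.z_U} := by
    ext v
    constructor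
    · rintro (h | h)
      · exact Or.inl (el_inj h)
      · exact Or.inr (el_inj h)
    · rintro (h | h)
      · rw [h]; exact Or.inl rfl
      · rw [Set.mem_singleton_iff] at h; rw [h]; exact Or.inr rfl
  have h1 : Nat.card D.R = (D.R : Set D.E).ncard := rfl
  rw [h1, e, Set.ncard_pair]
  intro h
  have h2 : (1 : G) = D.z := congrArg el h
  exact D.res.z1 h2.symm

instance : Finite D.E := inferInstanceAs (Finite (Additive D.U))

instance : Finite D.S := inferInstanceAs (Finite (Additive D.SM))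

omit [Finite G] in
theorem card_E : Nat.card D.E = Nat.card D.U := rfl

omit [Finite G] in
theorem card_Γ : Nat.card D.Γ = Nat.card D.S * Nat.card D.U := by
  have h1 := card_eq_card_quotient_mul_card_subgroup (D.U.subgroupOf D.Γ)
  rw [h1]
  congr 1
  exact Nat.card_congr (subgroupOfEquivOfLe D.U_Γ).toEquiv

/-- **(20)** `O₂(M) = Γ` -/
theorem O_eq {n : ℕ} (hU : Nat.card D.U = 2 * 4 ^ (n + 3)) : O2 D.M = D.Γ := by
  apply le_antisymm _ D.Γ_O
  intro o ho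
  obtain ⟨p, q, hpq, hm⟩ := D.ops.hyp_three D.R (fun c => D.mem_R) (n := n)
    (by rw [card_R, card_E, hU]; ring)
  obtain ⟨y, hy⟩ := D.ops.coc (D.coc ho) hpq hm
  obtain ⟨x, hx, rfl⟩ := D.cl_surj y
  have hxO : x⁻¹ * o ∈ O2 D.M := mul_mem (inv_mem (D.Γ_O hx)) ho
  have key : x⁻¹ * o ∈ D.U := by
    refine D.C14' hxO fun p hp => ?_
    have h1 : D.ta o p = D.TT p (D.cl x) := hy (ve (D.res.Δ_U p hp))
    rw [D.ta_Δ o hp, D.TT_Δ hp, T₀_eq] at h1
    have htM := D.res.t_M hp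
    have m1 := D.cct_mem ho hp
    have m2 := D.Γ_conj htM hx
    rw [D.act_cl htM hx] at h1
    rw [← D.cl_eq_zero (D.cct_mem hxO hp)]
    have e : x⁻¹ * o * D.t p * (x⁻¹ * o)⁻¹ * (D.t p)⁻¹ =
        x⁻¹ * (o * D.t p * o⁻¹ * (D.t p)⁻¹) * (D.t p * x * (D.t p)⁻¹) := by group
    have h2 : D.cl (o * D.t p * o⁻¹ * (D.t p)⁻¹) = D.cl x + D.cl (D.t p * x * (D.t p)⁻¹) := h1
    rw [e, D.cl_mul (mul_mem (inv_mem hx) m1) m2, D.cl_mul (inv_mem hx) m1, D.cl_inv hx, h2]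
    have e2 : ∀ a b : D.S, a + (a + b) + b = 0 := by
      intro a b
      calc a + (a + b) + b = (a + a) + (b + b) := by abel
        _ = 0 := by rw [D.twoS, D.twoS, add_zero]
    exact e2 _ _
  have h3 := mul_mem hx (D.U_Γ key)
  rwa [mul_inv_cancel_left] at h3

/-- `|O₂(M)| = |U| |Σ_r|²` -/
theorem card_O {n : ℕ} (hU : Nat.card D.U = 2 * 4 ^ (n + 3)) :
    Nat.card (O2 D.M) = Nat.card (D.T (ve (D.res.Δ_U _ D.r_Δ))).range ^ 2 * Nat.card D.U := by
  obtain ⟨q, hq, h1⟩ := D.res.exists_q1 D.r_Δ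
  have h2 : D.F (ve (D.res.Δ_U q hq)) (ve (D.res.Δ_U _ D.r_Δ)) = 1 := by
    show D.f q D.r = 1
    rw [D.res.f_symm q (D.res.Δ_U q hq) _ (D.res.Δ_U _ D.r_Δ)]; exact h1
  rw [D.O_eq hU, D.card_Γ, D.ops.card_S D.gen h2]

/-! ### (19) -/

open Classical in
/-- `κ(x) = 1` iff `x² ≠ 1` -/
noncomputable def kap (x : G) : ZMod 2 := if x * x = 1 then 0 else 1

open Classical in
/-- `B(x, y) = 1` iff `[x, y] ≠ 1` -/
noncomputable def bb (x y : G) : ZMod 2 := if x * y = y * x then 0 else 1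

omit [Finite G] in
theorem bb_congr {x y x' y' : G} (h : x * y = y * x ↔ x' * y' = y' * x') : bb x y = bb x' y' := by
  unfold bb
  by_cases h1 : x * y = y * x
  · rw [if_pos h1, if_pos (h.1 h1)]
  · rw [if_neg h1, if_neg fun h2 => h1 (h.2 h2)]

omit [Finite G] in
theorem kap_U {x u : G} (hx : x ∈ D.Γ) (hu : u ∈ D.U) : kap (x * u) = kap x := by
  have h1 := D.Γ_cen hx hu
  have e : x * u * (x * u) = x * x := by
    calc x * u * (x * u) = x * (u * x) * u := by group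
      _ = x * x * (u * u) := by rw [← h1]; group
      _ = x * x := by rw [D.res.U_sq u hu, mul_one]
  unfold kap
  rw [e]

omit [Finite G] in
theorem bb_U {x y u : G} (hy : y ∈ D.Γ) (hu : u ∈ D.U) : bb (x * u) y = bb x y := by
  have h1 := D.Γ_cen hy hu
  have e : x * u * y = y * (x * u) ↔ x * y = y * x := by
    constructor
    · intro h
      have h2 : x * y * u = y * x * u := by
        calc x * y * u = x * (y * u) := by group
          _ = x * u * y := by rw [h1]; group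
          _ = y * x * u := by rw [h]; group
      exact mul_right_cancel h2
    · intro h
      calc x * u * y = x * (u * y) := by group
        _ = x * y * u := by rw [← h1]; group
        _ = y * (x * u) := by rw [h]; group
  exact bb_congr e

omit [Finite G] in
theorem bb_symm (x y : G) : bb x y = bb y x := by
  exact bb_congr eq_comm

theorem comm_eq {x y : G} (hx : x ∈ D.Γ) (hy : y ∈ D.Γ) : x * y = pw D.z (bb x y) * (y * x) := by
  unfold bb
  by_cases h : x * y = y * x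
  · rw [if_pos h, pw_zero, one_mul, h]
  · rw [if_neg h, pw_one]
    exact (D.Γ_comm hx hy).resolve_left h

theorem sq_eq {x : G} (hx : x ∈ D.Γ) : x * x = pw D.z (kap x) := by
  unfold kap
  by_cases h : x * x = 1
  · rw [if_pos h, pw_zero, h]
  · rw [if_neg h, pw_one]
    exact (D.Γ_sq hx).resolve_left h

omit [Finite G] in
theorem z_pw_cen {x : G} (hx : x ∈ D.Γ) (a : ZMod 2) : x * pw D.z a = pw D.z a * x :=
  D.Γ_cen hx (pw_mem D.res.z_U a)

theorem bb_mul {x y w : G} (hx : x ∈ D.Γ) (hy : y ∈ D.Γ) (hw : w ∈ D.Γ) :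
    bb (x * y) w = bb x w + bb y w := by
  apply pw_inj D.res.z1
  apply mul_right_cancel (b := w * (x * y))
  rw [← D.comm_eq (mul_mem hx hy) hw, pw_add D.res.zz]
  calc x * y * w = x * (y * w) := by group
    _ = (x * pw D.z (bb y w)) * (w * y) := by rw [D.comm_eq hy hw]; group
    _ = pw D.z (bb y w) * (x * w) * y := by rw [D.z_pw_cen hx]; group
    _ = (pw D.z (bb y w) * pw D.z (bb x w)) * (w * (x * y)) := by rw [D.comm_eq hx hw]; group
    _ = pw D.z (bb x w) * pw D.z (bb y w) * (w * (x * y)) := by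
      rw [D.z_pw_cen (D.z_Γ |> fun h => (pw_mem h (bb y w) : pw D.z (bb y w) ∈ D.Γ))]

theorem kap_mul {x y : G} (hx : x ∈ D.Γ) (hy : y ∈ D.Γ) : kap (x * y) = kap x + kap y + bb y x := by
  apply pw_inj D.res.z1
  rw [← D.sq_eq (mul_mem hx hy), pw_add D.res.zz, pw_add D.res.zz, ← D.sq_eq hx, ← D.sq_eq hy]
  calc x * y * (x * y) = x * (y * x) * y := by group
    _ = (x * pw D.z (bb y x)) * (x * y) * y := by rw [D.comm_eq hy hx]; group
    _ = pw D.z (bb y x) * (x * x * (y * y)) := by rw [D.z_pw_cen hx]; group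
    _ = x * x * (y * y) * pw D.z (bb y x) := by
      rw [D.z_pw_cen (mul_mem (mul_mem hx hx) (mul_mem hy hy))]

/-- a representative -/
noncomputable def rp (s : D.S) : G := (D.cl_surj s).choose

theorem rp_mem (s : D.S) : D.rp s ∈ D.Γ := (D.cl_surj s).choose_spec.1

theorem rp_cl (s : D.S) : D.cl (D.rp s) = s := (D.cl_surj s).choose_spec.2

theorem kap_cl {x y : G} (hx : x ∈ D.Γ) (hy : y ∈ D.Γ) (h : D.cl x = D.cl y) : kap x = kap y := by
  have h1 := (D.cl_eq_iff hx hy).1 h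
  have e : y = x * (x⁻¹ * y) := by group
  rw [e, D.kap_U hx h1]

theorem bb_cl {x y w : G} (hx : x ∈ D.Γ) (hy : y ∈ D.Γ) (hw : w ∈ D.Γ) (h : D.cl x = D.cl y) : bb x w = bb y w := by
  have h1 := (D.cl_eq_iff hx hy).1 h
  have e : y = x * (x⁻¹ * y) := by group
  rw [e, D.bb_U hw h1]

/-- **(19)**: rank 4 and `|Σ_q| = 4`: `Γ` is abelian -/
theorem dead (hU : Nat.card D.U = 2 * 4 ^ 2) (hS : Nat.card (D.T (ve (D.res.Δ_U _ D.r_Δ))).range = 4) :
    ∀ x ∈ D.Γ, ∀ y ∈ D.Γ, x * y = y * x := by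
  obtain ⟨p, q, r, r', hpq, hpr, hqr, hpr', hqr', hrr⟩ := D.ops.hyp_two D.R (fun c => D.mem_R) (n := 0)
    (by rw [card_R, card_E, hU]; norm_num)
  have hcq : Nat.card (D.T q).range = 4 := by
    obtain ⟨q', hq', h1⟩ := D.res.exists_q1 D.r_Δ
    have h2 : D.F (ve (D.res.Δ_U q' hq')) (ve (D.res.Δ_U _ D.r_Δ)) = 1 := by
      show D.f q' D.r = 1
      rw [D.res.f_symm q' (D.res.Δ_U q' hq') _ (D.res.Δ_U _ D.r_Δ)]; exact h1
    have h3 := D.ops.card_S D.gen h2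
    rw [hS, D.ops.card_S D.gen hpq] at h3
    exact Nat.pow_left_injective (n := 2) (by norm_num) h3
  have hz := D.ops.dead_two hpq hpr hqr hpr' hqr' hrr (D.ops.sum D.gen hpq)
    (fun s t => bb (D.rp t) (D.rp s)) ?_ ?_ (fun s => kap (D.rp s)) ?_ ?_ ?_
  · intro x hx y hy
    have h1 := hz (D.cl y) (D.cl x)
    have h2 : bb x y = 0 := by
      have e1 := D.bb_cl (D.rp_mem (D.cl x)) hx (D.rp_mem (D.cl y)) (D.rp_cl _)
      have e2 := D.bb_cl (D.rp_mem (D.cl y)) hy hx (D.rp_cl _)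
      rw [bb_symm x y, ← e2, bb_symm, ← e1]
      exact h1
    have h3 := D.comm_eq hx hy
    rwa [h2, pw_zero, one_mul] at h3
  · intro s t w
    have e1 := D.bb_cl (D.rp_mem (s + t)) (mul_mem (D.rp_mem s) (D.rp_mem t)) (D.rp_mem w)
      (by rw [D.rp_cl, D.cl_mul (D.rp_mem s) (D.rp_mem t), D.rp_cl, D.rp_cl])
    show bb (D.rp w) (D.rp (s + t)) = bb (D.rp w) (D.rp s) + bb (D.rp w) (D.rp t)
    rw [bb_symm _ (D.rp (s + t)), e1, D.bb_mul (D.rp_mem s) (D.rp_mem t) (D.rp_mem w), bb_symm _ (D.rp s),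
      bb_symm _ (D.rp t)]
  · intro s t w
    have e1 := D.bb_cl (D.rp_mem (s + t)) (mul_mem (D.rp_mem s) (D.rp_mem t)) (D.rp_mem w)
      (by rw [D.rp_cl, D.cl_mul (D.rp_mem s) (D.rp_mem t), D.rp_cl, D.rp_cl])
    show bb (D.rp (s + t)) (D.rp w) = bb (D.rp s) (D.rp w) + bb (D.rp t) (D.rp w)
    rw [e1, D.bb_mul (D.rp_mem s) (D.rp_mem t) (D.rp_mem w)]
  · intro s t
    have e1 := D.kap_cl (D.rp_mem (s + t)) (mul_mem (D.rp_mem s) (D.rp_mem t))
      (by rw [D.rp_cl, D.cl_mul (D.rp_mem s) (D.rp_mem t), D.rp_cl, D.rp_cl])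
    show kap (D.rp (s + t)) = kap (D.rp s) + kap (D.rp t) + bb (D.rp t) (D.rp s)
    rw [e1, D.kap_mul (D.rp_mem s) (D.rp_mem t)]
  · intro v s hs
    have hs' : s ∈ (D.TT (el v)).range := hs
    rcases D.cases (el_mem v) with ⟨-, h, -⟩ | ⟨p', hp', -, h2, -⟩
    · rw [h] at hs'
      obtain ⟨t, rfl⟩ := hs'
      have e1 := D.kap_cl (D.rp_mem (0 : D.S)) (one_mem _) (by rw [D.rp_cl, D.cl_one])
      show kap (D.rp (0 : D.S)) = 0
      rw [e1, kap, if_pos (mul_one 1)]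
    · have h3 : s ∈ (D.T (ve (D.res.Δ_U p' hp'))).range := by
        show s ∈ (D.TT p').range
        rw [D.TT_Δ hp', ← h2]; exact hs'
      obtain ⟨n, hn, hns⟩ := (D.mem_range hp' s).1 h3
      have e1 := D.kap_cl (D.rp_mem s) (D.NU_Γ hp' hn) (by rw [D.rp_cl, hns])
      show kap (D.rp s) = 0
      rw [e1, kap, if_pos (D.res.N_sq p' hp' n hn.1)]
  · -- `|T_r Σ_q| ≤ 2`
    intro a hpa hqa x hx y hy hx0 hy0
    by_contra hne
    have h1 := D.ops.card_W_le hqa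
    rw [hcq] at h1
    have h2 : 3 ≤ Nat.card ((D.T q).range.map (D.T a)) := by
      have hsub : ({0, D.T a x, D.T a y} : Set D.S) ⊆ ((D.T q).range.map (D.T a) : Set D.S) := by
        rintro s (h | h | h)
        · rw [h]; exact AddSubgroup.zero_mem _
        · rw [h]; exact ⟨x, hx, rfl⟩
        · rw [Set.mem_singleton_iff] at h; rw [h]; exact ⟨y, hy, rfl⟩
      have h3 := Set.ncard_le_ncard hsub (Set.toFinite _)
      have h4 : ({0, D.T a x, D.T a y} : Set D.S).ncard = 3 := by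
        rw [Set.ncard_eq_three]
        exact ⟨0, D.T a x, D.T a y, hx0.symm, hy0.symm, hne, rfl⟩
      rw [h4] at h3
      exact h3
    nlinarith

end OpD

end Cfsg.Agent.Omega.HOneTwo.OpInst
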