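import Mathlib

/-!
# II.0h1, `q = 2`, F4-type: the operators `T_p = t_p - 1` on `Σ = Γ / U` ((17), (18) of #16429)

`OpSys f T`: `E` is an elementary abelian 2-group (additive; in the use `E = U` or `U / ⟨z⟩`) with an alternating
form `f : E → E → F₂` (possibly with a radical), `Σ = S` an elementary abelian 2-group, `T : E → End S`.

* `OpSys.lemE` : LEMMA E: `r, r' ⟂ q`, `f(r,r') = 1` ⇒ `Σ_q ∩ ker T_r ∩ ker T_{r'} = 0` (`Σ_q = T_q S`);
* `OpSys.split` : `x = T_r T_{r'} x + T_{r'} T_r x` for `x ∈ Σ_q`;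
* `OpSys.card_range` : `|Σ_q| = c ^ (2 ^ n)` if `|⟨p,q⟩^⟂| = 4 ^ n |rad f|`, `f(p,q) = 1`;
* `OpSys.sum` : `S = Σ_p + Σ_q` (`f(p,q) = 1`), `OpSys.disj` (direct), `OpSys.card_S`;
* `OpSys.inj`: `T_r = T_{r'}` on `Σ_q` ⇒ `f r r' = 0`, and `= 0` on `Σ_q` if there is `s` with `f s r = 1`,
  `f s r' = 0`;
* `arith`: `2k - 2 = 2^(m-1) e`, `k ≤ m`, `2 ≤ k` ⇒ `m = k ∈ {2,3}`, `e = 1`;
* `trans1`, `trans2`: transvections are transitive on points, and on the pairs `v ≠ 0`, `w ∈ v^⟂ ∖ {0, v}`;
* `OpSys.cover`, `OpSys.count`, **`OpSys.final`** = (18): `(m, n) = (2, 1)` or `(3, 2)`, `n = k - 1`.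
-/

set_option autoImplicit false
set_option linter.unusedSectionVars false

set_option linter.dupNamespace false

namespace Cfsg.Agent.Omega.HOneTwo.OpSys

/-- in `ZMod 2` -/
theorem z2 (c : ZMod 2) : c = 0 ∨ c = 1 := by
  revert c; decide

/-- the operator system of #16429 (17) -/
structure OpSys {E S : Type*} [AddCommGroup E] [AddCommGroup S] (f : E → E → ZMod 2) (T : E → S →+ S) :
    Prop where
  /-- `S` has exponent 2 -/
  twoS : ∀ x : S, x + x = 0
  /-- `E` has exponent 2 -/
  twoE : ∀ v : E, v + v = 0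
  add : ∀ u v w, f (u + v) w = f u w + f v w
  symm : ∀ v w, f v w = f w v
  alt : ∀ v, f v v = 0
  /-- radical vectors act as zero -/
  rad : ∀ v, (∀ w, f v w = 0) → ∀ x, T v x = 0
  /-- `T` only depends on the class modulo the radical -/
  radd : ∀ v c, (∀ w, f c w = 0) → ∀ x, T (v + c) x = T v x
  sq : ∀ v x, T v (T v x) = 0
  comm : ∀ v w, f v w = 0 → ∀ x, T v (T w x) = T w (T v x)
  tri : ∀ v w, f v w = 1 → ∀ x, T v (T w (T v x)) = T v x
  /-- `t_v t_w t_v = t_{v+w}` for `f v w = 1` -/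
  conj : ∀ v w, f v w = 1 → ∀ x, T (v + w) x = T v x + T w x + T v (T w x) + T w (T v x)
  /-- (R3) -/
  r3 : ∀ v w, f v w = 0 → ∀ x, T v (T (v + w) x) = T v (T w x)
  /-- (R4) -/
  r4 : ∀ q r r', f q r = 0 → f q r' = 0 → ∀ x y,
    y = T r' x + T (q + r') x + T r' (T (q + r') x) → T r y + T (q + r) y + T r (T (q + r) y) = 0
  /-- (14): no common kernel -/
  ker : ∀ x, (∀ v, T v x = 0) → x = 0

namespace OpSys

/-- the structure from the raw pointwise facts (`inj` instead of `tri`, `[Σ, Q_q, Q_q] = 0` instead of (R3), (R4)) -/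
theorem of_raw {E S : Type*} [AddCommGroup E] [AddCommGroup S] {f : E → E → ZMod 2} {T : E → S →+ S}
    (twoS : ∀ x : S, x + x = 0) (twoE : ∀ v : E, v + v = 0) (add : ∀ u v w, f (u + v) w = f u w + f v w)
    (symm : ∀ v w, f v w = f w v) (alt : ∀ v, f v v = 0) (rad : ∀ v, (∀ w, f v w = 0) → ∀ x, T v x = 0)
    (radd : ∀ v c, (∀ w, f c w = 0) → ∀ x, T (v + c) x = T v x) (sq : ∀ v x, T v (T v x) = 0)
    (comm : ∀ v w, f v w = 0 → ∀ x, T v (T w x) = T w (T v x))
    (inj : ∀ v w, f v w = 1 → ∀ x, T w (T v x) = 0 → T v x = 0)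
    (conj : ∀ v w, f v w = 1 → ∀ x, T (v + w) x = T w x + T v (T w x) + T w (T v x) + T v (T w (T v x)))
    (d1 : ∀ q r, f q r = 0 → ∀ x, T q (T r x + T (q + r) x + T r (T (q + r) x)) = 0)
    (d2 : ∀ q r r', f q r = 0 → f q r' = 0 → ∀ x y,
      y = T r' x + T (q + r') x + T r' (T (q + r') x) → T r y + T (q + r) y + T r (T (q + r) y) = 0)
    (ker : ∀ x, (∀ v, T v x = 0) → x = 0) : OpSys f T := by
  have neg : ∀ x : S, -x = x := fun x => by rw [neg_eq_iff_add_eq_zero]; exact twoS x
  have eqa : ∀ {x y : S}, x + y = 0 → x = y := by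
    intro x y e
    have := eq_neg_of_add_eq_zero_left e
    rw [neg] at this; exact this
  have tri : ∀ v w, f v w = 1 → ∀ x, T v (T w (T v x)) = T v x := by
    intro v w hvw x
    have hwv : f w v = 1 := by rw [symm]; exact hvw
    have e1 := conj v w hvw (T v x)
    have e2 := conj w v hwv (T v x)
    rw [add_comm w v] at e2
    rw [sq v x] at e1 e2
    simp only [map_zero, add_zero, zero_add] at e1 e2
    -- e1 : T (v+w) (T v x) = T w (T v x) + T v (T w (T v x)); e2 : ... = T v (T w (T v x)) + T w (T v (T w (T v x)))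
    rw [e1, add_comm] at e2
    have e3 : T w (T v x) = T w (T v (T w (T v x))) := add_left_cancel e2
    have e4 : T w (T v (x + T w (T v x))) = 0 := by
      rw [map_add, map_add, ← e3, twoS]
    have e5 := inj v w hvw _ e4
    rw [map_add] at e5
    exact (eqa e5).symm
  refine ⟨twoS, twoE, add, symm, alt, rad, radd, sq, comm, tri, ?_, ?_, d2, ker⟩
  · intro v w hvw x
    rw [conj v w hvw x, tri v w hvw x]
    abel
  · -- (R3)
    intro v w hvw x
    have hwv : f w v = 0 := by rw [symm]; exact hvw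
    have f1 : f v (v + w) = 0 := by rw [symm, add, alt, hwv, add_zero]
    have f2 : f w (v + w) = 0 := by rw [symm, add, alt, hvw, add_zero]
    -- T_v D v w x and T_w D w v x
    have a1 := d1 v w hvw x
    have a2 := d1 w v hwv x
    rw [add_comm w v] at a2
    rw [map_add, map_add] at a1 a2
    rw [← comm v w hvw x] at a2
    rw [← comm v w hvw (T (v + w) x)] at a2
    have b : T v (T (v + w) x) = T w (T (v + w) x) := by
      have : T v (T w x) + T v (T (v + w) x) + T v (T w (T (v + w) x)) =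
          T v (T w x) + T w (T (v + w) x) + T v (T w (T (v + w) x)) := by rw [a1, a2]
      exact add_left_cancel (add_right_cancel this)
    -- T_{v+w} D (v+w) v
    have a3 := d1 (v + w) v (by rw [add, alt, hwv, add_zero]) x
    have e : v + w + v = w := by rw [add_comm v w, add_assoc, twoE, add_zero]
    rw [e, map_add, map_add, ← comm v (v + w) f1, ← comm w (v + w) f2, b, twoS, zero_add,
      ← comm v (v + w) f1, ← comm w (v + w) f2] at a3
    rw [a3, add_zero] at a1
    exact (eqa a1).symm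

variable {E S : Type*} [AddCommGroup E] [AddCommGroup S] {f : E → E → ZMod 2} {T : E → S →+ S}

theorem addr (h : OpSys f T) (u v w : E) : f w (u + v) = f w u + f w v := by
  rw [h.symm, h.add, h.symm u, h.symm v]

theorem neg_eq (h : OpSys f T) (x : S) : -x = x := by
  rw [neg_eq_iff_add_eq_zero]; exact h.twoS x

theorem sub_eq (h : OpSys f T) (x y : S) : x - y = x + y := by
  rw [sub_eq_add_neg, h.neg_eq]

theorem eq_of_add (h : OpSys f T) {x y : S} (e : x + y = 0) : x = y := by
  rw [← h.sub_eq, sub_eq_zero] at e; exact e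

theorem vv (h : OpSys f T) (v w : E) : v + (v + w) = w := by
  rw [← add_assoc, h.twoE, zero_add]

/-- (R3), other form: `T_w T_{v+w} = T_v T_w` for `v ⟂ w` -/
theorem r3' (h : OpSys f T) {v w : E} (hvw : f v w = 0) (x : S) : T w (T (v + w) x) = T w (T v x) := by
  rw [add_comm v w]
  exact h.r3 w v (by rw [h.symm]; exact hvw) x

/-- `T_{v+w} T_v = T_w T_v` for `v ⟂ w` -/
theorem r3l (h : OpSys f T) {v w : E} (hvw : f v w = 0) (x : S) : T (v + w) (T v x) = T w (T v x) := by
  have h1 : f (v + w) v = 0 := by rw [h.add, h.alt, h.symm w v, hvw, add_zero]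
  rw [h.comm _ _ h1, h.r3 v w hvw, h.comm v w hvw]

/-- elements of `Σ_q` are fixed by `T_q T_p`, `f p q = 1` -/
theorem fix (h : OpSys f T) {p q : E} (hpq : f p q = 1) {x : S} (hx : x ∈ (T q).range) :
    T q (T p x) = x := by
  obtain ⟨s, rfl⟩ := hx
  exact h.tri q p (by rw [h.symm]; exact hpq) s

theorem zero_of_mem (h : OpSys f T) {q : E} {x : S} (hx : x ∈ (T q).range) : T q x = 0 := by
  obtain ⟨s, rfl⟩ := hx
  exact h.sq q s

theorem mem_of_comm (h : OpSys f T) {q r : E} (hqr : f q r = 0) {x : S} (hx : x ∈ (T q).range) :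
    T r x ∈ (T q).range := by
  obtain ⟨s, rfl⟩ := hx
  exact ⟨T r s, h.comm q r hqr s⟩

/-- a vector `p` with `f p q = 1`, orthogonal to the hyperbolic pair `r, r'` -/
theorem exists_perp (h : OpSys f T) {q r r' : E} (hr : f q r = 0) (hr' : f q r' = 0) (hrr : f r r' = 1)
    {p0 : E} (hp : f p0 q = 1) : ∃ p, f p q = 1 ∧ f p r = 0 ∧ f p r' = 0 := by
  have hr1 : f r q = 0 := by rw [h.symm]; exact hr
  have hr1' : f r' q = 0 := by rw [h.symm]; exact hr'
  have hrr' : f r' r = 1 := by rw [h.symm]; exact hrr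
  rcases z2 (f p0 r) with a | a <;> rcases z2 (f p0 r') with b | b
  · exact ⟨p0, hp, a, b⟩
  · refine ⟨p0 + r, ?_, ?_, ?_⟩
    · rw [h.add, hp, hr1, add_zero]
    · rw [h.add, a, h.alt, add_zero]
    · rw [h.add, b, hrr]; decide
  · refine ⟨p0 + r', ?_, ?_, ?_⟩
    · rw [h.add, hp, hr1', add_zero]
    · rw [h.add, a, hrr']; decide
    · rw [h.add, b, h.alt, add_zero]
  · refine ⟨p0 + r + r', ?_, ?_, ?_⟩
    · rw [h.add, h.add, hp, hr1, hr1', add_zero, add_zero]
    · rw [h.add, h.add, a, h.alt, hrr']; decide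
    · rw [h.add, h.add, b, h.alt, hrr]; decide

/-- **LEMMA E** -/
theorem lemE (h : OpSys f T) {q r r' : E} (hr : f q r = 0) (hr' : f q r' = 0) (hrr : f r r' = 1) {x : S}
    (hx : x ∈ (T q).range) (h1 : T r x = 0) (h2 : T r' x = 0) : x = 0 := by
  by_cases hq : ∀ w, f q w = 0
  · obtain ⟨s, rfl⟩ := hx
    exact h.rad q hq s
  push Not at hq
  obtain ⟨p0, hp0⟩ := hq
  have hp0' : f p0 q = 1 := by
    rw [h.symm]; exact (z2 _).resolve_left hp0
  obtain ⟨p, hpq, hpr, hpr'⟩ := h.exists_perp hr hr' hrr hp0'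
  have hrp : f r p = 0 := by rw [h.symm]; exact hpr
  have hrp' : f r' p = 0 := by rw [h.symm]; exact hpr'
  have hrq : f r q = 0 := by rw [h.symm]; exact hr
  have hrq' : f r' q = 0 := by rw [h.symm]; exact hr'
  -- y := T_p x
  set y := T p x with hy
  have xy : T q y = x := h.fix hpq hx
  have ry : T r y = 0 := by rw [hy, h.comm r p hrp, h1, map_zero]
  have ry' : T r' y = 0 := by rw [hy, h.comm r' p hrp', h2, map_zero]
  set v := T (q + r') y with hv
  have qv : T q v = 0 := by rw [hv, h.r3 q r' hr', ry', map_zero]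
  have rv' : T r' v = 0 := by
    rw [hv, h.r3' hr', ← h.comm q r' hr', ry', map_zero]
  have e4 := h.r4 q r r' hr hr' y v (by rw [← hv, ry', rv']; simp)
  -- third term
  have t3 : T r (T (q + r) v) = 0 := by
    rw [h.r3' hr, ← h.comm q r hr, h.comm q r hr, qv, map_zero]
  rw [t3, add_zero] at e4
  have e5 : T r v = T (q + r) v := h.eq_of_add e4
  -- T_p v = y
  have fpqr' : f p (q + r') = 1 := by rw [h.addr, hpq, hpr', add_zero]
  have pv : T p v = y := by
    rw [hv, hy]
    exact h.tri p (q + r') fpqr' x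
  -- T_p w = 0
  have pw : T p (T r v) = 0 := by rw [h.comm p r hpr, pv, ry]
  have fpqr : f p (q + r) = 1 := by rw [h.addr, hpq, hpr, add_zero]
  have w0 : T r v = 0 := by
    have : T (q + r) (T p (T (q + r) v)) = T (q + r) v := h.tri (q + r) p (by rw [h.symm]; exact fpqr) v
    rw [← e5, pw, map_zero] at this
    exact this.symm
  -- v = 0
  have frqr' : f r (q + r') = 1 := by rw [h.addr, hrq, hrr, zero_add]
  have v0 : v = 0 := by
    have := h.fix (p := r) (q := q + r') frqr' (x := v) ⟨y, rfl⟩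
    rw [w0, map_zero] at this
    exact this.symm
  have y0 : y = 0 := by rw [← pv, v0, map_zero]
  rw [← xy, y0, map_zero]

/-- `x = T_r T_{r'} x + T_{r'} T_r x` on `Σ_q` -/
theorem split (h : OpSys f T) {q r r' : E} (hr : f q r = 0) (hr' : f q r' = 0) (hrr : f r r' = 1) {x : S}
    (hx : x ∈ (T q).range) : x = T r (T r' x) + T r' (T r x) := by
  have hrr' : f r' r = 1 := by rw [h.symm]; exact hrr
  have m1 : T r (T r' x) ∈ (T q).range := h.mem_of_comm hr (h.mem_of_comm hr' hx)
  have m2 : T r' (T r x) ∈ (T q).range := h.mem_of_comm hr' (h.mem_of_comm hr hx)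
  have hz : x + (T r (T r' x) + T r' (T r x)) = 0 := by
    refine h.lemE hr hr' hrr (AddSubgroup.add_mem _ hx (AddSubgroup.add_mem _ m1 m2)) ?_ ?_
    · rw [map_add, map_add, h.sq, zero_add, h.tri r r' hrr, h.twoS]
    · rw [map_add, map_add, h.sq, add_zero, h.tri r' r hrr', h.twoS]
  exact h.eq_of_add hz

/-- the cardinality halves (in the exponent): `|W| = |T_r W|²` for a `T_r, T_{r'}`-invariant `W ≤ Σ_q` -/
theorem card_sq (h : OpSys f T) {q r r' : E} (hr : f q r = 0) (hr' : f q r' = 0) (hrr : f r r' = 1)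
    (W : AddSubgroup S) (hW : W ≤ (T q).range) (ir : ∀ x ∈ W, T r x ∈ W) (ir' : ∀ x ∈ W, T r' x ∈ W) :
    Nat.card W = Nat.card (W.map (T r)) ^ 2 := by
  have hrr' : f r' r = 1 := by rw [h.symm]; exact hrr
  have m1 : W.map (T r) ≤ W := by
    rintro _ ⟨x, hx, rfl⟩; exact ir x hx
  have m2 : W.map (T r') ≤ W := by
    rintro _ ⟨x, hx, rfl⟩; exact ir' x hx
  -- bijection W ≃ T_r W × T_r W, x ↦ (T_r x, T_r T_{r'} x)
  let φ : W → (W.map (T r)) × (W.map (T r)) := fun x =>
    (⟨T r x, ⟨x, x.2, rfl⟩⟩, ⟨T r (T r' x), ⟨T r' x, ir' x x.2, rfl⟩⟩)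
  have hφ : Function.Bijective φ := by
    constructor
    · intro x y hxy
      have e1 : T r (x : S) = T r (y : S) := congrArg (fun t => (t.1 : S)) hxy
      have e2 : T r (T r' (x : S)) = T r (T r' (y : S)) := congrArg (fun t => (t.2 : S)) hxy
      apply Subtype.ext
      rw [h.split hr hr' hrr (hW x.2), h.split hr hr' hrr (hW y.2), e1, e2]
    · rintro ⟨⟨_, a, ha, rfl⟩, ⟨_, b, hb, rfl⟩⟩
      -- x = T_{r'} T_r a + T_r b
      refine ⟨⟨T r' (T r a) + T r b, W.add_mem (ir' _ (ir _ ha)) (ir _ hb)⟩, ?_⟩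
      apply Prod.ext
      · apply Subtype.ext
        show T r (T r' (T r a) + T r b) = T r a
        rw [map_add, h.sq, add_zero, h.tri r r' hrr]
      · apply Subtype.ext
        show T r (T r' (T r' (T r a) + T r b)) = T r b
        rw [map_add, h.sq, zero_add, h.tri r r' hrr]
  rw [Nat.card_congr (Equiv.ofBijective φ hφ), Nat.card_prod, pow_two]

/-- hyperbolic descent on a subgroup `D ≤ q^⟂` (`R` = the radical) -/
theorem card_pow [Finite E] (h : OpSys f T) {q : E} (R : AddSubgroup E) (hR : ∀ c ∈ R, ∀ e, f e c = 0)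
    (n : ℕ) : ∀ (D : AddSubgroup E), (∀ d ∈ D, f q d = 0) → (∀ d ∈ D, d ∉ R → ∃ d' ∈ D, f d d' = 1) → R ≤ D →
    Nat.card D = 4 ^ n * Nat.card R →
    ∀ W : AddSubgroup S, W ≤ (T q).range → (∀ d ∈ D, ∀ x ∈ W, T d x ∈ W) →
    ∃ V : AddSubgroup S, V ≤ W ∧ Nat.card W = Nat.card V ^ (2 ^ n) := by
  induction n with
  | zero =>
    intro D _ _ _ _ W _ _
    exact ⟨W, le_refl _, by simp⟩
  | succ n ih =>
    intro D hq hD hRD hc W hW iW
    -- an element of D outside R
    have hne : ∃ d ∈ D, d ∉ R := by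
      by_contra hcon
      push Not at hcon
      have : D = R := le_antisymm hcon hRD
      rw [this] at hc
      have h0 : 0 < Nat.card R := Nat.card_pos
      have h4 : 4 ≤ 4 ^ (n + 1) := by
        calc 4 = 4 ^ 1 := by norm_num
          _ ≤ 4 ^ (n + 1) := Nat.pow_le_pow_right (by norm_num) (by omega)
      nlinarith
    obtain ⟨r, hrD, hrR⟩ := hne
    obtain ⟨r', hrD', hrr⟩ := hD r hrD hrR
    have hrr' : f r' r = 1 := by rw [h.symm]; exact hrr
    -- D' = D ∩ r^⟂ ∩ r'^⟂ as kernel of a map to F₂ × F₂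
    let φ : D →+ ZMod 2 × ZMod 2 :=
      { toFun := fun d => (f r d, f r' d)
        map_zero' := by
          have z1 : f r 0 = 0 := by
            have := h.addr 0 0 r; simp at this; exact this
          have z2 : f r' 0 = 0 := by
            have := h.addr 0 0 r'; simp at this; exact this
          simp [z1, z2]
        map_add' := by
          intro x y
          simp [h.addr] }
    have hφ : Function.Surjective φ := by
      have e1 : φ ⟨r, hrD⟩ = (0, 1) := by
        show (f r r, f r' r) = (0, 1); rw [h.alt, hrr']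
      have e2 : φ ⟨r', hrD'⟩ = (1, 0) := by
        show (f r r', f r' r') = (1, 0); rw [h.alt, hrr]
      rintro ⟨a, b⟩
      rcases z2 a with rfl | rfl <;> rcases z2 b with rfl | rfl
      · exact ⟨0, map_zero φ⟩
      · exact ⟨_, e1⟩
      · exact ⟨_, e2⟩
      · refine ⟨⟨r, hrD⟩ + ⟨r', hrD'⟩, ?_⟩
        rw [map_add, e1, e2]; rfl
    let D' : AddSubgroup E := φ.ker.map D.subtype
    have memD' : ∀ d, d ∈ D' ↔ d ∈ D ∧ f r d = 0 ∧ f r' d = 0 := by
      intro d
      constructor
      · rintro ⟨⟨e, he⟩, hk, rfl⟩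
        have hk' : φ ⟨e, he⟩ = 0 := hk
        exact ⟨he, congrArg Prod.fst hk', congrArg Prod.snd hk'⟩
      · rintro ⟨hd, h1, h2⟩
        refine ⟨⟨d, hd⟩, ?_, rfl⟩
        show φ ⟨d, hd⟩ = 0
        exact Prod.ext h1 h2
    have cD' : Nat.card D' = 4 ^ n * Nat.card R := by
      have c1 : Nat.card D' = Nat.card φ.ker :=
        Nat.card_congr (φ.ker.equivMapOfInjective D.subtype D.subtype_injective).symm.toEquiv
      have c2 : Nat.card D = Nat.card (D ⧸ φ.ker) * Nat.card φ.ker :=
        AddSubgroup.card_eq_card_quotient_mul_card_addSubgroup φ.ker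
      have c3 : Nat.card (D ⧸ φ.ker) = 4 := by
        rw [Nat.card_congr (QuotientAddGroup.quotientKerEquivOfSurjective φ hφ).toEquiv]
        simp
      rw [c3, hc, pow_succ] at c2
      rw [c1]
      have : 4 * Nat.card φ.ker = 4 * (4 ^ n * Nat.card R) := by rw [← c2]; ring
      exact Nat.eq_of_mul_eq_mul_left (by norm_num) this
    have hRD' : R ≤ D' := fun c hcR => (memD' c).2 ⟨hRD hcR, hR c hcR r, hR c hcR r'⟩
    have hD' : ∀ d ∈ D', d ∉ R → ∃ d' ∈ D', f d d' = 1 := by
      intro d hd hdR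
      obtain ⟨hdD, hrd, hrd'⟩ := (memD' d).1 hd
      obtain ⟨e, he, hde⟩ := hD d hdD hdR
      have hdr : f d r = 0 := by rw [h.symm]; exact hrd
      have hdr' : f d r' = 0 := by rw [h.symm]; exact hrd'
      rcases z2 (f r e) with a | a <;> rcases z2 (f r' e) with b | b
      · exact ⟨e, (memD' e).2 ⟨he, a, b⟩, hde⟩
      · refine ⟨e + r, (memD' _).2 ⟨D.add_mem he hrD, ?_, ?_⟩, ?_⟩
        · rw [h.addr, a, h.alt, add_zero]
        · rw [h.addr, b, hrr']; decide
        · rw [h.addr, hde, hdr, add_zero]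
      · refine ⟨e + r', (memD' _).2 ⟨D.add_mem he hrD', ?_, ?_⟩, ?_⟩
        · rw [h.addr, a, hrr]; decide
        · rw [h.addr, b, h.alt, add_zero]
        · rw [h.addr, hde, hdr', add_zero]
      · refine ⟨e + r + r', (memD' _).2 ⟨D.add_mem (D.add_mem he hrD) hrD', ?_, ?_⟩, ?_⟩
        · rw [h.addr, h.addr, a, h.alt, hrr]; decide
        · rw [h.addr, h.addr, b, h.alt, hrr']; decide
        · rw [h.addr, h.addr, hde, hdr, hdr', add_zero, add_zero]
    -- W' = T_r W
    have m1 : W.map (T r) ≤ W := by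
      rintro _ ⟨x, hx, rfl⟩; exact iW r hrD x hx
    obtain ⟨V, hV, cV⟩ := ih D' (fun d hd => hq d ((memD' d).1 hd).1) hD' hRD' cD' (W.map (T r))
      (le_trans m1 hW) (by
        rintro d hd _ ⟨x, hx, rfl⟩
        obtain ⟨hdD, hrd, _⟩ := (memD' d).1 hd
        exact ⟨T d x, iW d hdD x hx, h.comm r d hrd x⟩)
    refine ⟨V, le_trans hV m1, ?_⟩
    rw [h.card_sq (hq r hrD) (hq r' hrD') hrr W hW (iW r hrD) (iW r' hrD'), cV, ← pow_mul, pow_succ]

/-- `|Σ_q| = c ^ (2 ^ n)` where `|⟨p,q⟩^⟂| = 4 ^ n |rad|`, `f p q = 1` -/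
theorem card_range [Finite E] (h : OpSys f T) {p q : E} (hpq : f p q = 1) (R : AddSubgroup E)
    (hR : ∀ c, c ∈ R ↔ ∀ e, f e c = 0) (n : ℕ) (hc : Nat.card E = 4 ^ (n + 1) * Nat.card R) :
    ∃ V : AddSubgroup S, V ≤ (T q).range ∧ Nat.card (T q).range = Nat.card V ^ (2 ^ n) := by
  have hqp : f q p = 1 := by rw [h.symm]; exact hpq
  let φ : E →+ ZMod 2 × ZMod 2 :=
    { toFun := fun d => (f p d, f q d)
      map_zero' := by
        have z1 : f p 0 = 0 := by
          have := h.addr 0 0 p; simp at this; exact this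
        have z2 : f q 0 = 0 := by
          have := h.addr 0 0 q; simp at this; exact this
        simp [z1, z2]
      map_add' := by
        intro x y
        simp [h.addr] }
  have hφ : Function.Surjective φ := by
    have e1 : φ p = (0, 1) := by
      show (f p p, f q p) = (0, 1); rw [h.alt, hqp]
    have e2 : φ q = (1, 0) := by
      show (f p q, f q q) = (1, 0); rw [h.alt, hpq]
    rintro ⟨a, b⟩
    rcases z2 a with rfl | rfl <;> rcases z2 b with rfl | rfl
    · exact ⟨0, map_zero φ⟩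
    · exact ⟨_, e1⟩
    · exact ⟨_, e2⟩
    · refine ⟨p + q, ?_⟩
      rw [map_add, e1, e2]; rfl
  have memD : ∀ d, d ∈ φ.ker ↔ f p d = 0 ∧ f q d = 0 := by
    intro d
    constructor
    · intro hk
      have hk' : φ d = 0 := hk
      exact ⟨congrArg Prod.fst hk', congrArg Prod.snd hk'⟩
    · rintro ⟨h1, h2⟩
      show φ d = 0
      exact Prod.ext h1 h2
  have cD : Nat.card φ.ker = 4 ^ n * Nat.card R := by
    have c2 : Nat.card E = Nat.card (E ⧸ φ.ker) * Nat.card φ.ker :=
      AddSubgroup.card_eq_card_quotient_mul_card_addSubgroup φ.ker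
    have c3 : Nat.card (E ⧸ φ.ker) = 4 := by
      rw [Nat.card_congr (QuotientAddGroup.quotientKerEquivOfSurjective φ hφ).toEquiv]
      simp
    rw [c3, hc, pow_succ] at c2
    have : 4 * Nat.card φ.ker = 4 * (4 ^ n * Nat.card R) := by rw [← c2]; ring
    exact Nat.eq_of_mul_eq_mul_left (by norm_num) this
  refine h.card_pow (q := q) R (fun c hc' => (hR c).1 hc') n φ.ker (fun d hd => ((memD d).1 hd).2) ?_ ?_ cD
    (T q).range (le_refl _) ?_
  · intro d hd hdR
    obtain ⟨hpd, hqd⟩ := (memD d).1 hd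
    have : ∃ e, f e d = 1 := by
      by_contra hcon
      push Not at hcon
      exact hdR ((hR d).2 (fun e => (z2 _).resolve_right (hcon e)))
    obtain ⟨e, hed⟩ := this
    have hdp : f d p = 0 := by rw [h.symm]; exact hpd
    have hdq : f d q = 0 := by rw [h.symm]; exact hqd
    obtain ⟨e', h1, h2, h3⟩ := h.exists_perp (q := d) (r := p) (r' := q) hdp hdq hpq hed
    exact ⟨e', (memD e').2 ⟨by rw [h.symm]; exact h2, by rw [h.symm]; exact h3⟩, by rw [h.symm]; exact h1⟩
  · intro c hcR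
    exact (memD c).2 ⟨(hR c).1 hcR p, (hR c).1 hcR q⟩
  · intro d hd x hx
    exact h.mem_of_comm ((memD d).1 hd).2 hx

/-- projection to `⟨p, q⟩^⟂` -/
theorem proj (h : OpSys f T) {p q : E} (hpq : f p q = 1) (e : E) :
    ∃ e', f p e' = 0 ∧ f q e' = 0 ∧ (∀ d, f p d = 0 → f q d = 0 → f d e' = f d e) ∧
      e = e' + (if f q e = 1 then p else 0) + (if f p e = 1 then q else 0) := by
  have hqp : f q p = 1 := by rw [h.symm]; exact hpq
  rcases z2 (f p e) with a | a <;> rcases z2 (f q e) with b | b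
  · exact ⟨e, a, b, fun d _ _ => rfl, by simp [a, b]⟩
  · refine ⟨e + p, ?_, ?_, fun d hd _ => ?_, ?_⟩
    · rw [h.addr, a, h.alt, add_zero]
    · rw [h.addr, b, hqp]; decide
    · rw [h.addr, h.symm d p, hd, add_zero]
    · rw [a, b]; simp [add_assoc, h.twoE]
  · refine ⟨e + q, ?_, ?_, fun d _ hd => ?_, ?_⟩
    · rw [h.addr, a, hpq]; decide
    · rw [h.addr, b, h.alt, add_zero]
    · rw [h.addr, h.symm d q, hd, add_zero]
    · rw [a, b]; simp [add_assoc, h.twoE]
  · refine ⟨e + p + q, ?_, ?_, fun d hd hd' => ?_, ?_⟩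
    · rw [h.addr, h.addr, a, h.alt, hpq]; decide
    · rw [h.addr, h.addr, b, h.alt, hqp]; decide
    · rw [h.addr, h.addr, h.symm d p, h.symm d q, hd, hd', add_zero, add_zero]
    · rw [a, b]
      simp only [if_true]
      have : e + p + q + p + q = e + (p + p) + (q + q) := by abel
      rw [this, h.twoE, h.twoE, add_zero, add_zero]

/-- two non-radical vectors of `⟨p, q⟩^⟂` have a common neighbour there -/
theorem exists_common (h : OpSys f T) {p q : E} (hpq : f p q = 1) {r s w0 w1 : E} (hpr : f p r = 0)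
    (hqr : f q r = 0) (hps : f p s = 0) (hqs : f q s = 0) (h0 : f r w0 = 1) (h1 : f s w1 = 1) :
    ∃ a, f p a = 0 ∧ f q a = 0 ∧ f r a = 1 ∧ f s a = 1 := by
  have key : ∃ e, f r e = 1 ∧ f s e = 1 := by
    rcases z2 (f s w0) with a | a
    · rcases z2 (f r w1) with b | b
      · exact ⟨w0 + w1, by rw [h.addr, h0, b, add_zero], by rw [h.addr, a, h1, zero_add]⟩
      · exact ⟨w1, b, h1⟩
    · exact ⟨w0, h0, a⟩
  obtain ⟨e, he1, he2⟩ := key
  obtain ⟨e', h1', h2', h3', _⟩ := h.proj hpq e
  exact ⟨e', h1', h2', by rw [h3' r hpr hqr, he1], by rw [h3' s hps hqs, he2]⟩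

/-- the key step: `T_{p+r} c = T_p c + T_r c` for `c ∈ Σ_q`, `f p q = 1`, `r ⟂ p, q` -/
theorem key (h : OpSys f T) {p q r : E} (hpq : f p q = 1) (hpr : f p r = 0) (hqr : f q r = 0) {c : S}
    (hc : c ∈ (T q).range) : T (p + r) c = T p c + T r c := by
  by_cases hrad : ∀ w, f r w = 0
  · rw [h.radd p r hrad, h.rad r hrad, add_zero]
  push Not at hrad
  obtain ⟨w0, hw0⟩ := hrad
  have hw0' : f r w0 = 1 := (z2 _).resolve_left hw0
  have hqp : f q p = 1 := by rw [h.symm]; exact hpq
  have hrp : f r p = 0 := by rw [h.symm]; exact hpr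
  have hrq : f r q = 0 := by rw [h.symm]; exact hqr
  have qc : T q c = 0 := h.zero_of_mem hc
  set b := T (p + r) c + (T p c + T r c) with hb
  have fqpr : f q (p + r) = 1 := by rw [h.addr, hqp, hqr, add_zero]
  have pb : T p b = 0 := by
    rw [hb, map_add, map_add, h.r3 p r hpr, h.sq, zero_add, h.twoS]
  have qb : T q b = 0 := by
    rw [hb, map_add, map_add, h.fix (p := p + r) (q := q) (by rw [h.symm]; exact fqpr) hc,
      h.fix (p := p) (q := q) hpq hc, h.comm q r hqr, qc, map_zero, add_zero, h.twoS]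
  have prb : T (p + r) b = 0 := by
    rw [hb, map_add, map_add, h.sq, zero_add, h.r3l hpr]
    have : T (p + r) (T r c) = T p (T r c) := by
      rw [add_comm p r]
      exact h.r3l hrp c
    rw [this, h.comm r p hrp, h.twoS]
  -- all s ⟂ p, q
  have sb : ∀ s, f p s = 0 → f q s = 0 → T s b = 0 := by
    intro s hps hqs
    have hsp : f s p = 0 := by rw [h.symm]; exact hps
    have hsq : f s q = 0 := by rw [h.symm]; exact hqs
    refine h.lemE (q := s) (r := p) (r' := q) hsp hsq hpq ⟨b, rfl⟩ ?_ ?_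
    · rw [h.comm p s hps, pb, map_zero]
    · rw [h.comm q s hqs, qb, map_zero]
  -- T_{p+r'} b = 0 for f r r' = 1
  have step : ∀ a, f p a = 0 → f q a = 0 → T (p + a) b = 0 → ∀ a', f p a' = 0 → f q a' = 0 → f a a' = 1 →
      T (p + a') b = 0 := by
    intro a ha1 ha2 ha3 a' hb1 hb2 haa
    have hs1 : f p (a + a') = 0 := by rw [h.addr, ha1, hb1, add_zero]
    have hs2 : f q (a + a') = 0 := by rw [h.addr, ha2, hb2, add_zero]
    have hfs : f (p + a) (a + a') = 1 := by
      rw [h.add, hs1, h.addr, h.alt, haa, zero_add, zero_add]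
    have := h.conj (p + a) (a + a') hfs b
    rw [ha3, sb _ hs1 hs2, map_zero, map_zero, add_zero, add_zero, add_zero] at this
    have e : p + a + (a + a') = p + a' := by
      rw [add_assoc, h.vv]
    rw [e] at this
    exact this
  have psb : ∀ s, f p s = 0 → f q s = 0 → T (p + s) b = 0 := by
    intro s hps hqs
    by_cases hs : ∀ w, f s w = 0
    · rw [h.radd p s hs, pb]
    push Not at hs
    obtain ⟨w1, hw1⟩ := hs
    obtain ⟨a, ha1, ha2, ha3, ha4⟩ := h.exists_common hpq hpr hqr hps hqs hw0' ((z2 _).resolve_left hw1)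
    exact step a ha1 ha2 (step r hpr hqr prb a ha1 ha2 ha3) s hps hqs (by rw [h.symm]; exact ha4)
  have pqsb : ∀ s, f p s = 0 → f q s = 0 → T (p + s + q) b = 0 := by
    intro s hps hqs
    have hf : f (p + s) q = 1 := by
      rw [h.add, hpq, h.symm s q, hqs, add_zero]
    rw [h.conj (p + s) q hf b, psb s hps hqs, qb, map_zero, map_zero, add_zero, add_zero, add_zero]
  have qsb : ∀ s, f p s = 0 → f q s = 0 → T (s + q) b = 0 := by
    intro s hps hqs
    have hf : f p (p + s + q) = 1 := by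
      rw [h.addr, h.addr, h.alt, hps, hpq, zero_add, zero_add]
    have := h.conj p (p + s + q) hf b
    rw [pb, pqsb s hps hqs, map_zero, map_zero, add_zero, add_zero, add_zero] at this
    have e : p + (p + s + q) = s + q := by
      rw [add_assoc p s q, h.vv]
    rw [e] at this
    exact this
  have all : b = 0 := by
    refine h.ker b (fun v => ?_)
    obtain ⟨s, h1, h2, _, hv⟩ := h.proj hpq v
    rw [hv]
    rcases z2 (f p v) with a | a <;> rcases z2 (f q v) with b' | b'
    · rw [a, b']; simp only [zero_ne_one, if_false, add_zero]; exact sb s h1 h2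
    · rw [a, b']; simp only [zero_ne_one, if_false, if_true, add_zero]
      rw [add_comm s p]; exact psb s h1 h2
    · rw [a, b']; simp only [zero_ne_one, if_false, if_true, add_zero]; exact qsb s h1 h2
    · rw [a, b']; simp only [if_true]
      rw [add_comm s p]; exact pqsb s h1 h2
  exact h.eq_of_add all

theorem range_perp_le (h : OpSys f T) {p q s : E} (hpq : f p q = 1) (hps : f p s = 0) (hqs : f q s = 0) :
    (T s).range ≤ (T p).range ⊔ (T q).range := by
  intro x hx
  have hsp : f s p = 0 := by rw [h.symm]; exact hps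
  have hsq : f s q = 0 := by rw [h.symm]; exact hqs
  rw [h.split hsp hsq hpq hx]
  exact AddSubgroup.add_mem_sup ⟨_, rfl⟩ ⟨_, rfl⟩

theorem range_p_le (h : OpSys f T) {p q s : E} (hpq : f p q = 1) (hps : f p s = 0) (hqs : f q s = 0) :
    (T (p + s)).range ≤ (T p).range ⊔ (T q).range := by
  rintro _ ⟨y, rfl⟩
  have hf : f (p + s) q = 1 := by rw [h.add, hpq, h.symm s q, hqs, add_zero]
  rw [← h.tri (p + s) q hf y, h.key hpq hps hqs ⟨_, rfl⟩]
  refine AddSubgroup.add_mem _ ((le_sup_left : (T p).range ≤ _) ⟨_, rfl⟩) ?_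
  exact h.range_perp_le hpq hps hqs ⟨_, rfl⟩

/-- every `Σ_v` is in `Σ_p + Σ_q` -/
theorem range_le (h : OpSys f T) {p q : E} (hpq : f p q = 1) (v : E) :
    (T v).range ≤ (T p).range ⊔ (T q).range := by
  have hqp : f q p = 1 := by rw [h.symm]; exact hpq
  obtain ⟨s, h1, h2, _, hv⟩ := h.proj hpq v
  rw [hv]
  rcases z2 (f p v) with a | a <;> rcases z2 (f q v) with b' | b'
  · rw [a, b']; simp only [zero_ne_one, if_false, add_zero]; exact h.range_perp_le hpq h1 h2
  · rw [a, b']; simp only [zero_ne_one, if_false, if_true, add_zero]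
    rw [add_comm s p]; exact h.range_p_le hpq h1 h2
  · rw [a, b']; simp only [zero_ne_one, if_false, if_true, add_zero]
    rw [add_comm s q, sup_comm]; exact h.range_p_le hqp h2 h1
  · rw [a, b']; simp only [if_true]
    rw [add_comm s p]
    rintro _ ⟨y, rfl⟩
    have hf : f (p + s) q = 1 := by rw [h.add, hpq, h.symm s q, h2, add_zero]
    rw [h.conj (p + s) q hf y]
    have m1 := h.range_p_le hpq h1 h2
    have m2 : (T q).range ≤ (T p).range ⊔ (T q).range := le_sup_right
    exact AddSubgroup.add_mem _ (AddSubgroup.add_mem _ (AddSubgroup.add_mem _ (m1 ⟨_, rfl⟩) (m2 ⟨_, rfl⟩))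
      (m1 ⟨_, rfl⟩)) (m2 ⟨_, rfl⟩)

/-- `S = Σ_p + Σ_q` -/
theorem sum (h : OpSys f T) (gen : ∀ W : AddSubgroup S, (∀ v, (T v).range ≤ W) → W = ⊤) {p q : E}
    (hpq : f p q = 1) : (T p).range ⊔ (T q).range = ⊤ :=
  gen _ (h.range_le hpq)

theorem disj (h : OpSys f T) {p q : E} (hpq : f p q = 1) {x : S} (hp : x ∈ (T p).range)
    (hq : x ∈ (T q).range) : x = 0 := by
  rw [← h.fix hpq hq, h.zero_of_mem hp, map_zero]

theorem ker_eq (h : OpSys f T) (gen : ∀ W : AddSubgroup S, (∀ v, (T v).range ≤ W) → W = ⊤) {p q : E}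
    (hpq : f p q = 1) {x : S} (hx : T q x = 0) : x ∈ (T q).range := by
  have : x ∈ (T p).range ⊔ (T q).range := by rw [h.sum gen hpq]; trivial
  obtain ⟨a, ha, b, hb, rfl⟩ := AddSubgroup.mem_sup.1 this
  rw [map_add, h.zero_of_mem hb, add_zero] at hx
  have : a = 0 := by rw [← h.fix (by rw [h.symm]; exact hpq) ha, hx, map_zero]
  rw [this, zero_add]; exact hb

theorem card_S (h : OpSys f T) (gen : ∀ W : AddSubgroup S, (∀ v, (T v).range ≤ W) → W = ⊤) {p q : E}
    (hpq : f p q = 1) : Nat.card S = Nat.card (T q).range ^ 2 := by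
  have hqp : f q p = 1 := by rw [h.symm]; exact hpq
  let φ : S → (T q).range × (T q).range := fun x => (⟨T q x, ⟨x, rfl⟩⟩, ⟨T q (T p x), ⟨T p x, rfl⟩⟩)
  have hφ : Function.Bijective φ := by
    constructor
    · intro x y hxy
      have e1 : T q x = T q y := congrArg (fun t => (t.1 : S)) hxy
      have e2 : T q (T p x) = T q (T p y) := congrArg (fun t => (t.2 : S)) hxy
      have d1 : T q (x - y) = 0 := by rw [map_sub, e1, sub_self]
      have d2 : T q (T p (x - y)) = 0 := by rw [map_sub, map_sub, e2, sub_self]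
      have m := h.ker_eq gen hpq d1
      rw [h.fix hpq m] at d2
      exact sub_eq_zero.1 d2
    · rintro ⟨⟨_, a, rfl⟩, ⟨_, b, rfl⟩⟩
      refine ⟨T p (T q a) + T q b, ?_⟩
      apply Prod.ext
      · apply Subtype.ext
        show T q (T p (T q a) + T q b) = T q a
        rw [map_add, h.sq, add_zero, h.tri q p hqp]
      · apply Subtype.ext
        show T q (T p (T p (T q a) + T q b)) = T q b
        rw [map_add, h.sq, zero_add, h.tri q p hqp]
  rw [Nat.card_congr (Equiv.ofBijective φ hφ), Nat.card_prod, pow_two]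

/-- if `T_r = T_{r'}` on `Σ_q` for a hyperbolic pair `r, r' ⟂ q` then `Σ_q = 0` -/
theorem inj_one (h : OpSys f T) {q r r' : E} (hr : f q r = 0) (hr' : f q r' = 0) (hrr : f r r' = 1)
    (e : ∀ x ∈ (T q).range, T r x = T r' x) : ∀ x ∈ (T q).range, x = 0 := by
  have a : ∀ x ∈ (T q).range, T r x = 0 := fun x hx =>
    h.lemE hr hr' hrr (h.mem_of_comm hr hx) (h.sq r x) (by rw [← e _ (h.mem_of_comm hr hx), h.sq])
  exact fun x hx => h.lemE hr hr' hrr hx (a x hx) (by rw [← e x hx]; exact a x hx)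

/-- if `T_r = T_{r'}` on `Σ_q`, `r, r', s ⟂ q`, `f s r = 1`, `f s r' = 0` then `Σ_q = 0` -/
theorem inj_two (h : OpSys f T) {q r r' s : E} (hr : f q r = 0) (hs : f q s = 0)
    (hsr : f s r = 1) (hsr' : f s r' = 0)
    (e : ∀ x ∈ (T q).range, T r x = T r' x) : ∀ x ∈ (T q).range, x = 0 := by
  have hrs : f r s = 1 := by rw [h.symm]; exact hsr
  have a : ∀ x ∈ (T q).range, T r x = 0 := by
    intro x hx
    have hsx := h.mem_of_comm hs hx
    rw [← h.tri r s hrs x, e x hx, h.comm s r' hsr', ← e _ hsx, h.sq]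
  intro x hx
  have b : T s x = 0 := h.lemE hr hs hrs (h.mem_of_comm hs hx) (a _ (h.mem_of_comm hs hx)) (h.sq s x)
  exact h.lemE hr hs hrs hx (a x hx) b

/-- `r ↦ T_r` on `Σ_q`, `r ⟂ q`, determines `f(·, r)` on `q^⟂` -/
theorem inj (h : OpSys f T) {q r r' s : E} (hne : (T q).range ≠ ⊥) (hr : f q r = 0) (hr' : f q r' = 0)
    (hs : f q s = 0) (e : ∀ x ∈ (T q).range, T r x = T r' x) : f s r = f s r' := by
  by_contra hcon
  apply hne
  rw [eq_bot_iff]
  intro x hx
  rw [AddSubgroup.mem_bot]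
  rcases z2 (f s r) with a | a
  · have a' : f s r' = 1 := (z2 _).resolve_left (fun c => hcon (by rw [a, c]))
    exact h.inj_two hr' hs a' a (fun x hx => (e x hx).symm) x hx
  · have a' : f s r' = 0 := (z2 _).resolve_right (fun c => hcon (by rw [a, c]))
    exact h.inj_two hr hs a a' e x hx

end OpSys

/-- the arithmetic end of (18): `2 k - 2 = 2 ^ (m - 1) e`, `k ≤ m`, `2 ≤ k` -/
theorem arith {m k e : ℕ} (h : 2 * k - 2 = 2 ^ (m - 1) * e) (hkm : k ≤ m) (hk : 2 ≤ k) :
    (m = 2 ∧ k = 2 ∧ e = 1) ∨ (m = 3 ∧ k = 3 ∧ e = 1) := by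
  have he : e ≠ 0 := by
    rintro rfl
    simp at h
    omega
  have h1 : 2 ^ (m - 1) ≤ 2 * k - 2 := by
    rw [h]; exact Nat.le_mul_of_pos_right _ (Nat.pos_of_ne_zero he)
  have h2 : 2 ^ (m - 1) ≤ 2 * m - 2 := le_trans h1 (by omega)
  have h3 : m ≤ 3 := by
    by_contra hc
    push Not at hc
    have : ∀ n, 4 ≤ n → 2 * n - 2 < 2 ^ (n - 1) := by
      intro n hn
      induction n, hn using Nat.le_induction with
      | base => norm_num
      | succ n hn ih =>
        have e1 : 2 ^ (n + 1 - 1) = 2 * 2 ^ (n - 1) := by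
          have : n + 1 - 1 = (n - 1) + 1 := by omega
          rw [this, pow_succ]; ring
        rw [e1]; omega
    exact absurd (this m (by omega)) (by omega)
  have h4 : m = 2 ∨ m = 3 := by omega
  rcases h4 with rfl | rfl
  · have : k = 2 := by omega
    subst this
    left
    refine ⟨rfl, rfl, ?_⟩
    norm_num at h; omega
  · have : k = 2 ∨ k = 3 := by omega
    rcases this with rfl | rfl
    · norm_num at h; omega
    · right
      refine ⟨rfl, rfl, ?_⟩
      norm_num at h; omega

/-- the same with cardinalities: `|Σ_q| = 2 ^ (2k-2) = c ^ (2 ^ (m-1))` -/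
theorem arith_card {m k c : ℕ} (h : 2 ^ (2 * k - 2) = c ^ (2 ^ (m - 1))) (hkm : k ≤ m) (hk : 2 ≤ k) :
    (m = 2 ∧ k = 2 ∧ c = 2) ∨ (m = 3 ∧ k = 3 ∧ c = 2) := by
  have hc : c ∣ 2 ^ (2 * k - 2) := by
    rw [h]; exact dvd_pow_self c (by positivity)
  obtain ⟨e, _, rfl⟩ := (Nat.dvd_prime_pow Nat.prime_two).1 hc
  rw [← pow_mul] at h
  have h' : 2 * k - 2 = e * 2 ^ (m - 1) := Nat.pow_right_injective (le_refl 2) h
  rcases arith (m := m) (k := k) (e := e) (by rw [h', mul_comm]) hkm hk with ⟨a, b, rfl⟩ | ⟨a, b, rfl⟩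
  · exact Or.inl ⟨a, b, by norm_num⟩
  · exact Or.inr ⟨a, b, by norm_num⟩

/-! ### (18): the count of isotropic pairs -/

/-- the transvection with centre `u` -/
def tau {L : Type*} [AddCommGroup L] (g : L → L → ZMod 2) (u v : L) : L := if g u v = 1 then v + u else v

section Trans

variable {L : Type*} [AddCommGroup L] {g : L → L → ZMod 2}

theorem tau_one {u v : L} (h : g u v = 1) : tau g u v = v + u := if_pos h

theorem tau_zero {u v : L} (h : g u v = 0) : tau g u v = v := if_neg (by rw [h]; decide)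

theorem tau_iso (add : ∀ u v w, g (u + v) w = g u w + g v w) (symm : ∀ v w, g v w = g w v)
    (alt : ∀ v, g v v = 0) (u v w : L) : g (tau g u v) (tau g u w) = g v w := by
  have addr : ∀ u v w, g w (u + v) = g w u + g w v := fun u v w => by
    rw [symm, add, symm u, symm v]
  rcases z2 (g u v) with a | a <;> rcases z2 (g u w) with b | b
  · rw [tau_zero a, tau_zero b]
  · rw [tau_zero a, tau_one b, addr, symm v u, a, add_zero]
  · rw [tau_one a, tau_zero b, add, b, add_zero]
  · rw [tau_one a, tau_one b, add, addr, addr, symm v u, a, b, alt]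
    rcases z2 (g v w) with c | c <;> rw [c] <;> decide

theorem tau_add (two : ∀ x : L, x + x = 0) (add : ∀ u v w, g (u + v) w = g u w + g v w)
    (symm : ∀ v w, g v w = g w v) (u v w : L) : tau g u (v + w) = tau g u v + tau g u w := by
  have addr : ∀ u v w, g w (u + v) = g w u + g w v := fun u v w => by
    rw [symm, add, symm u, symm v]
  rcases z2 (g u v) with a | a <;> rcases z2 (g u w) with b | b
  · rw [tau_zero a, tau_zero b, tau_zero (by rw [addr, a, b]; decide)]
  · rw [tau_zero a, tau_one b, tau_one (by rw [addr, a, b]; decide), add_assoc]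
  · rw [tau_one a, tau_zero b, tau_one (by rw [addr, a, b]; decide)]; abel
  · rw [tau_one a, tau_one b, tau_zero (by rw [addr, a, b]; decide)]
    have : v + u + (w + u) = v + w + (u + u) := by abel
    rw [this, two, add_zero]

/-- transvections are transitive on the non-radical vectors -/
theorem trans1 (two : ∀ x : L, x + x = 0) (add : ∀ u v w, g (u + v) w = g u w + g v w)
    (symm : ∀ v w, g v w = g w v) (alt : ∀ v, g v v = 0) (P : L → Prop)
    (move : ∀ u v, P v → P (tau g u v)) {v0 v : L} (h0 : P v0) (hv0 : ∃ y, g v0 y = 1)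
    (hv : ∃ y, g v y = 1) : P v := by
  have addr : ∀ u v w, g w (u + v) = g w u + g w v := fun u v w => by
    rw [symm, add, symm u, symm v]
  have step : ∀ a b, g a b = 1 → P a → P b := by
    intro a b hab ha
    have h1 : g (a + b) a = 1 := by rw [add, alt, symm, hab, zero_add]
    have := move (a + b) a ha
    rw [tau_one h1, ← add_assoc, two, zero_add] at this
    exact this
  obtain ⟨y, hy⟩ := hv0
  obtain ⟨y', hy'⟩ := hv
  rcases z2 (g v y) with a | a
  · rcases z2 (g v0 y') with b | b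
    · exact step (y + y') v (by rw [symm, addr, a, hy', zero_add])
        (step v0 (y + y') (by rw [addr, hy, b, add_zero]) h0)
    · exact step y' v (by rw [symm, hy']) (step v0 y' b h0)
  · exact step y v (by rw [symm, a]) (step v0 y hy h0)

/-- transvections are transitive on the pairs `v, w`, `v ≠ 0`, `w ∈ v^⟂ ∖ {0, v}` (mod the radical) -/
theorem trans2 (two : ∀ x : L, x + x = 0) (add : ∀ u v w, g (u + v) w = g u w + g v w)
    (symm : ∀ v w, g v w = g w v) (alt : ∀ v, g v v = 0) (C : L → L → Prop)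
    (move : ∀ u v w, C v w → C (tau g u v) (tau g u w)) {a0 b0 v w : L} (h0 : C a0 b0)
    (h0g : g a0 b0 = 0) (ha0 : ∃ y, g a0 y = 1) (hb0 : ∃ y, g b0 y = 1) (hab0 : ∃ y, g (a0 + b0) y = 1)
    (hg : g v w = 0) (hv : ∃ y, g v y = 1) (hw : ∃ y, g w y = 1) (hvw : ∃ y, g (v + w) y = 1) : C v w := by
  have addr : ∀ u v w, g w (u + v) = g w u + g w v := fun u v w => by
    rw [symm, add, symm u, symm v]
  have iso := tau_iso add symm alt
  have tadd := tau_add two add symm
  have hP : ∃ b, C v b ∧ g v b = 0 ∧ (∃ y, g b y = 1) ∧ ∃ y, g (v + b) y = 1 := by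
    refine trans1 two add symm alt
      (fun v => ∃ b, C v b ∧ g v b = 0 ∧ (∃ y, g b y = 1) ∧ ∃ y, g (v + b) y = 1) ?_
      ⟨b0, h0, h0g, hb0, hab0⟩ ha0 hv
    rintro u v ⟨b, h1, h2, ⟨y, h3⟩, y', h4⟩
    refine ⟨tau g u b, move u v b h1, by rw [iso, h2], ⟨tau g u y, by rw [iso, h3]⟩, tau g u y', ?_⟩
    rw [← tadd, iso, h4]
  have step : ∀ b w, g v b = 0 → g v w = 0 → g b w = 1 → C v b → C v w := by
    intro b w hvb hvw hbw hC
    have h1 : g (b + w) b = 1 := by rw [add, alt, symm, hbw, zero_add]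
    have h2 : g (b + w) v = 0 := by rw [add, symm, hvb, symm, hvw, add_zero]
    have := move (b + w) v b hC
    rw [tau_one h1, tau_zero h2, ← add_assoc, two, zero_add] at this
    exact this
  have fn : ∀ b, (∃ y, g b y = 1) → (∃ y, g (v + b) y = 1) → ∃ y, g v y = 0 ∧ g b y = 1 := by
    rintro b ⟨y1, h1⟩ ⟨y2, h2⟩
    rcases z2 (g v y1) with a | a
    · exact ⟨y1, a, h1⟩
    · rw [add] at h2
      rcases z2 (g v y2) with b' | b'
      · exact ⟨y2, b', by rw [b', zero_add] at h2; exact h2⟩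
      · have h3 : g b y2 = 0 := by
          rw [b'] at h2
          rcases z2 (g b y2) with c | c
          · exact c
          · rw [c] at h2; exact absurd h2 (by decide)
        exact ⟨y1 + y2, by rw [addr, a, b']; decide, by rw [addr, h1, h3, add_zero]⟩
  obtain ⟨b, hC, hvb, hb, hvb'⟩ := hP
  obtain ⟨y, hy1, hy2⟩ := fn b hb hvb'
  obtain ⟨y', hy1', hy2'⟩ := fn w hw hvw
  have key : ∃ u, g v u = 0 ∧ g b u = 1 ∧ g w u = 1 := by
    rcases z2 (g w y) with a | a
    · rcases z2 (g b y') with c | c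
      · exact ⟨y + y', by rw [addr, hy1, hy1', add_zero], by rw [addr, hy2, c, add_zero],
          by rw [addr, a, hy2', zero_add]⟩
      · exact ⟨y', hy1', c, hy2'⟩
    · exact ⟨y, hy1, hy2, a⟩
  obtain ⟨u, hu1, hu2, hu3⟩ := key
  exact step u w hu1 hg (by rw [symm]; exact hu3) (step b u hvb hu1 hu2 hC)

end Trans

namespace OpSys

variable {E S : Type*} [AddCommGroup E] [AddCommGroup S] {f : E → E → ZMod 2} {T : E → S →+ S}

/-- `T_{s+q} = T_s` on `Σ_q` -/
theorem shift (h : OpSys f T) {q s : E} (hs : f q s = 0) {x : S} (hx : x ∈ (T q).range) :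
    T (s + q) x = T s x := by
  obtain ⟨y, rfl⟩ := hx
  rw [add_comm]
  exact h.r3l hs y

/-- `|T_s Σ_q|² ≤ |Σ_q|` -/
theorem card_W_le [Finite S] (h : OpSys f T) {q s : E} (hs : f q s = 0) :
    Nat.card ((T q).range.map (T s)) ^ 2 ≤ Nat.card (T q).range := by
  have m1 : (T q).range.map (T s) ≤ (T q).range := by
    rintro _ ⟨x, hx, rfl⟩; exact h.mem_of_comm hs hx
  let φ : (T q).range →+ S := (T s).comp (T q).range.subtype
  have hr : φ.range = (T q).range.map (T s) := by
    ext y
    constructor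
    · rintro ⟨x, rfl⟩; exact ⟨x, x.2, rfl⟩
    · rintro ⟨x, hx, rfl⟩; exact ⟨⟨x, hx⟩, rfl⟩
  have c1 : Nat.card (T q).range = Nat.card φ.range * Nat.card φ.ker := by
    rw [AddSubgroup.card_eq_card_quotient_mul_card_addSubgroup φ.ker]
    congr 1
    exact Nat.card_congr (QuotientAddGroup.quotientKerEquivRange φ).toEquiv
  have c2 : Nat.card ((T q).range.map (T s)) ≤ Nat.card φ.ker := by
    refine Nat.card_le_card_of_injective
      (fun y : ((T q).range.map (T s) : AddSubgroup S) => (⟨⟨y.1, m1 y.2⟩, ?_⟩ : φ.ker)) ?_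
    · obtain ⟨x, _, hx⟩ := y.2
      show T s y.1 = 0
      rw [← hx]; exact h.sq s x
    · intro y y' hy
      apply Subtype.ext
      exact congrArg (fun t : φ.ker => (t.1 : S)) hy
  rw [c1, hr, pow_two]
  exact Nat.mul_le_mul_left _ c2

variable {L : Type*} [AddCommGroup L]

/-- every isotropic pair lies in some `W_s = T_s Σ_q`, `s ⟂ q` -/
theorem cover [Finite S] (h : OpSys f T) {q : E} (ι : L →+ S) (hι : ι.range = (T q).range)
    (g : L → L → ZMod 2) (two : ∀ x : L, x + x = 0) (gadd : ∀ u v w, g (u + v) w = g u w + g v w)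
    (gsymm : ∀ v w, g v w = g w v) (galt : ∀ v, g v v = 0) (gker : ∀ x, ι x ≠ 0 → ∃ y, g x y = 1)
    (grad : ∀ x, ι x = 0 → ∀ y, g x y = 0)
    (iso : ∀ s, f q s = 0 → ∀ x y x' y', ι x' = T s (ι x) → ι y' = T s (ι y) →
      g (x + x') (y + y') = g x y)
    (tv : ∀ u : L, ∀ s, f q s = 0 → ∃ s', f q s' = 0 ∧ ∀ x, ι x ∈ (T q).range.map (T s) →
      ι (tau g u x) ∈ (T q).range.map (T s'))
    (m2 : ∃ s s', f q s = 0 ∧ f q s' = 0 ∧ f s s' = 1) (v w : L) (hvw : g v w = 0) :
    ∃ s, f q s = 0 ∧ ι v ∈ (T q).range.map (T s) ∧ ι w ∈ (T q).range.map (T s) := by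
  obtain ⟨s0, s0', hs0, hs0', hss⟩ := m2
  have zq : ∀ x : L, ι x = 0 → ι x ∈ (T q).range.map (T q) := fun x hx => by
    rw [hx]; exact AddSubgroup.zero_mem _
  have memι : ∀ x, ι x ∈ (T q).range := fun x => by rw [← hι]; exact ⟨x, rfl⟩
  -- W_{s0}
  have lift : ∀ y ∈ (T q).range.map (T s0), ∃ x, ι x = y := by
    rintro _ ⟨x, hx, rfl⟩
    have : T s0 x ∈ ι.range := by rw [hι]; exact h.mem_of_comm hs0 hx
    exact this
  -- t.i.
  have ti : ∀ x y, ι x ∈ (T q).range.map (T s0) → ι y ∈ (T q).range.map (T s0) → g x y = 0 := by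
    rintro x y ⟨a, ha, hax⟩ ⟨b, hb, hby⟩
    rw [← hι] at ha hb
    obtain ⟨a', rfl⟩ := ha
    obtain ⟨b', rfl⟩ := hb
    have e1 := iso s0 hs0 x b' 0 y (by rw [map_zero, ← hax, h.sq]) hby.symm
    have addr : ∀ u v w, g w (u + v) = g w u + g w v := fun u v w => by
      rw [gsymm, gadd, gsymm u, gsymm v]
    rw [add_zero, addr] at e1
    exact left_eq_add.1 e1.symm
  have point : ∀ v : L, ∃ s, f q s = 0 ∧ ι v ∈ (T q).range.map (T s) := by
    intro v
    by_cases hv : ι v = 0
    · exact ⟨q, h.alt q, zq v hv⟩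
    have : ∃ y ∈ (T q).range.map (T s0), y ≠ 0 := by
      by_contra hcon
      push Not at hcon
      apply hv
      have z : ∀ x ∈ (T q).range, T s0 x = 0 := fun x hx => hcon _ ⟨x, hx, rfl⟩
      rw [h.split hs0 hs0' hss (memι v), z _ (memι v), map_zero, add_zero]
      exact z _ (h.mem_of_comm hs0' (memι v))
    obtain ⟨y, hy, hy0⟩ := this
    obtain ⟨v0, rfl⟩ := lift y hy
    refine trans1 two gadd gsymm galt (fun v => ∃ s, f q s = 0 ∧ ι v ∈ (T q).range.map (T s)) ?_
      ⟨s0, hs0, hy⟩ (gker v0 hy0) (gker v hv)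
    rintro u v ⟨s, hs, hv⟩
    obtain ⟨s', hs', h'⟩ := tv u s hs
    exact ⟨s', hs', h' v hv⟩
  by_cases hv : ι v = 0
  · obtain ⟨s, hs, hw⟩ := point w
    exact ⟨s, hs, by rw [hv]; exact AddSubgroup.zero_mem _, hw⟩
  by_cases hw : ι w = 0
  · obtain ⟨s, hs, hv⟩ := point v
    exact ⟨s, hs, hv, by rw [hw]; exact AddSubgroup.zero_mem _⟩
  by_cases hvw' : ι (v + w) = 0
  · obtain ⟨s, hs, hv⟩ := point v
    rw [map_add] at hvw'
    rw [← h.eq_of_add hvw']
    exact ⟨s, hs, hv, hv⟩
  -- an independent pair in W_{s0}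
  have ind : ∃ a b, ι a ∈ (T q).range.map (T s0) ∧ ι b ∈ (T q).range.map (T s0) ∧ ι a ≠ 0 ∧ ι b ≠ 0 ∧
      ι (a + b) ≠ 0 := by
    classical
    by_contra hcon
    push Not at hcon
    -- |W| ≤ 2
    have cW : Nat.card ((T q).range.map (T s0)) ≤ 2 := by
      by_cases hz : ∀ y ∈ (T q).range.map (T s0), y = 0
      · have : (T q).range.map (T s0) = ⊥ := by
          rw [eq_bot_iff]; intro y hy; exact hz y hy
        rw [this]; simp
      push Not at hz
      obtain ⟨y, hy, hy0⟩ := hz
      obtain ⟨a, rfl⟩ := lift y hy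
      have all : ∀ y' ∈ (T q).range.map (T s0), y' = 0 ∨ y' = ι a := by
        intro y' hy'
        obtain ⟨b, rfl⟩ := lift y' hy'
        by_cases hb : ι b = 0
        · exact Or.inl hb
        · right
          have := hcon a b hy hy' hy0 hb
          rw [map_add] at this
          exact (h.eq_of_add this).symm
      let j : ((T q).range.map (T s0) : AddSubgroup S) → Bool := fun y => decide (y.1 = 0)
      have hj : Function.Injective j := by
        intro y y' e
        apply Subtype.ext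
        have e' : decide (y.1 = 0) = decide (y'.1 = 0) := e
        rw [decide_eq_decide] at e'
        rcases all y.1 y.2 with c | c <;> rcases all y'.1 y'.2 with d | d
        · rw [c, d]
        · rw [e'.1 c] at d ⊢; rw [c]
        · rw [e'.2 d, d]
        · rw [c, d]
      exact le_trans (Nat.card_le_card_of_injective j hj) (by simp)
    have cq : Nat.card (T q).range ≤ 4 := by
      rw [h.card_sq hs0 hs0' hss (T q).range (le_refl _) (fun x hx => h.mem_of_comm hs0 hx)
        (fun x hx => h.mem_of_comm hs0' hx)]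
      nlinarith
    -- all elements of Σ_q are 0, v, w, v + w
    have all : ∀ x : L, ι x = 0 ∨ ι x = ι v ∨ ι x = ι w ∨ ι x = ι (v + w) := by
      intro x
      by_contra hcon'
      push Not at hcon'
      obtain ⟨c1, c2, c3, c4⟩ := hcon'
      have nvw : ι v ≠ ι w := fun e => hvw' (by rw [map_add, e, h.twoS])
      have nv : ι v ≠ ι (v + w) := fun e => hw (by rw [map_add] at e; exact left_eq_add.1 e)
      have nw : ι w ≠ ι (v + w) := fun e => hv (by rw [map_add] at e; exact right_eq_add.1 e)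
      let F : Fin 5 → (T q).range := ![⟨0, AddSubgroup.zero_mem _⟩, ⟨ι v, memι v⟩, ⟨ι w, memι w⟩,
        ⟨ι (v + w), memι _⟩, ⟨ι x, memι x⟩]
      have hF : Function.Injective F := by
        intro i j hij
        have hij' : (F i : S) = F j := congrArg Subtype.val hij
        fin_cases i <;> fin_cases j <;> first
          | rfl
          | (exfalso
             revert hij'
             simp [F, -map_add]
             done)
          | (exfalso
             revert hij'
             simp [F, -map_add]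
             first | assumption | (exact fun e => hv e.symm) | (exact fun e => hw e.symm) |
               (exact fun e => hvw' e.symm) | (exact fun e => c1 e.symm) | (exact fun e => c2 e.symm) |
               (exact fun e => c3 e.symm) | (exact fun e => c4 e.symm) | (exact fun e => nvw e.symm) |
               (exact fun e => nv e.symm) | (exact fun e => nw e.symm))
      have := Nat.card_le_card_of_injective F hF
      rw [Nat.card_eq_fintype_card, Fintype.card_fin] at this
      omega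
    obtain ⟨y, hy⟩ := gker v hv
    have gd : ∀ x x', ι x = ι x' → ∀ z, g x z = g x' z := by
      intro x x' e z
      have : g (x + x') z = 0 := grad _ (by rw [map_add, e, h.twoS]) z
      rw [gadd] at this
      rcases z2 (g x z) with c | c <;> rcases z2 (g x' z) with d | d <;> rw [c, d] at this ⊢
      · exact absurd this (by decide)
      · exact absurd this (by decide)
    have : g y v = 0 := by
      rcases all y with c | c | c | c
      · exact grad y c v
      · rw [gd y v c, galt]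
      · rw [gd y w c, gsymm, hvw]
      · rw [gd y (v + w) c, gadd, galt, gsymm, hvw, add_zero]
    rw [gsymm, this] at hy
    exact absurd hy (by decide)
  obtain ⟨a, b, ha, hb, ha0, hb0, hab⟩ := ind
  refine trans2 two gadd gsymm galt
    (fun v w => ∃ s, f q s = 0 ∧ ι v ∈ (T q).range.map (T s) ∧ ι w ∈ (T q).range.map (T s)) ?_
    (a0 := a) (b0 := b) ⟨s0, hs0, ha, hb⟩ (ti a b ha hb) (gker a ha0) (gker b hb0) (gker _ hab) hvw
    (gker v hv) (gker w hw) (gker _ hvw')
  rintro u v w ⟨s, hs, hv, hw⟩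
  obtain ⟨s', hs', h'⟩ := tv u s hs
  exact ⟨s', hs', h' v hv, h' w hw⟩

/-- the count: `16^n |R| 2 ≤ |E| 4^n`, `|Σ_q| = 4^n` -/
theorem count [Finite E] [Finite S] (h : OpSys f T) {q : E} (R : AddSubgroup E)
    (hR : ∀ c ∈ R, ∀ e, f c e = 0) (hqR : q ∉ R) {p : E} (hpq : f p q = 1) (g : S → S → ZMod 2)
    (gadd : ∀ v ∈ (T q).range, ∀ w ∈ (T q).range, ∀ w' ∈ (T q).range, g v (w + w') = g v w + g v w')
    (cov : ∀ v ∈ (T q).range, ∀ w ∈ (T q).range, g v w = 0 →
      ∃ s, f q s = 0 ∧ v ∈ (T q).range.map (T s) ∧ w ∈ (T q).range.map (T s))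
    {n : ℕ} (hn : Nat.card (T q).range = 4 ^ n) : 2 * 4 ^ n * Nat.card R ≤ Nat.card E := by
  classical
  have hqp : f q p = 1 := by rw [h.symm]; exact hpq
  -- D = q^⟂
  let φ : E →+ ZMod 2 :=
    { toFun := fun d => f q d
      map_zero' := by
        have := h.addr 0 0 q; simp at this; exact this
      map_add' := fun x y => h.addr x y q }
  have hφ : Function.Surjective φ := by
    intro a
    rcases z2 a with rfl | rfl
    · exact ⟨0, map_zero φ⟩
    · exact ⟨p, hqp⟩
  have cD : Nat.card E = 2 * Nat.card φ.ker := by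
    have c2 : Nat.card E = Nat.card (E ⧸ φ.ker) * Nat.card φ.ker :=
      AddSubgroup.card_eq_card_quotient_mul_card_addSubgroup φ.ker
    have c3 : Nat.card (E ⧸ φ.ker) = 2 := by
      rw [Nat.card_congr (QuotientAddGroup.quotientKerEquivOfSurjective φ hφ).toEquiv]
      simp
    rw [c2, c3]
  have memD : ∀ d, d ∈ φ.ker ↔ f q d = 0 := fun d => Iff.rfl
  -- chosen partner for every v
  let e : (T q).range → (T q).range := fun v => if hv : ∃ e : (T q).range, g v e = 1 then hv.choose else 0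
  have he : ∀ v w : (T q).range, g v w = 1 → g v (e v) = 1 := by
    intro v w hvw
    have hv : ∃ e : (T q).range, g v e = 1 := ⟨w, hvw⟩
    show g v (dite _ _ _ : (T q).range) = 1
    rw [dif_pos hv]; exact hv.choose_spec
  let par : (T q).range → (T q).range → (T q).range := fun v w => if g v w = 0 then w else w + e v
  have hpar : ∀ v w : (T q).range, g v (par v w) = 0 := by
    intro v w
    rcases z2 (g v w) with a | a
    · show g v (ite _ _ _ : (T q).range) = 0
      rw [if_pos a, a]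
    · show g v (ite _ _ _ : (T q).range) = 0
      rw [if_neg (by rw [a]; decide)]
      show g v ((w : S) + e v) = 0
      rw [gadd v v.2 w w.2 _ (e v).2, a, he v w a]; decide
  have hex : ∀ v w : (T q).range, ∃ s : φ.ker, (v : S) ∈ (T q).range.map (T s) ∧
      ((par v w : (T q).range) : S) ∈ (T q).range.map (T s) := by
    intro v w
    obtain ⟨s, hs, h1, h2⟩ := cov v v.2 (par v w) (par v w).2 (hpar v w)
    exact ⟨⟨s, hs⟩, h1, h2⟩
  let sel : (T q).range → (T q).range → φ.ker := fun v w =>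
    if hx : ∃ s : φ.ker, (v : S) ∈ (T q).range.map (T s) ∧ (w : S) ∈ (T q).range.map (T s)
    then hx.choose else 0
  have hsel : ∀ v w : (T q).range, (v : S) ∈ (T q).range.map (T (sel v (par v w) : φ.ker)) ∧
      ((par v w : (T q).range) : S) ∈ (T q).range.map (T (sel v (par v w) : φ.ker)) := by
    intro v w
    have hx := hex v w
    show (v : S) ∈ (T q).range.map (T ((dite _ _ _ : φ.ker) : E)) ∧
      ((par v w : (T q).range) : S) ∈ (T q).range.map (T ((dite _ _ _ : φ.ker) : E))
    rw [dif_pos hx]; exact hx.choose_spec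
  -- shift
  have sh : ∀ (s : E) (c : E) (b : Bool), f q s = 0 → c ∈ R →
      (T q).range.map (T s) = (T q).range.map (T (s + (c + if b then q else 0))) := by
    intro s c b hs hc
    have e1 : ∀ x ∈ (T q).range, T (s + (c + if b then q else 0)) x = T s x := by
      intro x hx
      have : s + (c + if b then q else 0) = (s + if b then q else 0) + c := by abel
      rw [this, h.radd _ c (hR c hc)]
      cases b
      · simp
      · simp only [if_true]; exact h.shift hs hx
    ext y
    constructor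
    · rintro ⟨x, hx, rfl⟩; exact ⟨x, hx, e1 x hx⟩
    · rintro ⟨x, hx, rfl⟩; exact ⟨x, hx, (e1 x hx).symm⟩
  have inD : ∀ (s : φ.ker) (c : R) (b : Bool), (s : E) + ((c : E) + if b then q else 0) ∈ φ.ker := by
    intro s c b
    rw [memD, h.addr, (memD _).1 s.2, h.addr, h.symm q c, hR c c.2, zero_add, zero_add]
    cases b
    · simp only [Bool.false_eq_true, if_false]
      have := h.addr 0 0 q; simp at this; exact this
    · simp only [if_true]; exact h.alt q
  let Φ : ((T q).range × (T q).range) × (R × Bool) →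
      (Σ s : φ.ker, ((T q).range.map (T s) : AddSubgroup S) × ((T q).range.map (T s) : AddSubgroup S)) × Bool :=
    fun t => (⟨⟨(sel t.1.1 (par t.1.1 t.1.2) : E) + ((t.2.1 : E) + if t.2.2 then q else 0), inD _ _ _⟩,
      ⟨t.1.1, by
        show (t.1.1 : S) ∈ (T q).range.map (T ((sel t.1.1 (par t.1.1 t.1.2) : E) + ((t.2.1 : E) + if t.2.2 then q else 0)))
        rw [← sh _ _ _ (sel t.1.1 (par t.1.1 t.1.2)).2 t.2.1.2]
        exact (hsel t.1.1 t.1.2).1⟩,
      ⟨par t.1.1 t.1.2, by
        show ((par t.1.1 t.1.2 : (T q).range) : S) ∈ (T q).range.map (T ((sel t.1.1 (par t.1.1 t.1.2) : E) + ((t.2.1 : E) + if t.2.2 then q else 0)))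
        rw [← sh _ _ _ (sel t.1.1 (par t.1.1 t.1.2)).2 t.2.1.2]
        exact (hsel t.1.1 t.1.2).2⟩⟩, decide (g t.1.1 t.1.2 = 0))
  have hΦ : Function.Injective Φ := by
    rintro ⟨⟨v, w⟩, ⟨c, b⟩⟩ ⟨⟨v', w'⟩, ⟨c', b'⟩⟩ hh
    have k1 : (v : S) = v' := congrArg (fun t => (t.1.2.1 : S)) hh
    have k2 : ((par v w : (T q).range) : S) = (par v' w' : (T q).range) := congrArg (fun t => (t.1.2.2 : S)) hh
    have k3 : (sel v (par v w) : E) + ((c : E) + if b then q else 0) =
        (sel v' (par v' w') : E) + ((c' : E) + if b' then q else 0) := congrArg (fun t => (t.1.1 : E)) hh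
    have k4 : decide (g v w = 0) = decide (g v' w' = 0) := congrArg (fun t => t.2) hh
    have k1' : v = v' := Subtype.ext k1
    subst k1'
    have k2' : par v w = par v w' := Subtype.ext k2
    have kw : w = w' := by
      rw [decide_eq_decide] at k4
      by_cases a : g v w = 0
      · have a' := k4.1 a
        have e1 : par v w = w := if_pos a
        have e2 : par v w' = w' := if_pos a'
        rw [← e1, ← e2, k2']
      · have a' : ¬ g v w' = 0 := fun c => a (k4.2 c)
        have e1 : par v w = w + e v := if_neg a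
        have e2 : par v w' = w' + e v := if_neg a'
        rw [e1, e2] at k2'
        exact add_right_cancel k2'
    subst kw
    have k5 : (c : E) + (if b then q else 0) = (c' : E) + if b' then q else 0 := add_left_cancel k3
    have kb : b = b' := by
      cases b <;> cases b'
      · rfl
      · exfalso
        simp only [Bool.false_eq_true, if_false, if_true, add_zero] at k5
        apply hqR
        have : q = (c' : E) + c := by
          rw [k5, ← add_assoc, h.twoE, zero_add]
        rw [this]; exact R.add_mem c'.2 c.2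
      · exfalso
        simp only [Bool.false_eq_true, if_false, if_true, add_zero] at k5
        apply hqR
        have : q = (c : E) + c' := by
          rw [← k5, ← add_assoc, h.twoE, zero_add]
        rw [this]; exact R.add_mem c.2 c'.2
      · rfl
    subst kb
    have kc : c = c' := Subtype.ext (add_right_cancel k5)
    subst kc
    rfl
  have c1 := Nat.card_le_card_of_injective Φ hΦ
  have : Fintype φ.ker := Fintype.ofFinite _
  rw [Nat.card_prod, Nat.card_prod, Nat.card_prod, Nat.card_prod, Nat.card_sigma] at c1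
  have cW : ∀ s : φ.ker, Nat.card (((T q).range.map (T s) : AddSubgroup S) ×
      ((T q).range.map (T s) : AddSubgroup S)) ≤ 4 ^ n := by
    intro s
    rw [Nat.card_prod, ← pow_two, ← hn]
    exact h.card_W_le s.2
  have c2 : ∑ s : φ.ker, Nat.card (((T q).range.map (T s) : AddSubgroup S) ×
      ((T q).range.map (T s) : AddSubgroup S)) ≤ Nat.card φ.ker * 4 ^ n := by
    refine le_trans (Finset.sum_le_sum (fun s _ => cW s)) ?_
    rw [Finset.sum_const, Finset.card_univ, Nat.card_eq_fintype_card, smul_eq_mul]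
  rw [hn] at c1
  have cB : Nat.card Bool = 2 := by simp
  rw [cB] at c1
  have h4 : 0 < 4 ^ n := by positivity
  have c3 : 4 ^ n * 4 ^ n * (Nat.card R * 2) ≤ Nat.card φ.ker * 4 ^ n * 2 :=
    le_trans c1 (Nat.mul_le_mul_right 2 c2)
  have c4 : (4 ^ n * 2) * (4 ^ n * Nat.card R) ≤ (4 ^ n * 2) * Nat.card φ.ker := by
    calc (4 ^ n * 2) * (4 ^ n * Nat.card R) = 4 ^ n * 4 ^ n * (Nat.card R * 2) := by ring
      _ ≤ Nat.card φ.ker * 4 ^ n * 2 := c3
      _ = (4 ^ n * 2) * Nat.card φ.ker := by ring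
  have c5 : 4 ^ n * Nat.card R ≤ Nat.card φ.ker := Nat.le_of_mul_le_mul_left c4 (by positivity)
  rw [cD]
  calc 2 * 4 ^ n * Nat.card R = 2 * (4 ^ n * Nat.card R) := by ring
    _ ≤ 2 * Nat.card φ.ker := Nat.mul_le_mul_left 2 c5

/-- **(18)**: `m = k ∈ {2, 3}`; here `|E| = 4^m |R|`, `|Σ_q| = 4^n` (`n = k - 1 ≥ 1`), `L → Σ_q` onto with a
form `g` on `L` whose radical is the kernel, `1 + T_s` isometries, transvections permute the `W_s` -/
theorem final [Finite E] [Finite S] (h : OpSys f T) {p q : E} (hpq : f p q = 1) (R : AddSubgroup E)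
    (hR : ∀ c, c ∈ R ↔ ∀ e, f e c = 0) {m n : ℕ} (hE : Nat.card E = 4 ^ m * Nat.card R)
    (hn : Nat.card (T q).range = 4 ^ n) (hn1 : 1 ≤ n) (ι : L →+ S) (hι : ι.range = (T q).range)
    (g : L → L → ZMod 2) (two : ∀ x : L, x + x = 0) (gadd : ∀ u v w, g (u + v) w = g u w + g v w)
    (gsymm : ∀ v w, g v w = g w v) (galt : ∀ v, g v v = 0) (gker : ∀ x, ι x ≠ 0 → ∃ y, g x y = 1)
    (grad : ∀ x, ι x = 0 → ∀ y, g x y = 0)
    (iso : ∀ s, f q s = 0 → ∀ x y x' y', ι x' = T s (ι x) → ι y' = T s (ι y) →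
      g (x + x') (y + y') = g x y)
    (tv : ∀ u : L, ∀ s, f q s = 0 → ∃ s', f q s' = 0 ∧ ∀ x, ι x ∈ (T q).range.map (T s) →
      ι (tau g u x) ∈ (T q).range.map (T s'))
    (m2 : ∃ s s', f q s = 0 ∧ f q s' = 0 ∧ f s s' = 1) : (m = 2 ∧ n = 1) ∨ (m = 3 ∧ n = 2) := by
  classical
  have hqR : q ∉ R := fun hq => by
    have := (hR q).1 hq p
    rw [hpq] at this; exact absurd this (by decide)
  have hR0 : 0 < Nat.card R := Nat.card_pos
  -- section of ι
  have ex : ∀ v : S, v ∈ (T q).range → ∃ x : L, ι x = v := fun v hv => by rw [← hι] at hv; exact hv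
  let σ : S → L := fun v => if hv : ∃ x : L, ι x = v then hv.choose else 0
  have hσ : ∀ v ∈ (T q).range, ι (σ v) = v := by
    intro v hv
    show ι (dite _ _ _) = v
    rw [dif_pos (ex v hv)]; exact (ex v hv).choose_spec
  have gd : ∀ x x', ι x = ι x' → ∀ z, g x z = g x' z := by
    intro x x' e z
    have : g (x + x') z = 0 := grad _ (by rw [map_add, e, h.twoS]) z
    rw [gadd] at this
    rcases z2 (g x z) with c | c <;> rcases z2 (g x' z) with d | d <;> rw [c, d] at this ⊢
    · exact absurd this (by decide)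
    · exact absurd this (by decide)
  have gaddr : ∀ u v w, g w (u + v) = g w u + g w v := fun u v w => by
    rw [gsymm, gadd, gsymm u, gsymm v]
  have cnt := h.count R (fun c hc e => by rw [h.symm]; exact (hR c).1 hc e) hqR hpq (fun v w => g (σ v) (σ w))
    (by
      intro v _ w hw w' hw'
      show g (σ v) (σ (w + w')) = g (σ v) (σ w) + g (σ v) (σ w')
      rw [← gaddr, gsymm, gsymm _ (σ w + σ w')]
      exact gd _ _ (by rw [hσ _ (AddSubgroup.add_mem _ hw hw'), map_add, hσ _ hw, hσ _ hw']) _)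
    (by
      intro v hv w hw hvw
      obtain ⟨s, h1, h2, h3⟩ := h.cover ι hι g two gadd gsymm galt gker grad iso tv m2 (σ v) (σ w) hvw
      rw [hσ v hv] at h2
      rw [hσ w hw] at h3
      exact ⟨s, h1, h2, h3⟩) hn
  have hm1 : 1 ≤ m := by
    by_contra hcon
    have : m = 0 := by omega
    rw [this, pow_zero, one_mul] at hE
    rw [hE] at cnt
    have h4 : 0 < 4 ^ n := by positivity
    nlinarith
  have cnt' : 2 * 4 ^ n ≤ 4 ^ m := by
    rw [hE] at cnt
    exact Nat.le_of_mul_le_mul_right cnt hR0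
  have hnm : n + 1 ≤ m := by
    by_contra hcon
    have : m ≤ n := by omega
    have h1 : 4 ^ m ≤ 4 ^ n := Nat.pow_le_pow_right (by norm_num) this
    have h4 : 0 < 4 ^ n := by positivity
    omega
  obtain ⟨V, _, hV⟩ := h.card_range hpq R hR (m - 1) (by
    rw [hE]
    have : m - 1 + 1 = m := by omega
    rw [this])
  rw [hn] at hV
  have e4 : (4 : ℕ) ^ n = 2 ^ (2 * (n + 1) - 2) := by
    have : 2 * (n + 1) - 2 = 2 * n := by omega
    rw [this, pow_mul]; norm_num
  rw [e4] at hV
  rcases arith_card (m := m) (k := n + 1) hV hnm (by omega) with ⟨a, b, _⟩ | ⟨a, b, _⟩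
  · exact Or.inl ⟨a, by omega⟩
  · exact Or.inr ⟨a, by omega⟩

end OpSys

end Cfsg.Agent.Omega.HOneTwo.OpSys
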