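import Cfsg.Agent.Omega.HOneTwo.TransRes

/-!
# II.0h1, `q = 2`, after the transvection statement: (8) and (9) of #16429

`BB = ⋂ Z(Q p)`, `p ∈ Δ`; `MQ = ⟨Q p : p ∈ Δ⟩`; `NO p = C_{N p}(U)`; `Gam = ⟨NO p⟩`; `BN = BB ∩ N (r 0)`.
-/

set_option autoImplicit false
set_option linter.unusedSectionVars false

namespace Cfsg.Agent.Omega.HOneTwo.Trans

open Subgroup

universe u

variable {G : Type u} [Group G]

namespace TS

variable (D : TS G)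

/-! ### Preparations -/

theorem exists_m {p : G} (hp : p ∈ D.Δ) : ∃ m ∈ D.Ms.A, p = m * D.r 0 * m⁻¹ := by
  obtain ⟨m, hm, rfl⟩ := hp
  exact ⟨m, D.mem_A.2 hm, rfl⟩

theorem A_z {m : G} (hm : m ∈ D.Ms.A) : m * D.z = D.z * m := D.M_z m (D.mem_A.1 hm)

theorem A_Q {x : G} (h : x * D.r 0 = D.r 0 * x) (h' : x * D.z = D.z * x) : x ∈ D.Ms.A := D.mem_A.2 (D.M_r x h h')

theorem zt_inv {g p x : G} (hx : x ∈ zt (D.Q (g * p * g⁻¹))) : g⁻¹ * x * g ∈ zt (D.Q p) := by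
  have h1 := D.zt_conj (g := g⁻¹) hx
  have e : g⁻¹ * (g * p * g⁻¹) * g⁻¹⁻¹ = p := by group
  rwa [e, inv_inv] at h1

theorem Q_inv {g p x : G} (hx : x ∈ D.Q (g * p * g⁻¹)) : g⁻¹ * x * g ∈ D.Q p := by
  have h1 := D.Q_conj g⁻¹ _ x hx
  have e : g⁻¹ * (g * p * g⁻¹) * g⁻¹⁻¹ = p := by group
  rwa [e, inv_inv] at h1

theorem z_zt' {p : G} (hp : p ∈ D.Δ) : D.z ∈ zt (D.Q p) := D.N_le_zt' hp (self_mem_gen _ _)

theorem Q_p {p x : G} (hp : p ∈ D.Δ) (hx : x ∈ D.Q p) : x * p = p * x := by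
  obtain ⟨m, hm, rfl⟩ := D.exists_m hp
  have h2 := D.Q_cent _ (D.Q_inv hx)
  calc x * (m * D.r 0 * m⁻¹) = m * ((m⁻¹ * x * m) * D.r 0) * m⁻¹ := by group
    _ = (m * D.r 0 * m⁻¹) * x := by rw [h2]; group

theorem Q_z' {p x : G} (hp : p ∈ D.Δ) (hx : x ∈ D.Q p) : x * D.z = D.z * x :=
  ((mem_zt.1 (D.z_zt' hp)).2 x hx).symm

/-- elements of `Q p`, `p ∈ Δ`, are in `M` -/
theorem Q_A {p x : G} (hp : p ∈ D.Δ) (hx : x ∈ D.Q p) : x ∈ D.Ms.A := by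
  obtain ⟨m, hm, rfl⟩ := D.exists_m hp
  have h1 : m⁻¹ * x * m ∈ D.Ms.A := D.A_Q (D.Q_cent _ (D.Q_inv hx)) (D.Q_z (D.Q_inv hx))
  have h2 := D.Ms.A.mul_mem (D.Ms.A.mul_mem hm h1) (D.Ms.A.inv_mem hm)
  have e : m * (m⁻¹ * x * m) * m⁻¹ = x := by group
  rwa [e] at h2

/-- `Δ ∩ Z(Q p) = {p}` -/
theorem zt_Δ {p q : G} (hp : p ∈ D.Δ) (hq : q ∈ D.Δ) (h : q ∈ zt (D.Q p)) : q = p := by
  obtain ⟨m, hm, rfl⟩ := D.exists_m hp
  by_contra hne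
  have h1 := D.Ms.Δ_conj _ (D.Ms.A.inv_mem hm) q hq
  rw [inv_inv] at h1
  have h2 := D.mem_C_of_zt h1 (D.zt_inv h) (by
    intro h3
    apply hne
    rw [← h3]; group)
  exact D.Δ_C h1 h2

/-- `x^g = p x` for some `g ∈ Q p`, if `x ⊥ p`, `x ≠ p` -/
theorem exists_g {p x : G} (hp : p ∈ D.Δ) (hx : x ∈ D.Δ) (hne : x ≠ p) (h0 : D.φ p x = 0) :
    ∃ g ∈ D.Q p, g * x * g⁻¹ = p * x := by
  have hxQ := D.φ_eq_zero_iff.1 h0
  have hz : x ∉ zt (D.Q p) := fun h => hne (D.zt_Δ hp hx h)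
  rw [mem_zt] at hz
  push Not at hz
  obtain ⟨g, hg, h⟩ := hz hxQ
  refine ⟨g, hg, ?_⟩
  rcases D.Q_der' hp hg hxQ with h1 | h1
  · exact absurd h1.symm h
  · rw [h1]; group

theorem ΔU {p : G} (hp : p ∈ D.Δ) : p ∈ D.U := D.Ms.Δ_le hp

theorem φ_mul {p u v : G} (hp : p ∈ D.Δ) (hu : u ∈ D.U) (hv : v ∈ D.U) :
    D.φ p (u * v) = D.φ p u + D.φ p v := D.Ms.φ_mul hp hu hv

theorem φ_symm {p q : G} (hp : p ∈ D.Δ) (hq : q ∈ D.Δ) : D.φ p q = D.φ q p := D.Ms.symm hp hq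

theorem φ_self {p : G} (hp : p ∈ D.Δ) : D.φ p p = 0 := D.Ms.φ_self hp

theorem φ_z {p : G} (hp : p ∈ D.Δ) : D.φ p D.z = 0 := D.Ms.φ_z hp

theorem mul_self {u : G} (hu : u ∈ D.U) : u * u = 1 := D.U_sq u hu

theorem mul_mul {u v : G} (hu : u ∈ D.U) : u * (u * v) = v := by rw [← mul_assoc, D.U_sq u hu, one_mul]

/-- the action of `n ∈ N p - C(U)` -/
theorem N_actU {p n : G} (hp : p ∈ D.Δ) (hn : n ∈ gen p D.z) (hne : n ∉ centralizer (D.U : Set G)) {u : G}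
    (hu : u ∈ D.U) : n * u * n⁻¹ = u * pw (p * D.z) (D.φ p u) := by
  rcases D.zt_act hp (D.N_le_zt' hp hn) with h | h
  · exfalso
    apply hne
    rw [mem_centralizer_iff]
    intro v hv
    exact (comm_of_conj (h v hv)).symm
  · exact h u hu

/-- some element of `N p` is not in `C(U)` -/
theorem exists_n {p : G} (hp : p ∈ D.Δ) : ∃ n ∈ gen p D.z, n ∉ centralizer (D.U : Set G) := by
  obtain ⟨n, hn, u, hu, h⟩ := D.Ms.exN p hp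
  refine ⟨n, hn, fun h' => h ?_⟩
  rw [mem_centralizer_iff] at h'
  exact conj_of_comm (h' u hu).symm

/-- both `1`: always -/
theorem exists_11 {p q : G} (hp : p ∈ D.Δ) (hq : q ∈ D.Δ) : ∃ s ∈ D.Δ, D.φ p s = 1 ∧ D.φ q s = 1 := by
  obtain ⟨a, ha, ha1⟩ := D.Ms.exists_nbr (p := p) hp
  obtain ⟨b, hb, hb1⟩ := D.Ms.exists_nbr (p := q) hq
  rcases zmod_cases (D.φ q a) with h | h
  · rcases zmod_cases (D.φ p b) with h' | h'
    · have hab : a * b ∈ D.U := Subgroup.mul_mem _ (D.ΔU ha) (D.ΔU hb)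
      have h1 : D.φ p (a * b) = 1 := by
        rw [D.φ_mul hp (D.ΔU ha) (D.ΔU hb), h', show D.φ p a = 1 from ha1, add_zero]
      have h2 : D.φ q (a * b) = 1 := by
        rw [D.φ_mul hq (D.ΔU ha) (D.ΔU hb), h, show D.φ q b = 1 from hb1, zero_add]
      rcases D.mem_U_iff.1 hab with h3 | h3 | h3 | h3
      · rw [h3] at h1
        rw [show D.φ p 1 = 0 from D.Ms.φ_one hp] at h1
        exact absurd h1 zero_ne_one
      · rw [h3, D.φ_z hp] at h1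
        exact absurd h1 zero_ne_one
      · exact ⟨_, h3, h1, h2⟩
      · refine ⟨_, h3, ?_, ?_⟩
        · rw [D.φ_mul hp hab D.z_mem, D.φ_z hp, h1, add_zero]
        · rw [D.φ_mul hq hab D.z_mem, D.φ_z hq, h2, add_zero]
    · exact ⟨b, hb, h', hb1⟩
  · exact ⟨a, ha, ha1, h⟩

/-! ### `Q p` is transitive on `Δ - p^⊥` -/

theorem act_tt {p q x : G} (hp : p ∈ D.Δ) (hq : q ∈ D.Δ) (hx : x ∈ D.Δ) (hne : q ≠ p) (h0 : D.φ p q = 0)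
    (hpx : D.φ p x = 1) (hqx : D.φ q x = 1) : ∃ d ∈ D.Q p, d * x * d⁻¹ = x * (q * D.z) := by
  obtain ⟨g, hg, h1⟩ := D.exists_g hp hq hne h0
  obtain ⟨t, ht, htU⟩ := D.exists_n hq
  have ht' : t⁻¹ ∉ centralizer (D.U : Set G) := fun h => htU (by
    have := Subgroup.inv_mem _ h
    rwa [inv_inv] at this)
  have hqp : D.φ q p = 0 := (D.φ_symm hq hp).trans h0
  -- `t` centralises `p`
  have htp : t * p = p * t := by
    apply comm_of_conj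
    rw [D.N_actU hq ht htU (D.ΔU hp), hqp, pw_zero, mul_one]
  have hpq : p * q ∈ D.Δ := D.mul_mem hp hq (Ne.symm hne) h0
  have hgz : g * D.z * g⁻¹ = D.z := conj_of_comm (D.Q_z' hp hg)
  have hs : g * t * g⁻¹ ∈ gen (p * q) D.z := by
    have := gen_conj g ht
    rwa [h1, hgz] at this
  have hgA := D.Q_A hp hg
  have hsU : g * t * g⁻¹ ∉ centralizer (D.U : Set G) := by
    intro h
    apply htU
    rw [mem_centralizer_iff] at h ⊢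
    intro u hu
    have h2 := h _ (D.Ms.U_conj g hgA u hu)
    calc u * t = g⁻¹ * (g * u * g⁻¹ * (g * t * g⁻¹)) * g := by group
      _ = t * u := by rw [h2]; group
  refine ⟨g * t * g⁻¹ * t⁻¹, ?_, ?_⟩
  · have h2 : t * g⁻¹ * t⁻¹ ∈ D.Q p := D.Q_conj' htp (Subgroup.inv_mem _ hg)
    have e : g * t * g⁻¹ * t⁻¹ = g * (t * g⁻¹ * t⁻¹) := by group
    rw [e]
    exact Subgroup.mul_mem _ hg h2
  · have hxU := D.ΔU hx
    have hqz : q * D.z ∈ D.U := Subgroup.mul_mem _ (D.ΔU hq) D.z_mem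
    have h2 : t⁻¹ * x * t⁻¹⁻¹ = x * (q * D.z) := by
      rw [D.N_actU hq (Subgroup.inv_mem _ ht) ht' hxU, hqx, pw_one]
    have h3 : D.φ (p * q) (x * (q * D.z)) = 0 := by
      have e1 : D.φ (p * q) x = 0 := by
        rw [D.φ_symm hpq hx, D.φ_mul hx (D.ΔU hp) (D.ΔU hq), D.φ_symm hx hp, D.φ_symm hx hq, hpx, hqx]
        decide
      have e2 : D.φ (p * q) q = 0 := by
        rw [D.φ_symm hpq hq, D.φ_mul hq (D.ΔU hp) (D.ΔU hq), hqp, D.φ_self hq, add_zero]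
      rw [D.φ_mul hpq hxU hqz, D.φ_mul hpq (D.ΔU hq) D.z_mem, e1, e2, D.φ_z hpq, add_zero, add_zero]
    calc g * t * g⁻¹ * t⁻¹ * x * (g * t * g⁻¹ * t⁻¹)⁻¹
        = g * t * g⁻¹ * (t⁻¹ * x * t⁻¹⁻¹) * (g * t * g⁻¹)⁻¹ := by group
      _ = x * (q * D.z) := by
        rw [h2, D.N_actU hpq hs hsU (Subgroup.mul_mem _ hxU hqz), h3, pw_zero, mul_one]

theorem act_t {p x : G} (hp : p ∈ D.Δ) (hx : x ∈ D.Δ) (hpx : D.φ p x = 1) :
    ∃ d ∈ D.Q p, d * x * d⁻¹ = x * (p * D.z) := by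
  obtain ⟨t, ht, htU⟩ := D.exists_n hp
  refine ⟨t, (mem_zt.1 (D.N_le_zt' hp ht)).1, ?_⟩
  rw [D.N_actU hp ht htU (D.ΔU hx), hpx, pw_one]

/-- **`Q p` is transitive on `Δ - p^⊥`** -/
theorem trans_opp {p x y : G} (hp : p ∈ D.Δ) (hx : x ∈ D.Δ) (hy : y ∈ D.Δ) (hpx : D.φ p x = 1)
    (hpy : D.φ p y = 1) : ∃ g ∈ D.Q p, g * x * g⁻¹ = y := by
  have hxU := D.ΔU hx
  have hyU := D.ΔU hy
  have hpU := D.ΔU hp
  have hzU := D.z_mem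
  have hxx := D.mul_self hxU
  rcases zmod_cases (D.φ x y) with h | h
  · by_cases hxy : x = y
    · exact ⟨1, Subgroup.one_mem _, by rw [hxy]; group⟩
    · have hw := D.mul_mem hx hy hxy h
      have hwU := D.ΔU hw
      have hpw : D.φ p (x * y) = 0 := by
        rw [D.φ_mul hp hxU hyU, hpx, hpy]; decide
      have hwp : x * y ≠ p := by
        intro e
        have h1 : D.φ x (x * y) = 0 := by rw [D.φ_mul hx hxU hyU, D.φ_self hx, h, add_zero]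
        rw [e, D.φ_symm hx hp, hpx] at h1
        exact one_ne_zero h1
      have hq := D.mul_mem hp hw (Ne.symm hwp) hpw
      have hpq : D.φ p (p * (x * y)) = 0 := by
        rw [D.φ_mul hp hpU hwU, D.φ_self hp, hpw, add_zero]
      have hqp : p * (x * y) ≠ p := by
        intro e
        have e1 : x * y = 1 := mul_eq_left.mp e
        apply hxy
        calc x = x * (y * y) := by rw [D.mul_self hyU, mul_one]
          _ = x * y * y := by rw [mul_assoc]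
          _ = y := by rw [e1, one_mul]
      have hqx : D.φ (p * (x * y)) x = 1 := by
        rw [D.φ_symm hq hx, D.φ_mul hx hpU hwU, D.φ_symm hx hp, hpx, D.φ_mul hx hxU hyU, D.φ_self hx, h]
        decide
      obtain ⟨d, hd, h1⟩ := D.act_tt hp hq hx hqp hpq hpx hqx
      -- `x (p x y z)`, then `t p`
      have hx' : x * (p * (x * y) * D.z) ∈ D.Δ := by
        rw [← h1]; exact D.Ms.Δ_conj d (D.Q_A hp hd) x hx
      have hpx' : D.φ p (x * (p * (x * y) * D.z)) = 1 := by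
        rw [D.φ_mul hp hxU (Subgroup.mul_mem _ (D.ΔU hq) hzU), D.φ_mul hp (D.ΔU hq) hzU, hpq, D.φ_z hp, hpx]
        decide
      obtain ⟨e, he, h2⟩ := D.act_t hp hx' hpx'
      refine ⟨e * d, Subgroup.mul_mem _ he hd, ?_⟩
      calc e * d * x * (e * d)⁻¹ = e * (d * x * d⁻¹) * e⁻¹ := by group
        _ = x * (p * (x * y) * D.z) * (p * D.z) := by rw [h1, h2]
        _ = x * (p * (x * y) * (D.z * p) * D.z) := by group
        _ = x * (p * (x * y) * (p * D.z) * D.z) := by rw [D.U_comm hzU hpU]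
        _ = x * (p * ((x * y) * p) * (D.z * D.z)) := by group
        _ = x * (p * (p * (x * y)) * (D.z * D.z)) := by rw [D.U_comm hwU hpU]
        _ = y := by rw [D.mul_self hzU, mul_one, D.mul_mul hpU, D.mul_mul hxU]
  · have hw := D.mul_z_mem hx hy h
    have hwU := D.ΔU hw
    have hxyU := Subgroup.mul_mem _ hxU hyU
    have hfin : x * (x * y * D.z * D.z) = y := by
      rw [mul_assoc (x * y), D.mul_self hzU, mul_one, D.mul_mul hxU]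
    by_cases hwp : x * y * D.z = p
    · obtain ⟨d, hd, h1⟩ := D.act_t hp hx hpx
      refine ⟨d, hd, ?_⟩
      rw [h1, ← hwp, hfin]
    · have hpw : D.φ p (x * y * D.z) = 0 := by
        rw [D.φ_mul hp hxyU hzU, D.φ_mul hp hxU hyU, hpx, hpy, D.φ_z hp]; decide
      have hwx : D.φ (x * y * D.z) x = 1 := by
        rw [D.φ_symm hw hx, D.φ_mul hx hxyU hzU, D.φ_mul hx hxU hyU, D.φ_self hx, h, D.φ_z hx]; decide
      obtain ⟨d, hd, h1⟩ := D.act_tt hp hw hx hwp hpw hpx hwx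
      exact ⟨d, hd, by rw [h1, hfin]⟩

/-! ### (8) -/

theorem orbit {p q x : G} (hp : p ∈ D.Δ) (hq : q ∈ D.Δ) (hx : x ∈ D.Δ) (h1 : D.φ p q = 1) :
    ∃ g ∈ D.Q p ⊔ D.Q q, g * p * g⁻¹ = x := by
  have hP : D.Q p ≤ D.Q p ⊔ D.Q q := le_sup_left
  have hQ : D.Q q ≤ D.Q p ⊔ D.Q q := le_sup_right
  have hqp : D.φ q p = 1 := (D.φ_symm hq hp).trans h1
  -- the orbit relation
  have tr : ∀ {a b c : G}, (∃ g ∈ D.Q p ⊔ D.Q q, g * a * g⁻¹ = b) → (∃ g ∈ D.Q p ⊔ D.Q q, g * b * g⁻¹ = c) →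
      ∃ g ∈ D.Q p ⊔ D.Q q, g * a * g⁻¹ = c := by
    rintro a b c ⟨g, hg, rfl⟩ ⟨h, hh, rfl⟩
    exact ⟨h * g, Subgroup.mul_mem _ hh hg, by group⟩
  have sy : ∀ {a b : G}, (∃ g ∈ D.Q p ⊔ D.Q q, g * a * g⁻¹ = b) → ∃ g ∈ D.Q p ⊔ D.Q q, g * b * g⁻¹ = a := by
    rintro a b ⟨g, hg, rfl⟩
    exact ⟨g⁻¹, Subgroup.inv_mem _ hg, by group⟩
  have lp : ∀ {a b : G}, (∃ g ∈ D.Q p, g * a * g⁻¹ = b) → ∃ g ∈ D.Q p ⊔ D.Q q, g * a * g⁻¹ = b := by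
    rintro a b ⟨g, hg, h⟩; exact ⟨g, hP hg, h⟩
  have lq : ∀ {a b : G}, (∃ g ∈ D.Q q, g * a * g⁻¹ = b) → ∃ g ∈ D.Q p ⊔ D.Q q, g * a * g⁻¹ = b := by
    rintro a b ⟨g, hg, h⟩; exact ⟨g, hQ hg, h⟩
  -- `p ~ q`
  have hpq : ∃ g ∈ D.Q p ⊔ D.Q q, g * p * g⁻¹ = q := by
    have a1 := lq (D.act_t hq hp hqp)
    have a2 := lp (D.act_t hp hq h1)
    have e : p * (q * D.z) = q * (p * D.z) := by
      rw [← mul_assoc, ← mul_assoc, D.U_comm (D.ΔU hp) (D.ΔU hq)]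
    rw [e] at a1
    exact tr a1 (sy a2)
  rcases zmod_cases (D.φ p x) with h | h
  · rcases zmod_cases (D.φ q x) with h' | h'
    · have hxq : x ≠ q := by
        rintro rfl
        rw [h] at h1
        exact zero_ne_one h1
      obtain ⟨g, hg, h2⟩ := D.exists_g hq hx hxq h'
      have hqx : q * x ∈ D.Δ := by
        rw [← h2]; exact D.Ms.Δ_conj g (D.Q_A hq hg) x hx
      have h3 : D.φ p (q * x) = 1 := by rw [D.φ_mul hp (D.ΔU hq) (D.ΔU hx), h1, h, add_zero]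
      have a1 := lp (D.trans_opp hp hq hqx h1 h3)
      have a2 : ∃ g ∈ D.Q p ⊔ D.Q q, g * x * g⁻¹ = q * x := lq ⟨g, hg, h2⟩
      exact tr hpq (tr a1 (sy a2))
    · exact lq (D.trans_opp hq hp hx hqp h')
  · exact tr hpq (lp (D.trans_opp hp hq hx h1 h))

/-- `M_Q = ⟨Q p : p ∈ Δ⟩` -/
def MQ : Subgroup G := closure {x | ∃ p ∈ D.Δ, x ∈ D.Q p}

theorem Q_le_MQ {p : G} (hp : p ∈ D.Δ) : D.Q p ≤ D.MQ := fun _ hx => subset_closure ⟨p, hp, hx⟩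

/-- `⟨Q p, Q q⟩ = M_Q` if `f(p,q) = 1` -/
theorem sup_eq {p q : G} (hp : p ∈ D.Δ) (hq : q ∈ D.Δ) (h1 : D.φ p q = 1) : D.Q p ⊔ D.Q q = D.MQ := by
  apply le_antisymm (sup_le (D.Q_le_MQ hp) (D.Q_le_MQ hq))
  unfold MQ
  rw [closure_le]
  rintro y ⟨x, hx, hy⟩
  obtain ⟨g, hg, rfl⟩ := D.orbit hp hq hx h1
  have h2 : g⁻¹ * y * g ∈ D.Q p ⊔ D.Q q := (show D.Q p ≤ _ from le_sup_left) (D.Q_inv hy)
  have h3 := Subgroup.mul_mem _ (Subgroup.mul_mem _ hg h2) (Subgroup.inv_mem _ hg)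
  have e : g * (g⁻¹ * y * g) * g⁻¹ = y := by group
  rwa [e] at h3

theorem MQ_A : D.MQ ≤ D.Ms.A := by
  unfold MQ
  rw [closure_le]
  rintro y ⟨x, hx, hy⟩
  exact D.Q_A hx hy

theorem MQ_conj {m x : G} (hm : m ∈ D.Ms.A) (hx : x ∈ D.MQ) : m * x * m⁻¹ ∈ D.MQ := by
  unfold MQ at hx
  induction hx using closure_induction with
  | mem x hx =>
    obtain ⟨p, hp, hx⟩ := hx
    exact D.Q_le_MQ (D.Ms.Δ_conj m hm p hp) (D.Q_conj m p x hx)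
  | one => rw [mul_one, mul_inv_cancel]; exact Subgroup.one_mem _
  | mul x y _ _ hx hy =>
    have : m * (x * y) * m⁻¹ = (m * x * m⁻¹) * (m * y * m⁻¹) := by group
    rw [this]; exact Subgroup.mul_mem _ hx hy
  | inv x _ hx =>
    have : m * x⁻¹ * m⁻¹ = (m * x * m⁻¹)⁻¹ := by group
    rw [this]; exact Subgroup.inv_mem _ hx

/-- `M_Q` is transitive on `Δ` -/
theorem MQ_trans {p x : G} (hp : p ∈ D.Δ) (hx : x ∈ D.Δ) : ∃ g ∈ D.MQ, g * p * g⁻¹ = x := by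
  obtain ⟨q, hq, h1⟩ := D.Ms.exists_nbr (p := p) hp
  obtain ⟨g, hg, h2⟩ := D.orbit hp hq hx h1
  rw [D.sup_eq hp hq h1] at hg
  exact ⟨g, hg, h2⟩

/-- `B = ⋂ Z(Q p)` -/
def BB : Subgroup G where
  carrier := {x | ∀ p ∈ D.Δ, x ∈ zt (D.Q p)}
  one_mem' := fun _ _ => Subgroup.one_mem _
  mul_mem' := fun ha hb p hp => Subgroup.mul_mem _ (ha p hp) (hb p hp)
  inv_mem' := fun ha p hp => Subgroup.inv_mem _ (ha p hp)

theorem mem_BB {x : G} : x ∈ D.BB ↔ ∀ p ∈ D.Δ, x ∈ zt (D.Q p) := Iff.rfl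

theorem BB_MQ {b g : G} (hb : b ∈ D.BB) (hg : g ∈ D.MQ) : b * g = g * b := by
  unfold MQ at hg
  induction hg using closure_induction with
  | mem x hx =>
    obtain ⟨p, hp, hx⟩ := hx
    exact (mem_zt.1 (hb p hp)).2 x hx
  | one => rw [mul_one, one_mul]
  | mul x y _ _ hx hy => rw [← mul_assoc, hx, mul_assoc, hy, mul_assoc]
  | inv x _ hx => rw [mul_inv_eq_iff_eq_mul, mul_assoc, hx, inv_mul_cancel_left]

/-- **`Z(Q p) ∩ Z(Q q) = B`** if `f(p,q) = 1` -/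
theorem zt_inf {p q x : G} (hp : p ∈ D.Δ) (hq : q ∈ D.Δ) (h1 : D.φ p q = 1) (hxp : x ∈ zt (D.Q p))
    (hxq : x ∈ zt (D.Q q)) : x ∈ D.BB := by
  intro s hs
  obtain ⟨g, hg, rfl⟩ := D.orbit hp hq hs h1
  have hle : D.Q p ⊔ D.Q q ≤ centralizer {x} := by
    apply sup_le
    · intro y hy
      rw [mem_centralizer_singleton_iff]
      exact ((mem_zt.1 hxp).2 y hy).symm
    · intro y hy
      rw [mem_centralizer_singleton_iff]
      exact ((mem_zt.1 hxq).2 y hy).symm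
  have h2 := mem_centralizer_singleton_iff.1 (hle hg)
  have h3 := D.zt_conj (g := g) hxp
  rwa [conj_of_comm h2] at h3

theorem BB_conj {m x : G} (hm : m ∈ D.Ms.A) (hx : x ∈ D.BB) : m * x * m⁻¹ ∈ D.BB := by
  intro p hp
  have h1 := D.Ms.Δ_conj _ (D.Ms.A.inv_mem hm) p hp
  have h2 := D.zt_conj (g := m) (hx _ h1)
  have e : m * (m⁻¹ * p * m⁻¹⁻¹) * m⁻¹ = p := by group
  rwa [e] at h2

theorem z_BB : D.z ∈ D.BB := fun _ hp => D.z_zt' hp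

theorem BB_C {x : G} (hx : x ∈ D.BB) : x ∈ D.C := D.le_C 0 1 (by decide) ⟨hx _ (D.r_Δ 0), hx _ (D.r_Δ 1)⟩

/-- `Δ ≤ M_Q`, so `U ≤ M_Q` -/
theorem U_le_MQ : D.U ≤ D.MQ := by
  intro u hu
  have h1 : D.U = closure D.Δ := rfl
  rw [h1] at hu
  refine (closure_le _).2 ?_ hu
  intro p hp
  exact D.Q_le_MQ hp (D.Ms.pK p hp)

theorem BB_U {b u : G} (hb : b ∈ D.BB) (hu : u ∈ D.U) : b * u = u * b := D.BB_MQ hb (D.U_le_MQ hu)

/-- `U ∩ B = ⟨z⟩` -/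
theorem U_BB {x : G} (hx : x ∈ D.BB) (hxU : x ∈ D.U) : x = 1 ∨ x = D.z := D.C_U hxU (D.BB_C hx)

theorem Δ_BB {p : G} (hp : p ∈ D.Δ) : p ∉ D.BB := fun h => D.Δ_C hp (D.BB_C h)

/-- `B_N` -/
def BN : Subgroup G := D.BB ⊓ gen (D.r 0) D.z

theorem BN_mem {p x : G} (hp : p ∈ D.Δ) : x ∈ D.BN ↔ x ∈ D.BB ∧ x ∈ gen p D.z := by
  unfold BN
  rw [mem_inf]
  refine and_congr_right fun hx => ?_
  obtain ⟨g, hg, h1⟩ := D.MQ_trans D.r0_Δ hp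
  have hgz : g * D.z = D.z * g := D.A_z (D.MQ_A hg)
  have hgx : g * x = x * g := (D.BB_MQ hx hg).symm
  constructor
  · intro h
    have h2 := gen_conj g h
    rwa [conj_of_comm hgx, h1, conj_of_comm hgz] at h2
  · intro h
    have h2 := gen_conj g⁻¹ h
    have e : g⁻¹ * p * g⁻¹⁻¹ = D.r 0 := by rw [← h1]; group
    rwa [conj_of_comm (inv_comm hgx), e, conj_of_comm (inv_comm hgz)] at h2

/-- `N p ∩ N q = B_N` if `f(p,q) = 1` -/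
theorem N_inf {p q x : G} (hp : p ∈ D.Δ) (hq : q ∈ D.Δ) (h1 : D.φ p q = 1) (hxp : x ∈ gen p D.z)
    (hxq : x ∈ gen q D.z) : x ∈ D.BN :=
  (D.BN_mem hp).2 ⟨D.zt_inf hp hq h1 (D.N_le_zt' hp hxp) (D.N_le_zt' hq hxq), hxp⟩

theorem BN_BB {x : G} (hx : x ∈ D.BN) : x ∈ D.BB := hx.1

theorem BN_N {p x : G} (hp : p ∈ D.Δ) (hx : x ∈ D.BN) : x ∈ gen p D.z := ((D.BN_mem hp).1 hx).2

theorem z_BN : D.z ∈ D.BN := ⟨D.z_BB, self_mem_gen _ _⟩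

/-! ### (9) -/

/-- `N p ∩ O_M` -/
def NO (p : G) : Subgroup G := gen p D.z ⊓ centralizer (D.U : Set G)

/-- `Γ` -/
def Gam : Subgroup G := closure {x | ∃ p ∈ D.Δ, x ∈ D.NO p}

theorem mem_NO {p x : G} : x ∈ D.NO p ↔ x ∈ gen p D.z ∧ ∀ u ∈ D.U, x * u = u * x := by
  unfold NO
  rw [mem_inf, mem_centralizer_iff]
  exact ⟨fun h => ⟨h.1, fun u hu => (h.2 u hu).symm⟩, fun h => ⟨h.1, fun u hu => (h.2 u hu).symm⟩⟩

theorem NO_le_Gam {p : G} (hp : p ∈ D.Δ) : D.NO p ≤ D.Gam := fun _ hx => subset_closure ⟨p, hp, hx⟩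

theorem N_MQ {p : G} (hp : p ∈ D.Δ) : gen p D.z ≤ D.MQ :=
  fun _ hx => D.Q_le_MQ hp (mem_zt.1 (D.N_le_zt' hp hx)).1

theorem Gam_MQ : D.Gam ≤ D.MQ := by
  unfold Gam
  rw [closure_le]
  rintro y ⟨x, hx, hy⟩
  exact D.N_MQ hx hy.1

theorem Gam_U {g u : G} (hg : g ∈ D.Gam) (hu : u ∈ D.U) : g * u = u * g := by
  have h1 : D.Gam ≤ centralizer (D.U : Set G) := by
    unfold Gam
    rw [closure_le]
    rintro y ⟨x, hx, hy⟩
    exact hy.2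
  exact (mem_centralizer_iff.1 (h1 hg) u hu).symm

theorem N_conj' {m p x : G} (hm : m ∈ D.Ms.A) (hx : x ∈ gen p D.z) : m * x * m⁻¹ ∈ gen (m * p * m⁻¹) D.z := by
  have h1 := gen_conj m hx
  rwa [conj_of_comm (D.A_z hm)] at h1

theorem NO_conj {m p x : G} (hm : m ∈ D.Ms.A) (hx : x ∈ D.NO p) : m * x * m⁻¹ ∈ D.NO (m * p * m⁻¹) := by
  rw [mem_NO] at hx ⊢
  refine ⟨D.N_conj' hm hx.1, fun u hu => ?_⟩
  have h2 := D.Ms.U_conj _ (D.Ms.A.inv_mem hm) u hu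
  have h3 := hx.2 _ h2
  calc m * x * m⁻¹ * u = m * (x * (m⁻¹ * u * m⁻¹⁻¹)) * m⁻¹ := by group
    _ = u * (m * x * m⁻¹) := by rw [h3]; group

theorem Gam_conj {m x : G} (hm : m ∈ D.Ms.A) (hx : x ∈ D.Gam) : m * x * m⁻¹ ∈ D.Gam := by
  unfold Gam at hx
  induction hx using closure_induction with
  | mem x hx =>
    obtain ⟨p, hp, hx⟩ := hx
    exact D.NO_le_Gam (D.Ms.Δ_conj m hm p hp) (D.NO_conj hm hx)
  | one => rw [mul_one, mul_inv_cancel]; exact Subgroup.one_mem _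
  | mul x y _ _ hx hy =>
    have : m * (x * y) * m⁻¹ = (m * x * m⁻¹) * (m * y * m⁻¹) := by group
    rw [this]; exact Subgroup.mul_mem _ hx hy
  | inv x _ hx =>
    have : m * x⁻¹ * m⁻¹ = (m * x * m⁻¹)⁻¹ := by group
    rw [this]; exact Subgroup.inv_mem _ hx

theorem N_comm {p x y : G} (hp : p ∈ D.Δ) (hx : x ∈ gen p D.z) (hy : y ∈ gen p D.z) : x * y = y * x :=
  (mem_zt.1 (D.N_le_zt' hp hx)).2 y (mem_zt.1 (D.N_le_zt' hp hy)).1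

theorem BN_le_NO {p : G} (hp : p ∈ D.Δ) : D.BN ≤ D.NO p := fun _ hx =>
  D.mem_NO.2 ⟨D.BN_N hp hx, fun _ hu => D.BB_U hx.1 hu⟩

/-- elements of `M ∩ C(U)` normalise `N q` -/
theorem norm_N {q n x : G} (hq : q ∈ D.Δ) (hn : n ∈ D.Ms.A) (hnU : ∀ u ∈ D.U, n * u = u * n)
    (hx : x ∈ gen q D.z) : n * x * n⁻¹ ∈ gen q D.z := by
  have h1 := D.N_conj' (m := n) hn hx
  rwa [conj_of_comm (hnU q (D.ΔU hq))] at h1

/-- commutators of `M ∩ C(U)` with `N q` are in `NO q` -/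
theorem comm_N {q n x : G} (hq : q ∈ D.Δ) (hn : n ∈ D.Ms.A) (hnU : ∀ u ∈ D.U, n * u = u * n)
    (hx : x ∈ gen q D.z) : n * x * n⁻¹ * x⁻¹ ∈ D.NO q := by
  rw [mem_NO]
  refine ⟨Subgroup.mul_mem _ (D.norm_N hq hn hnU hx) (Subgroup.inv_mem _ hx), fun u hu => ?_⟩
  have hxA : x ∈ D.Ms.A := D.MQ_A (D.N_MQ hq hx)
  have h1 := D.Ms.U_conj _ (D.Ms.A.inv_mem hxA) u hu
  -- `x⁻¹ u x ∈ U`
  have h2 := hnU _ h1
  calc n * x * n⁻¹ * x⁻¹ * u = n * x * (n⁻¹ * (x⁻¹ * u * x⁻¹⁻¹)) * x⁻¹ := by group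
    _ = n * x * ((x⁻¹ * u * x⁻¹⁻¹) * n⁻¹) * x⁻¹ := by rw [inv_comm h2]
    _ = n * u * x * n⁻¹ * x⁻¹ := by group
    _ = u * (n * x * n⁻¹ * x⁻¹) := by rw [hnU u hu]; group

theorem NO_A {p n : G} (hp : p ∈ D.Δ) (hn : n ∈ D.NO p) : n ∈ D.Ms.A := D.MQ_A (D.N_MQ hp hn.1)

theorem NO_U {p n : G} (hn : n ∈ D.NO p) : ∀ u ∈ D.U, n * u = u * n := (D.mem_NO.1 hn).2

/-- elements of `NO p` normalise `N q`, `NO q` -/
theorem NO_q {p q n x : G} (hp : p ∈ D.Δ) (hq : q ∈ D.Δ) (hn : n ∈ D.NO p) (hx : x ∈ gen q D.z) :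
    n * x * n⁻¹ ∈ gen q D.z := D.norm_N hq (D.NO_A hp hn) (D.NO_U hn) hx

/-- commutators of `NO p` with `N q` are in `NO q` -/
theorem comm_NO {p q n x : G} (hp : p ∈ D.Δ) (hq : q ∈ D.Δ) (hn : n ∈ D.NO p) (hx : x ∈ gen q D.z) :
    n * x * n⁻¹ * x⁻¹ ∈ D.NO q := D.comm_N hq (D.NO_A hp hn) (D.NO_U hn) hx

/-- commuting modulo `B_N` -/
def CB (x y : G) : Prop := ∃ b ∈ D.BN, x * y = b * (y * x)

theorem CB_iff {x y : G} : D.CB x y ↔ x * y * x⁻¹ * y⁻¹ ∈ D.BN := by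
  constructor
  · rintro ⟨b, hb, h⟩
    have e : x * y * x⁻¹ * y⁻¹ = b := by rw [h]; group
    rwa [e]
  · intro h
    exact ⟨_, h, by group⟩

theorem CB_comm {x y : G} (h : x * y = y * x) : D.CB x y := ⟨1, Subgroup.one_mem _, by rw [one_mul, h]⟩

theorem CB.symm {D : TS G} {x y : G} (h : D.CB x y) : D.CB y x := by
  obtain ⟨b, hb, h⟩ := h
  refine ⟨b⁻¹, Subgroup.inv_mem _ hb, ?_⟩
  rw [h, inv_mul_cancel_left]

theorem CB_mul {x y w : G} (hy : y ∈ D.MQ) (h1 : D.CB x y) (h2 : D.CB x w) : D.CB x (y * w) := by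
  obtain ⟨b, hb, h⟩ := h1
  obtain ⟨c, hc, h'⟩ := h2
  refine ⟨b * c, Subgroup.mul_mem _ hb hc, ?_⟩
  have h4 : y * c = c * y := (D.BB_MQ hc.1 hy).symm
  calc x * (y * w) = (x * y) * w := by group
    _ = b * y * (x * w) := by rw [h]; group
    _ = b * (y * c) * (w * x) := by rw [h']; group
    _ = b * c * (y * w * x) := by rw [h4]; group

theorem CB_inv {x y : G} (hy : y ∈ D.MQ) (h1 : D.CB x y) : D.CB x y⁻¹ := by
  obtain ⟨b, hb, h⟩ := h1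
  refine ⟨b⁻¹, Subgroup.inv_mem _ hb, ?_⟩
  have h4 : y * b = b * y := (D.BB_MQ hb.1 hy).symm
  have h5 : y⁻¹ * b⁻¹ = b⁻¹ * y⁻¹ := by rw [← mul_inv_rev, ← mul_inv_rev, h4]
  have h6 : y * x = b⁻¹ * (x * y) := by rw [h, inv_mul_cancel_left]
  calc x * y⁻¹ = y⁻¹ * (y * x) * y⁻¹ := by group
    _ = (y⁻¹ * b⁻¹) * x := by rw [h6]; group
    _ = b⁻¹ * (y⁻¹ * x) := by rw [h5]; group

theorem CB_opp {p q x y : G} (hp : p ∈ D.Δ) (hq : q ∈ D.Δ) (hx : x ∈ D.NO p) (hy : y ∈ D.NO q)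
    (h1 : D.φ p q = 1) : D.CB x y := by
  rw [CB_iff]
  have h2 := (D.comm_NO hp hq hx hy.1).1
  have h3 := (D.comm_NO hq hp hy hx.1).1
  have e : x * y * x⁻¹ * y⁻¹ = (y * x * y⁻¹ * x⁻¹)⁻¹ := by group
  refine D.N_inf hp hq h1 ?_ h2
  rw [e]
  exact Subgroup.inv_mem _ h3

/-- `NO q ≤ NO s' · NO s`, `q = s s' z` -/
theorem NO_dec {q s m : G} (hq : q ∈ D.Δ) (hs : s ∈ D.Δ) (h1 : D.φ q s = 1) (hm : m ∈ D.NO q) :
    ∃ a ∈ D.NO (q * s * D.z), ∃ n ∈ D.NO s, m = a * n := by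
  have hs' := D.mul_z_mem hq hs h1
  have hss : D.φ (q * s * D.z) s = 1 := by
    rw [D.φ_symm hs' hs, D.φ_mul hs (Subgroup.mul_mem _ (D.ΔU hq) (D.ΔU hs)) D.z_mem,
      D.φ_mul hs (D.ΔU hq) (D.ΔU hs), D.φ_symm hs hq, h1, D.φ_self hs, D.φ_z hs]
    decide
  obtain ⟨t, ht, htU⟩ := D.exists_n hs'
  have h2 : t * s * t⁻¹ = q := by
    rw [D.N_actU hs' ht htU (D.ΔU hs), hss, pw_one, mul_assoc (q * s), D.mul_self D.z_mem, mul_one,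
      D.U_comm (D.ΔU hq) (D.ΔU hs), D.mul_mul (D.ΔU hs)]
  have htA : t ∈ D.Ms.A := D.MQ_A (D.N_MQ hs' ht)
  have hn : t⁻¹ * m * t ∈ D.NO s := by
    have h3 := D.NO_conj (D.Ms.A.inv_mem htA) hm
    have e : t⁻¹ * q * t⁻¹⁻¹ = s := by rw [← h2]; group
    rwa [e, inv_inv] at h3
  refine ⟨t * (t⁻¹ * m * t) * t⁻¹ * (t⁻¹ * m * t)⁻¹, ?_, t⁻¹ * m * t, hn, by group⟩
  have h4 := Subgroup.inv_mem _ (D.comm_NO hs hs' hn ht)
  have e : ((t⁻¹ * m * t) * t * (t⁻¹ * m * t)⁻¹ * t⁻¹)⁻¹ =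
      t * (t⁻¹ * m * t) * t⁻¹ * (t⁻¹ * m * t)⁻¹ := by group
  rwa [e] at h4

theorem CB_NO {p q x y : G} (hp : p ∈ D.Δ) (hq : q ∈ D.Δ) (hx : x ∈ D.NO p) (hy : y ∈ D.NO q) : D.CB x y := by
  rcases zmod_cases (D.φ p q) with h | h
  · obtain ⟨s, hs, h1, h2⟩ := D.exists_11 hp hq
    obtain ⟨a, ha, n, hn, rfl⟩ := D.NO_dec hq hs h2 hy
    have hs' := D.mul_z_mem hq hs h2
    have h3 : D.φ p (q * s * D.z) = 1 := by
      rw [D.φ_mul hp (Subgroup.mul_mem _ (D.ΔU hq) (D.ΔU hs)) D.z_mem,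
        D.φ_mul hp (D.ΔU hq) (D.ΔU hs), h, h1, D.φ_z hp]
      decide
    exact D.CB_mul (D.N_MQ hs' ha.1) (D.CB_opp hp hs' hx ha h3) (D.CB_opp hp hs hx hn h1)
  · exact D.CB_opp hp hq hx hy h

/-- **(9)** `Γ' ≤ B_N` -/
theorem CB_Gam {x y : G} (hx : x ∈ D.Gam) (hy : y ∈ D.Gam) : D.CB x y := by
  have key : ∀ p ∈ D.Δ, ∀ x ∈ D.NO p, ∀ y ∈ D.Gam, D.CB x y := by
    intro p hp x hx y hy
    have hy' : y ∈ closure {x | ∃ p ∈ D.Δ, x ∈ D.NO p} := hy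
    induction hy' using closure_induction with
    | mem y hy' =>
      obtain ⟨q, hq, hy'⟩ := hy'
      exact D.CB_NO hp hq hx hy'
    | one => exact D.CB_comm (by rw [mul_one, one_mul])
    | mul a b ha hb ha' hb' => exact D.CB_mul (D.Gam_MQ ha) (ha' ha) (hb' hb)
    | inv a ha ha' => exact D.CB_inv (D.Gam_MQ ha) (ha' ha)
  have hx' : x ∈ closure {x | ∃ p ∈ D.Δ, x ∈ D.NO p} := hx
  apply CB.symm
  induction hx' using closure_induction with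
  | mem x hx' =>
    obtain ⟨p, hp, hx'⟩ := hx'
    exact (key p hp x hx' y hy).symm
  | one => exact D.CB_comm (by rw [mul_one, one_mul])
  | mul a b ha hb ha' hb' => exact D.CB_mul (D.Gam_MQ ha) (ha' ha) (hb' hb)
  | inv a ha ha' => exact D.CB_inv (D.Gam_MQ ha) (ha' ha)

/-- **(9)**: `[NO p, t_q] B_N = NO q` if `f(p,q) = 1` -/
theorem surj {p q m t : G} (hp : p ∈ D.Δ) (hq : q ∈ D.Δ) (h1 : D.φ p q = 1) (hm : m ∈ D.NO q)
    (ht : t ∈ gen q D.z) (htU : t ∉ centralizer (D.U : Set G)) :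
    ∃ n ∈ D.NO p, ∃ b ∈ D.BN, m = n * t * n⁻¹ * t⁻¹ * b := by
  obtain ⟨s, hs, hsU⟩ := D.exists_n hp
  have hpU := D.ΔU hp
  have hqU := D.ΔU hq
  have hzU := D.z_mem
  have hsA : s ∈ D.Ms.A := D.MQ_A (D.N_MQ hp hs)
  have htA : t ∈ D.Ms.A := D.MQ_A (D.N_MQ hq ht)
  have hqp : D.φ q p = 1 := (D.φ_symm hq hp).trans h1
  have e1 : s * q * s⁻¹ = q * (p * D.z) := by rw [D.N_actU hp hs hsU hqU, h1, pw_one]
  have e2 : t * (q * (p * D.z)) * t⁻¹ = p := by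
    have hpz := Subgroup.mul_mem _ hpU hzU
    rw [D.N_actU hq ht htU (Subgroup.mul_mem _ hqU hpz), D.φ_mul hq hqU hpz, D.φ_mul hq hpU hzU, hqp,
      D.φ_self hq, D.φ_z hq]
    have : (0 : ZMod 2) + (1 + 0) = 1 := by decide
    rw [this, pw_one, D.U_comm hqU hzU, ← mul_assoc, mul_assoc q (p * D.z), mul_assoc p,
      D.mul_self hzU, mul_one, D.U_comm hqU hpU, mul_assoc, D.mul_self hqU, mul_one]
  -- `c = s m s⁻¹ m⁻¹ ∈ NO p`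
  have hc : s * m * s⁻¹ * m⁻¹ ∈ D.NO p := by
    have h2 := Subgroup.inv_mem _ (D.comm_NO hq hp hm hs)
    have e : (m * s * m⁻¹ * s⁻¹)⁻¹ = s * m * s⁻¹ * m⁻¹ := by group
    rwa [e] at h2
  set c := s * m * s⁻¹ * m⁻¹ with hcdef
  have hc2 := D.comm_NO hp hq hc ht
  have h3 := D.NO_conj (Subgroup.mul_mem _ htA hsA) hm
  have e3 : t * s * q * (t * s)⁻¹ = p := by
    calc t * s * q * (t * s)⁻¹ = t * (s * q * s⁻¹) * t⁻¹ := by group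
      _ = p := by rw [e1, e2]
  rw [e3] at h3
  have htm : t * m * t⁻¹ = m := conj_of_comm (D.N_comm hq ht hm.1)
  have e4 : t * s * m * (t * s)⁻¹ = (t * c * t⁻¹) * m := by
    calc t * s * m * (t * s)⁻¹ = (t * c * t⁻¹) * (t * m * t⁻¹) := by rw [hcdef]; group
      _ = _ := by rw [htm]
  rw [e4] at h3
  -- `b = (t c t⁻¹ c⁻¹) (c m c⁻¹) ∈ B_N`
  have hb1 : (t * c * t⁻¹ * c⁻¹) * (c * m * c⁻¹) ∈ D.BN := by
    apply D.N_inf hp hq h1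
    · have e : (t * c * t⁻¹ * c⁻¹) * (c * m * c⁻¹) = (t * c * t⁻¹) * m * c⁻¹ := by group
      rw [e]
      exact Subgroup.mul_mem _ h3.1 (Subgroup.inv_mem _ hc.1)
    · refine Subgroup.mul_mem _ ?_ (D.NO_q hp hq hc hm.1)
      have h4 := Subgroup.inv_mem _ hc2.1
      have e : (c * t * c⁻¹ * t⁻¹)⁻¹ = t * c * t⁻¹ * c⁻¹ := by group
      rwa [e] at h4
  obtain ⟨b', hb', h5⟩ := D.CB_NO hp hq hc hm
  refine ⟨c, hc, b'⁻¹ * ((t * c * t⁻¹ * c⁻¹) * (c * m * c⁻¹)), Subgroup.mul_mem _ (Subgroup.inv_mem _ hb') hb1, ?_⟩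
  have h6 : b'⁻¹ * (t * c * t⁻¹ * c⁻¹) = (t * c * t⁻¹ * c⁻¹) * b'⁻¹ := by
    refine D.BB_MQ (Subgroup.inv_mem _ hb').1 ?_
    have hcM := D.N_MQ hp hc.1
    have htM := D.N_MQ hq ht
    exact Subgroup.mul_mem _ (Subgroup.mul_mem _ (Subgroup.mul_mem _ htM hcM) (Subgroup.inv_mem _ htM))
      (Subgroup.inv_mem _ hcM)
  calc m = b'⁻¹ * (c * m) * c⁻¹ := by rw [h5]; group
    _ = (c * t * c⁻¹ * t⁻¹) * ((t * c * t⁻¹ * c⁻¹) * b'⁻¹) * (c * m * c⁻¹) := by group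
    _ = c * t * c⁻¹ * t⁻¹ * (b'⁻¹ * ((t * c * t⁻¹ * c⁻¹) * (c * m * c⁻¹))) := by rw [← h6]; group

end TS

end Cfsg.Agent.Omega.HOneTwo.Trans
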