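import Cfsg.Agent.Omega.HOneTwo.TwoFourTS
import Cfsg.Agent.Omega.HOneTwo.TwoPartA

/-!
# II.0h1, `q = 2`: (15) of #16429 (helper467), the case `k = 1`

`KOne D` : `N₁ ∩ C(U) ≤ U`.  Then `O_M = U = C_M(U)`, `Z(Q₁) = N₁`, `C = ⟨z⟩`.
-/

set_option autoImplicit false
set_option maxHeartbeats 400000
set_option linter.unusedSectionVars false

namespace Cfsg.Agent.Omega.HOneTwo.Trans

open Subgroup

universe u

variable {G : Type u} [Group G]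

/-- `k = 1` -/
def KOne (D : TS G) : Prop := ∀ n ∈ D.NO (D.r 0), n ∈ D.U

namespace TS

variable (D : TS G)

/-- `C = C_G(X)` centralises `U` -/
theorem C_cent {c : G} (hc : c ∈ D.C) {u : G} (hu : u ∈ D.U) : c * u = u * c := by
  have h0 : D.r 0 ∈ D.Δ := D.r_Δ 0
  have h1 : D.r 1 ∈ D.Δ := D.r_Δ 1
  rcases D.zt_act h0 (D.C_le 0 hc) with h | h
  · exact comm_of_conj (h u hu)
  rcases D.zt_act h1 (D.C_le 1 hc) with h' | h'
  · exact comm_of_conj (h' u hu)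
  exfalso
  obtain ⟨v, hv, hv1⟩ := D.Ms.φ_ne h0
  have h2 := h v hv
  rw [h' v hv, show D.φ (D.r 0) v = 1 from hv1, pw_one] at h2
  have h3 := mul_left_cancel h2
  rcases zmod_cases (D.φ (D.r 1) v) with h4 | h4
  · rw [h4, pw_zero] at h3
    exact D.Ms.pz_ne h0 h3.symm
  · rw [h4, pw_one] at h3
    exact D.r_r (i := 1) (j := 0) (by decide) (mul_right_cancel h3)

theorem C_M {c : G} (hc : c ∈ D.C) : c ∈ D.M := D.Q_M (mem_zt.1 (D.C_le 0 hc)).1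

/-- `z ∉ K`, `z r ∉ K` for normal subgroups of `C(r)` inside `⟨r, z⟩` -/
theorem cc_small {K : Subgroup G} (hK : ∀ k ∈ K, k = 1 ∨ k = D.z ∨ k = D.r 0 ∨ k = D.r 0 * D.z)
    (hn : ∀ h, h * D.r 0 = D.r 0 * h → ∀ k ∈ K, h * k * h⁻¹ ∈ K) : ∀ k ∈ K, k = 1 ∨ k = D.r 0 := by
  have zΔ : D.z ∈ D.Hs.Δ := self_mem_Delta (D.r 0) D.z
  obtain ⟨y, hy, hy1⟩ := D.Hs.exists_nbr zΔ
  have hyU := D.Hs.Δ_le hy
  have hφ : ∀ w, (w = 1 ∨ w = D.z ∨ w = D.r 0 ∨ w = D.r 0 * D.z) → D.Hs.φ D.z w = 0 := by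
    rintro w (h | h | h | h)
    · rw [h]; exact D.Hs.φ_one zΔ
    · rw [h]; exact D.Hs.φ_self zΔ
    · rw [h]; exact D.Hs.φ_z zΔ
    · rw [h]
      have := D.Hs.φ_mul zΔ D.Hs.z_mem (D.Hs.Δ_le zΔ)
      rw [D.Hs.φ_z zΔ, D.Hs.φ_self zΔ, add_zero] at this
      exact this
  obtain ⟨h, hh, hyh⟩ := hy
  intro k hk
  rcases hK k hk with h1 | h1 | h1 | h1
  · exact Or.inl h1
  · exfalso
    have h2 := hn h hh k hk
    rw [h1, ← hyh] at h2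
    have h3 := hφ y (hK y h2)
    rw [hy1] at h3
    exact one_ne_zero h3
  · exact Or.inr h1
  · exfalso
    have h2 := hn h hh k hk
    have e : h * (D.r 0 * D.z) * h⁻¹ = D.r 0 * y := by
      calc h * (D.r 0 * D.z) * h⁻¹ = (h * D.r 0 * h⁻¹) * (h * D.z * h⁻¹) := by group
        _ = _ := by rw [conj_of_comm hh, hyh]
    rw [h1, e] at h2
    have h3 := hφ _ (hK _ h2)
    have h4 := D.Hs.φ_mul zΔ D.Hs.z_mem hyU
    rw [D.Hs.φ_z zΔ, zero_add, hy1] at h4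
    have h5 : D.Hs.φ D.z (D.r 0 * y) = 1 := h4
    rw [h5] at h3
    exact one_ne_zero h3

end TS

namespace OM

variable {D : TS G} {O : Subgroup G} (F : OM D O) (B : Bz D)
include F

/-- `[O, N_p] ≤ NO p` -/
theorem comm_mem {p x n : G} (hp : p ∈ D.Δ) (hx : x ∈ O) (hn : n ∈ gen p D.z) : x * n * x⁻¹ * n⁻¹ ∈ D.NO p :=
  D.comm_N hp (D.mem_A.2 (F.O_M hx)) (F.O_U x hx) hn

/-- `NO p ≤ O` -/
theorem NO_O {p n : G} (hp : p ∈ D.Δ) (hn : n ∈ D.NO p) : n ∈ O := by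
  obtain ⟨m, hm, rfl⟩ := hp
  have hm' := D.M.inv_mem hm
  have h1 := D.NO_conj (D.mem_A.2 hm') hn
  rw [show m⁻¹ * (m * D.r 0 * m⁻¹) * m⁻¹⁻¹ = D.r 0 by group] at h1
  have h2 := F.Q_O _ (mem_zt.1 (D.N_le_zt 0 h1.1)).1 (D.mem_NO.1 h1).2
  have h3 := F.O_conj m hm _ h2
  have e : m * (m⁻¹ * n * m⁻¹⁻¹) * m⁻¹ = n := by group
  rwa [e] at h3

theorem Gam_O : D.Gam ≤ O := by
  unfold TS.Gam
  rw [closure_le]
  rintro x ⟨p, hp, hx⟩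
  exact F.NO_O hp hx

include B

/-- **(15)** `O_M = U` -/
theorem O_eq [Finite G] (hk : KOne D) {x : G} (hx : x ∈ O) : x ∈ D.U := by
  apply F.fourteen B hx
  rintro p hp n hn
  have h1 := F.comm_mem hp hx hn
  obtain ⟨m, hm, rfl⟩ := hp
  have hm' := D.M.inv_mem hm
  have h2 := D.NO_conj (D.mem_A.2 hm') h1
  rw [show m⁻¹ * (m * D.r 0 * m⁻¹) * m⁻¹⁻¹ = D.r 0 by group] at h2
  have h3 := gn_inv hm (hk _ h2)
  have e : m * (m⁻¹ * (x * n * x⁻¹ * n⁻¹) * m⁻¹⁻¹) * m⁻¹ = x * n * x⁻¹ * n⁻¹ := by group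
  rwa [e] at h3

theorem O_eq_U [Finite G] (hk : KOne D) : O = D.U := le_antisymm (fun _ hx => F.O_eq B hk hx) F.U_O

/-- `C_M(U) = U` -/
theorem CMU [Finite G] (hk : KOne D) (hc : ∀ g ∈ D.M, (∀ o ∈ O, g * o = o * g) → g ∈ O) {g : G} (hg : g ∈ D.M)
    (hgU : ∀ u ∈ D.U, g * u = u * g) : g ∈ D.U :=
  F.O_eq B hk (hc g hg fun o ho => hgU o (F.O_eq B hk ho))

/-- `Z(Q₁) = N₁` -/
theorem zt_eq [Finite G] (hk : KOne D) (hc : ∀ g ∈ D.M, (∀ o ∈ O, g * o = o * g) → g ∈ O) :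
    zt (D.Q (D.r 0)) = gen (D.r 0) D.z := by
  apply le_antisymm _ (D.N_le_zt 0)
  have h4 : ∀ c ∈ D.U, c ∈ zt (D.Q (D.r 0)) → c ∈ gen (D.r 0) D.z := by
    intro c hc1 hc2
    have zN : D.z ∈ gen (D.r 0) D.z := self_mem_gen _ _
    rcases D.U_zt hc1 hc2 with h | h | h | h
    · rw [h]; exact Subgroup.one_mem _
    · rw [h]; exact zN
    · rw [h]; exact D.r_mem_N
    · rw [h]; exact Subgroup.mul_mem _ D.r_mem_N zN
  intro g hg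
  have hgM : g ∈ D.M := D.Q_M (mem_zt.1 hg).1
  rcases D.zt_act0 hg with h | h
  · exact h4 g (F.CMU B hk hc hgM fun u hu => comm_of_conj (h u hu)) hg
  · have h0 : D.r 0 ∈ D.Ms.Δ := D.r0_Δ
    have ht := D.Ms.t_mem h0
    have htN : D.Ms.t (D.r 0) ∈ gen (D.r 0) D.z := ht
    have htz := D.N_le_zt 0 htN
    have htM : D.Ms.t (D.r 0) ∈ D.M := D.Q_M (mem_zt.1 htz).1
    have h1 : g * (D.Ms.t (D.r 0))⁻¹ ∈ gen (D.r 0) D.z := by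
      apply h4 _ _ (Subgroup.mul_mem _ hg (Subgroup.inv_mem _ htz))
      apply F.CMU B hk hc (D.M.mul_mem hgM (D.M.inv_mem htM))
      intro u hu
      have hv : (D.Ms.t (D.r 0))⁻¹ * u * D.Ms.t (D.r 0) ∈ D.U := gn_inv' htM hu
      have h5 := h _ hv
      have h6 := D.Ms.t_act h0 hv
      have h7 : g * ((D.Ms.t (D.r 0))⁻¹ * u * D.Ms.t (D.r 0)) * g⁻¹ =
          D.Ms.t (D.r 0) * ((D.Ms.t (D.r 0))⁻¹ * u * D.Ms.t (D.r 0)) * (D.Ms.t (D.r 0))⁻¹ := by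
        rw [h5, h6]; rfl
      have e : D.Ms.t (D.r 0) * ((D.Ms.t (D.r 0))⁻¹ * u * D.Ms.t (D.r 0)) * (D.Ms.t (D.r 0))⁻¹ = u := by group
      rw [e] at h7
      calc g * (D.Ms.t (D.r 0))⁻¹ * u
          = (g * ((D.Ms.t (D.r 0))⁻¹ * u * D.Ms.t (D.r 0)) * g⁻¹) * (g * (D.Ms.t (D.r 0))⁻¹) := by group
        _ = _ := by rw [h7]
    have h2 := Subgroup.mul_mem _ h1 htN
    rwa [inv_mul_cancel_right] at h2

/-- `C = ⟨z⟩` -/
theorem C_eq [Finite G] (hk : KOne D) (hc : ∀ g ∈ D.M, (∀ o ∈ O, g * o = o * g) → g ∈ O) {c : G}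
    (h : c ∈ D.C) : c = 1 ∨ c = D.z :=
  D.C_U (F.CMU B hk hc (D.C_M h) fun _ hu => D.C_cent h hu) h

end OM

end Cfsg.Agent.Omega.HOneTwo.Trans
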