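import Cfsg.Agent.Omega.HOneTwo.OpEnd
import Cfsg.Agent.Omega.HOneTwo.FormPow
import Cfsg.Agent.Omega.HOneTwo.TransRes
import Cfsg.Agent.Omega.HOneTwo.TwoKOne
import Cfsg.Agent.Omega.HOneTwo.TwoPartB

/-!
# II.0h1, `q = 2`, F4-type: `TS` gives `OpD`, and the end of (17)-(20) of #16429

* `Inp D` : `OM D (O₂ M)`, `Bz D`, `[O₂ M, Γ] ≤ ⟨z⟩`;  `Inp.op : OpD G`;
* `Inp.two_three` : (18);
* `Inp.f4` : `|U| = 2⁷`, `|NO r| = 2⁶`, `O₂(M) = Γ`, `|O₂(M)| = 2¹⁵`.
-/

set_option autoImplicit false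
set_option linter.unusedSectionVars false

namespace Cfsg.Agent.Omega.HOneTwo.OpInst

open Subgroup Cfsg.Agent.Omega.BTwo Cfsg.Agent.Omega.HTwo.Eight Cfsg.Agent.Omega.HOneTwo.OpSys

universe u

variable {G : Type u} [Group G]

namespace OpD

variable (D : OpD G) [Finite G]

/-- `M` permutes the operators -/
theorem TT_conj {m u : G} (hm : m ∈ D.M) (hu : u ∈ D.U) (s : D.S) :
    D.act m (D.TT u s) = D.TT (m * u * m⁻¹) (D.act m s) := by
  have hz := D.res.conj_z hm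
  have key : ∀ p ∈ D.Δ, D.act m (D.T₀ p s) = D.T₀ (m * p * m⁻¹) (D.act m s) := by
    intro p hp
    have htM := D.res.t_M hp
    have hN : m * D.t p * m⁻¹ ∈ Np D.z (m * p * m⁻¹) := by
      rw [← cj_Np (D.res.M_z hm)]
      exact conj_mem_cj (D.res.t_N hp)
    have h1 := D.act_mv (D.res.Δ_M m hm p hp) hN (D.res.conj_mv hm (D.res.t_mv hp)) (D.act m s)
    have hM : m * D.t p * m⁻¹ ∈ D.M := D.M.mul_mem (D.M.mul_mem hm htM) (D.M.inv_mem hm)
    have e : m * D.t p * m⁻¹ * m = m * D.t p := by group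
    rw [D.T₀_eq, D.T₀_eq, map_add, ← h1, ← D.act_mul hM hm, e, D.act_mul hm htM]
  have hzz : ∀ u, m * (u * D.z) * m⁻¹ = m * u * m⁻¹ * D.z := by
    intro u
    calc m * (u * D.z) * m⁻¹ = m * u * m⁻¹ * (m * D.z * m⁻¹) := by group
      _ = _ := by rw [hz]
  rcases D.cases hu with ⟨h1, h2, -⟩ | ⟨p, hp, h1, h2, -⟩
  · rw [h2]
    rcases h1 with rfl | rfl
    · have e : m * 1 * m⁻¹ = 1 := by group
      rw [e, D.TT_one]
      show D.act m 0 = 0
      rw [map_zero]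
    · rw [hz, D.TT_z]
      show D.act m 0 = 0
      rw [map_zero]
  · rw [h2, key p hp]
    have hp' := D.res.Δ_M m hm p hp
    rcases h1 with rfl | rfl
    · rw [D.TT_Δ hp']
    · rw [hzz, D.TT_pz hp']

end OpD

end Cfsg.Agent.Omega.HOneTwo.OpInst

namespace Cfsg.Agent.Omega.HOneTwo.Trans

open Subgroup Cfsg.Agent.Omega.BTwo Cfsg.Agent.Omega.HTwo.Eight Cfsg.Agent.Omega.HOneTwo.OpSys
  Cfsg.Agent.Omega.HOneTwo.OpInst
open Cfsg.Agent.Omega.HOneTwo.OpInst.OpD (el ve el_mem)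

universe u

variable {G : Type u} [Group G]

namespace TS

/-- the inputs -/
structure Inp (D : TS G) : Prop where
  hQ : ∀ p, D.Q p = Qp p
  F : OM D (O2 D.M)
  B : Bz D
  hOG : ∀ o ∈ O2 D.M, ∀ g ∈ D.Gam, o * g = g * o ∨ o * g = D.z * (g * o)

theorem Gam_eq (D : TS G) : OpInst.Gam D.z D.U D.Δ = D.Gam := by
  unfold OpInst.Gam Gam
  congr 1
  ext n
  constructor
  · rintro ⟨p, hp, h1, h2⟩
    rw [Np_eq] at h1
    exact ⟨p, hp, D.mem_NO.2 ⟨h1, h2⟩⟩
  · rintro ⟨p, hp, h1⟩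
    rw [D.mem_NO] at h1
    exact ⟨p, hp, by rw [Np_eq]; exact h1.1, h1.2⟩

variable {D : TS G}

theorem U_N {p u : G} (hp : p ∈ D.Δ) (hu : u ∈ D.U) (hn : u ∈ gen p D.z) :
    u = 1 ∨ u = p ∨ u = D.z ∨ u = p * D.z := by
  obtain ⟨m, hm, rfl⟩ := hp
  have hm' := D.M.inv_mem hm
  have h1 : m⁻¹ * u * m ∈ D.U := by
    have := gn_inv (r := D.r 0) hm' hu
    rwa [inv_inv] at this
  have h2 : m⁻¹ * u * m ∈ gen (D.r 0) D.z := by
    have := gen_conj m⁻¹ hn
    rw [D.m_z' hm, inv_inv] at this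
    have e : m⁻¹ * (m * D.r 0 * m⁻¹) * m = D.r 0 := by group
    rwa [e] at this
  have hz := D.m_z hm
  have e : u = m * (m⁻¹ * u * m) * m⁻¹ := by group
  rcases D.U_zt h1 (D.N_le_zt 0 h2) with h | h | h | h
  · left; rw [e, h]; group
  · right; right; left
    rw [e, h, hz]
  · right; left
    rw [e, h]
  · right; right; right
    rw [e, h]
    calc m * (D.r 0 * D.z) * m⁻¹ = m * D.r 0 * m⁻¹ * (m * D.z * m⁻¹) := by group
      _ = _ := by rw [hz]

namespace Inp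

variable (I : Inp D)

/-- **the instance** -/
noncomputable def op [Finite G] (I : Inp D) : OpD G where
  z := D.z
  M := D.M
  U := D.U
  Δ := D.Δ
  f := D.f
  t := D.tz
  r := D.r 0
  res := D.res I.hQ I.F.O_U I.F.U_O
  r_Δ := D.r0_Δ
  OG := by
    rw [D.Gam_eq]
    exact I.hOG
  NN := by
    intro p hp q hq h1 n hn hn'
    rw [Np_eq] at hn hn'
    have h2 : D.φ p q = 1 := by rw [← D.f_Δ hp]; exact h1
    exact I.B.cen n fun s hs => D.BN_BB (D.N_inf hp hq h2 hn hn') s hs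
  UN := by
    intro p hp u hu hn
    rw [Np_eq] at hn
    exact U_N hp hu hn
  C14 := by
    intro x hx h
    refine I.F.fourteen I.B hx fun p hp n hn => h p hp n ?_
    rw [Np_eq]
    exact hn

theorem NU_iff [Finite G] {p n : G} : I.op.NU p n ↔ n ∈ D.NO p := by
  rw [D.mem_NO]
  show n ∈ Np D.z p ∧ _ ↔ _
  rw [Np_eq]
  exact Iff.rfl

end Inp

/-! ### the space `L = NO (r 0)` -/

/-- the group `NO (r 0)` -/
@[reducible] def NOCG (D : TS G) : CommGroup (D.NO (D.r 0)) :=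
  { (inferInstance : Group (D.NO (D.r 0))) with
    mul_comm := fun a b => Subtype.ext (D.N_comm D.r0_Δ (D.mem_NO.1 a.2).1 (D.mem_NO.1 b.2).1) }

/-- `L` -/
def L (D : TS G) : Type u := Additive (D.NO (D.r 0))

noncomputable instance (D : TS G) : AddCommGroup D.L := @Additive.addCommGroup _ D.NOCG

/-- the element -/
def le (x : D.L) : G := (Additive.toMul (α := D.NO (D.r 0)) x).1

/-- the vector -/
def lv {n : G} (hn : n ∈ D.NO (D.r 0)) : D.L := Additive.ofMul (⟨n, hn⟩ : D.NO (D.r 0))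

theorem le_mem (x : D.L) : le x ∈ D.NO (D.r 0) := (Additive.toMul (α := D.NO (D.r 0)) x).2

theorem le_add (x y : D.L) : le (x + y) = le x * le y := rfl

theorem le_lv {n : G} (hn : n ∈ D.NO (D.r 0)) : le (lv hn : D.L) = n := rfl

theorem le_zero : le (0 : D.L) = 1 := rfl

theorem le_inj {x y : D.L} (h : le x = le y) : x = y := Additive.toMul.injective (Subtype.ext h)

instance [Finite G] : Finite D.L := inferInstanceAs (Finite (Additive (D.NO (D.r 0))))

/-- the form -/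
noncomputable def g (x y : D.L) : ZMod 2 := D.Hs.f (le x) (le y)

theorem le_U (x : D.L) : le x ∈ D.Hs.U := (D.mem_NO.1 (le_mem x)).1

theorem le_z (x : D.L) : D.Hs.φ D.z (le x) = 0 := (TB.mem_NO_r.1 (le_mem x)).2

section form

variable (hF : D.Hs.IsFull)

theorem g_two (x : D.L) : x + x = 0 := le_inj (by rw [le_add, le_zero]; exact D.Hs.U_sq _ (le_U x))

theorem g_add (hF : D.Hs.IsFull) (x y w : D.L) : g (x + y) w = g x w + g y w :=
  hF.f_mul_left (le_U x) (le_U y) (le_U w)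

theorem g_symm (hF : D.Hs.IsFull) (x y : D.L) : g x y = g y x := hF.f_symm (le_U x) (le_U y)

theorem g_alt (hF : D.Hs.IsFull) (x : D.L) : g x x = 0 := hF.f_self (le_U x)

theorem f_zn (n : G) : D.Hs.f D.z n = D.Hs.φ D.z n := Side.f_Δ D.zHs

theorem f_nz (hF : D.Hs.IsFull) {n : G} (hn : n ∈ D.Hs.U) : D.Hs.f n D.z = D.Hs.φ D.z n := by
  rw [hF.f_symm hn (D.Hs.Δ_le D.zHs), f_zn]

/-- elements of `U` are in the radical -/
theorem g_U (hF : D.Hs.IsFull) {x : D.L} (hx : le x ∈ D.U) (y : D.L) : g x y = 0 := by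
  have hx' := U_N D.r0_Δ hx (le_U x)
  show D.Hs.f (le x) (le y) = 0
  have hz : D.z ∈ D.Hs.U := D.Hs.Δ_le D.zHs
  have h1 : D.Hs.f D.z (le y) = 0 := by rw [f_zn]; exact le_z y
  have h2 : D.Hs.f (D.r 0) (le y) = 0 := hF.f_z
  rcases hx' with h | h | h | h <;> rw [h]
  · exact hF.f_one
  · exact h2
  · exact h1
  · have h3 : D.Hs.f (D.r 0 * D.z) (le y) = D.Hs.f (D.r 0) (le y) + D.Hs.f D.z (le y) :=
      hF.f_mul_left D.Hs.z_mem hz (le_U y)
    rw [h3, h1, h2, add_zero]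

/-- the radical of `g` is `U ∩ NO r` -/
theorem g_ker (hF : D.Hs.IsFull) {x : D.L} (hx : le x ∉ D.U) : ∃ y, g x y = 1 := by
  by_contra hcon
  push Not at hcon
  have h0 : ∀ y : D.L, g x y = 0 := fun y => (zmod_cases _).resolve_right (hcon y)
  have hz : D.z ∈ D.Hs.U := D.Hs.Δ_le D.zHs
  obtain ⟨w, hw, hw1⟩ := D.Hs.exists_nbr D.zHs
  have hwU := D.Hs.Δ_le hw
  -- the claim for `x'` with `f x' w = 0`
  have key : ∀ x', x' ∈ D.Hs.U → (∀ y ∈ D.Hs.U, D.Hs.φ D.z y = 0 → D.Hs.f x' y = 0) → D.Hs.f x' w = 0 →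
      x' = 1 ∨ x' = D.r 0 := by
    intro x' hx' h1 h2
    refine hF.rad hx' fun v hv => ?_
    have hvU := D.Hs.Δ_le hv
    rcases zmod_cases (D.Hs.φ D.z v) with h3 | h3
    · exact h1 v hvU h3
    · have h4 := h1 (v * w) (Subgroup.mul_mem _ hvU hwU) (by
        rw [D.Hs.φ_mul D.zHs hvU hwU, h3, hw1]; decide)
      rwa [hF.f_mul_right hvU hwU hx', h2, add_zero] at h4
  have hx0 : ∀ y ∈ D.Hs.U, D.Hs.φ D.z y = 0 → D.Hs.f (le x) y = 0 := fun y hy h1 =>
    h0 (lv (TB.mem_NO_r.2 ⟨hy, h1⟩))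
  rcases zmod_cases (D.Hs.f (le x) w) with h1 | h1
  · rcases key _ (le_U x) hx0 h1 with h2 | h2 <;> apply hx <;> rw [h2]
    · exact one_mem _
    · exact D.r_mem 0
  · have h2 := key (le x * D.z) (Subgroup.mul_mem _ (le_U x) hz) (fun y hy h3 => by
      rw [hF.f_mul_left (le_U x) hz hy, hx0 y hy h3, f_zn, h3, add_zero])
      (by rw [hF.f_mul_left (le_U x) hz hwU, h1, f_zn, hw1]; decide)
    apply hx
    have e : le x = le x * D.z * D.z := by rw [mul_assoc, D.z_sq, mul_one]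
    rw [e]
    rcases h2 with h2 | h2 <;> rw [h2]
    · exact Subgroup.mul_mem _ (one_mem _) D.z_mem
    · exact Subgroup.mul_mem _ (D.r_mem 0) D.z_mem

end form

namespace Inp

variable [Finite G] (I : Inp D)

/-- `n ↦ n U` -/
noncomputable def iota : D.L →+ I.op.S where
  toFun x := I.op.cl (le x)
  map_zero' := I.op.cl_one
  map_add' x y := I.op.cl_mul (I.op.NU_Γ D.r0_Δ (I.NU_iff.2 (le_mem x))) (I.op.NU_Γ D.r0_Δ (I.NU_iff.2 (le_mem y)))

theorem NO_Γ {n : G} (hn : n ∈ D.NO (D.r 0)) : n ∈ I.op.Γ := I.op.NU_Γ D.r0_Δ (I.NU_iff.2 hn)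

theorem iota_eq_zero {x : D.L} : I.iota x = 0 ↔ le x ∈ D.U := I.op.cl_eq_zero (I.NO_Γ (le_mem x))

/-- the vector of `r` -/
noncomputable abbrev q : I.op.E := ve (I.op.res.Δ_U _ I.op.r_Δ)

theorem iota_range : I.iota.range = (I.op.T I.q).range := by
  ext s
  rw [I.op.mem_range I.op.r_Δ s]
  constructor
  · rintro ⟨x, rfl⟩
    exact ⟨le x, I.NU_iff.2 (le_mem x), rfl⟩
  · rintro ⟨n, hn, rfl⟩
    exact ⟨lv (I.NU_iff.1 hn), rfl⟩

include I in
theorem conj_NO {m n : G} (hm : m ∈ D.M) (hr : m * D.r 0 = D.r 0 * m) (hn : n ∈ D.NO (D.r 0)) :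
    m * n * m⁻¹ ∈ D.NO (D.r 0) := by
  have := D.NO_conj (D.mem_A.2 hm) hn
  rwa [conj_of_comm hr] at this

/-- `g` is invariant under `C_M(r)` -/
theorem g_conj {m : G} (hm : m ∈ D.M) (hr : m * D.r 0 = D.r 0 * m) {x y x' y' : D.L}
    (hx : I.iota x' = I.op.act m (I.iota x)) (hy : I.iota y' = I.op.act m (I.iota y)) : g x' y' = g x y := by
  have hF := I.B.full
  -- replace `x'` by `m x m⁻¹`
  have key : ∀ x x' : D.L, I.iota x' = I.op.act m (I.iota x) → ∀ w,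
      g x' w = g (lv (I.conj_NO hm hr (le_mem x))) w := by
    intro x x' hx w
    have h1 : I.iota (x' + lv (I.conj_NO hm hr (le_mem x))) = 0 := by
      have h2 : I.op.act m (I.iota x) = I.iota (lv (I.conj_NO hm hr (le_mem x))) :=
        I.op.act_cl hm (I.NO_Γ (le_mem x))
      rw [map_add, hx, h2, I.op.twoS]
    have h3 := g_U hF (I.iota_eq_zero.1 h1) w
    rw [g_add hF] at h3
    rcases zmod_cases (g x' w) with c | c <;>
      rcases zmod_cases (g (lv (I.conj_NO hm hr (le_mem x))) w) with d | d <;> rw [c, d] at h3 ⊢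
    · exact absurd h3 (by decide)
    · exact absurd h3 (by decide)
  rw [key x x' hx, g_symm hF, key y y' hy, g_symm hF]
  show D.Hs.f (m * le x * m⁻¹) (m * le y * m⁻¹) = D.Hs.f (le x) (le y)
  exact hF.f_conj (mem_centralizer_singleton_iff.2 hr) (le_U x) (le_U y)

include I in
theorem t_r {p : G} (hp : p ∈ D.Δ) (h : D.f (D.r 0) p = 0) : D.tz p * D.r 0 = D.r 0 * D.tz p := by
  refine I.op.res.t_0 p hp (D.r 0) (D.r_mem 0) ?_
  show D.f p (D.r 0) = 0
  rw [D.f_symm (D.Ms.Δ_le hp) (D.r_mem 0), h]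

/-- (iso) -/
theorem iso (s : I.op.E) (hs : I.op.F I.q s = 0) (x y x' y' : D.L) (hx : I.iota x' = I.op.T s (I.iota x))
    (hy : I.iota y' = I.op.T s (I.iota y)) : g (x + x') (y + y') = g x y := by
  have hF := I.B.full
  have hs' : D.f (D.r 0) (el s) = 0 := hs
  rcases I.op.cases (el_mem s) with ⟨-, h, -⟩ | ⟨p, hp, -, h2, h3⟩
  · have e : ∀ w, I.op.T s w = 0 := fun w => by
      show I.op.TT (el s) w = 0
      rw [h]; rfl
    rw [e] at hx hy
    have h1 := g_U hF (I.iota_eq_zero.1 hx)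
    have h2 := g_U hF (I.iota_eq_zero.1 hy)
    rw [g_add hF, h1, add_zero, g_symm hF, g_add hF, h2, add_zero, g_symm hF]
  · have hp' : D.f (D.r 0) p = 0 := by
      have h4 : D.f (el s) (D.r 0) = D.f p (D.r 0) := h3 _ (D.r_mem 0)
      rw [D.f_symm (D.r_mem 0) (D.Ms.Δ_le hp), ← h4, D.f_symm (el_mem s) (D.r_mem 0)]
      exact hs'
    have e : ∀ w, I.op.T s w = w + I.op.act (D.tz p) w := fun w => by
      show I.op.TT (el s) w = _
      rw [h2]; rfl
    rw [e] at hx hy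
    refine I.g_conj (I.op.res.t_M hp) (I.t_r hp hp') ?_ ?_
    · rw [map_add, hx, ← add_assoc, I.op.twoS, zero_add]; rfl
    · rw [map_add, hy, ← add_assoc, I.op.twoS, zero_add]; rfl

/-- `T s` and `C_M(r)` -/
theorem act_W {m : G} (hm : m ∈ D.M) (hr : m * D.r 0 = D.r 0 * m) {s : I.op.E} (hs : I.op.F I.q s = 0) :
    ∃ s', I.op.F I.q s' = 0 ∧ ∀ w ∈ (I.op.T I.q).range.map (I.op.T s),
      I.op.act m w ∈ (I.op.T I.q).range.map (I.op.T s') := by
  have hr' : m * D.r 0 * m⁻¹ = D.r 0 := conj_of_comm hr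
  have hsU := el_mem s
  have hm' : m * el s * m⁻¹ ∈ D.U := I.op.res.U_M m hm _ hsU
  refine ⟨ve hm', ?_, ?_⟩
  · have h1 : D.f (m * D.r 0 * m⁻¹) (m * el s * m⁻¹) = D.f (D.r 0) (el s) := I.op.res.f_M m hm _ (D.r_mem 0) _ hsU
    rw [hr'] at h1
    show D.f (D.r 0) (m * el s * m⁻¹) = 0
    rw [h1]; exact hs
  · rintro _ ⟨_, ⟨w, rfl⟩, rfl⟩
    have e1 : I.op.act m (I.op.T s (I.op.T I.q w)) = I.op.TT (m * el s * m⁻¹) (I.op.act m (I.op.T I.q w)) :=
      I.op.TT_conj hm hsU _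
    have e2 : I.op.act m (I.op.T I.q w) = I.op.TT (m * D.r 0 * m⁻¹) (I.op.act m w) :=
      I.op.TT_conj hm (D.r_mem 0) _
    rw [hr'] at e2
    show I.op.act m (I.op.T s (I.op.T I.q w)) ∈ _
    rw [e1, e2]
    exact ⟨_, ⟨_, rfl⟩, rfl⟩

/-- (tv) -/
theorem tv (u : D.L) (s : I.op.E) (hs : I.op.F I.q s = 0) : ∃ s', I.op.F I.q s' = 0 ∧
    ∀ x, I.iota x ∈ (I.op.T I.q).range.map (I.op.T s) →
      I.iota (tau g u x) ∈ (I.op.T I.q).range.map (I.op.T s') := by
  have hF := I.B.full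
  rcases hF.cases (le_U u) with h | ⟨y, hy, huy⟩
  · refine ⟨s, hs, fun x hx => ?_⟩
    have h1 : g u x = 0 := by
      show D.Hs.f (le u) (le x) = 0
      rcases h with h | h <;> rw [h]
      · exact hF.f_one
      · exact hF.f_z
    rw [tau_zero h1]; exact hx
  · -- the transvection of `y`
    have hyU := D.Hs.Δ_le hy
    have h0 : D.Hs.φ D.z y = 0 := by
      have h1 := le_z u
      rcases huy with h | h <;> rw [h] at h1
      · exact h1
      · have h2 : D.Hs.φ D.z (y * D.Hs.z) = D.Hs.φ D.z y := hF.φ_mul_z D.zHs hyU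
        rwa [h2] at h1
    have h0' : D.Hs.φ y D.z = 0 := (D.Hs.symm hy D.zHs).trans h0
    have hN := D.Hs.t_mem hy
    have hmr : D.Hs.t y * D.r 0 = D.r 0 * D.Hs.t y := mem_centralizer_singleton_iff.1 (D.Hs.t_A hy)
    have hmz : D.Hs.t y * D.z = D.z * D.Hs.t y := by
      have h1 := D.Hs.t_act hy (D.Hs.Δ_le D.zHs)
      rw [h0', pw_zero, mul_one] at h1
      exact comm_of_conj h1
    have hm : D.Hs.t y ∈ D.M := D.M_r _ hmr hmz
    obtain ⟨s', hs', hW⟩ := I.act_W hm hmr hs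
    refine ⟨s', hs', fun x hx => ?_⟩
    have e : I.iota (tau g u x) = I.op.act (D.Hs.t y) (I.iota x) := by
      have h1 : I.op.act (D.Hs.t y) (I.iota x) = I.op.cl (D.Hs.t y * le x * (D.Hs.t y)⁻¹) :=
        I.op.act_cl hm (I.NO_Γ (le_mem x))
      have h2 := D.Hs.t_act hy (le_U x)
      have h3 : g u x = D.Hs.φ y (le x) := by
        show D.Hs.f (le u) (le x) = _
        rcases huy with h | h <;> rw [h]
        · exact Side.f_Δ hy
        · exact hF.f_pz hy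
      rw [h1, h2, ← h3]
      rcases zmod_cases (g u x) with h4 | h4
      · rw [tau_zero h4, h4, pw_zero, mul_one]; rfl
      · rw [tau_one h4, h4, pw_one]
        have hrG : D.r 0 ∈ I.op.Γ := I.op.U_Γ (D.r_mem 0)
        have h5 : I.op.cl (le u) = I.op.cl (y * D.r 0) := by
          rcases huy with h | h
          · rw [h, I.op.cl_mul (by rw [← h]; exact I.NO_Γ (le_mem u)) hrG, (I.op.cl_eq_zero hrG).2 (D.r_mem 0),
              add_zero]
          · rw [h]; rfl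
        have hyG : y * D.r 0 ∈ I.op.Γ := by
          rcases huy with h | h
          · have h6 := I.NO_Γ (le_mem u)
            rw [h] at h6
            exact Subgroup.mul_mem _ h6 hrG
          · have h6 := I.NO_Γ (le_mem u)
            rw [h] at h6
            exact h6
        show I.op.cl (le x * le u) = I.op.cl (le x * (y * D.r 0))
        rw [I.op.cl_mul (I.NO_Γ (le_mem x)) (I.NO_Γ (le_mem u)), I.op.cl_mul (I.NO_Γ (le_mem x)) hyG, h5]
    rw [e]
    exact hW _ hx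

theorem q_perp : ∃ s s', I.op.F I.q s = 0 ∧ I.op.F I.q s' = 0 ∧ I.op.F s s' = 1 := by
  have h0 := D.r_mem 0
  have h1 := D.r_mem 1
  have f01 : D.f (D.r 0) (D.r 1) = 0 := by
    rw [D.f_Δ D.r0_Δ, D.φ_eq_zero_iff]; exact D.r_Q 1 0
  have key : ∃ v ∈ D.U, D.f (D.r 0) v = 0 ∧ D.f (D.r 1) v = 1 := by
    by_contra hcon
    push Not at hcon
    have hc : ∀ v ∈ D.U, D.f (D.r 0) v = 0 → D.f (D.r 1) v = 0 := fun v hv hv0 =>
      (zmod_cases _).resolve_right (hcon v hv hv0)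
    obtain ⟨w, hw, hw1⟩ := D.Ms.φ_ne D.r0_Δ
    have hw1' : D.f (D.r 0) w = 1 := by rw [D.f_Δ D.r0_Δ]; exact hw1
    have hr1 : D.r 1 ≠ 1 ∧ D.r 1 ≠ D.z := ⟨D.Ms.one_notin (D.r_Δ 1), D.Ms.z_notin (D.r_Δ 1)⟩
    have hr2 : D.r 2 ≠ 1 ∧ D.r 2 ≠ D.z := ⟨D.Ms.one_notin (D.r_Δ 2), D.Ms.z_notin (D.r_Δ 2)⟩
    rcases zmod_cases (D.f (D.r 1) w) with h2 | h2
    · have h3 := D.f_rad h1 (fun v hv => by
        rcases zmod_cases (D.f (D.r 0) v) with h4 | h4
        · exact hc v hv h4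
        · have h5 := hc (v * w) (Subgroup.mul_mem _ hv hw) (by
            rw [D.f_mul_right h0 hv hw, h4, hw1']; decide)
          rwa [D.f_mul_right h1 hv hw, h2, add_zero] at h5)
      rcases h3 with h3 | h3
      · exact hr1.1 h3
      · exact hr1.2 h3
    · have h3 := D.f_rad (Subgroup.mul_mem _ h0 h1) (fun v hv => by
        rw [D.f_mul_left h0 h1 hv]
        rcases zmod_cases (D.f (D.r 0) v) with h4 | h4
        · rw [h4, hc v hv h4, add_zero]
        · have h5 := hc (v * w) (Subgroup.mul_mem _ hv hw) (by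
            rw [D.f_mul_right h0 hv hw, h4, hw1']; decide)
          rw [D.f_mul_right h1 hv hw, h2] at h5
          rcases zmod_cases (D.f (D.r 1) v) with h6 | h6 <;> rw [h6] at h5 ⊢
          · exact absurd h5 (by decide)
          · rw [h4]; decide)
      have h4 : D.r 0 * D.r 1 = D.r 2 := by
        have h5 := D.r_prod
        rw [mul_eq_one_iff_eq_inv, D.Ms.U_inv (D.r_mem 2)] at h5
        exact h5
      rw [h4] at h3
      rcases h3 with h3 | h3
      · exact hr2.1 h3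
      · exact hr2.2 h3
  obtain ⟨v, hv, hv0, hv1⟩ := key
  exact ⟨ve h1, ve hv, f01, hv0, hv1⟩

theorem exists_q : ∃ p : I.op.E, I.op.F p I.q = 1 := by
  obtain ⟨w, hw, hw1⟩ := D.Ms.φ_ne D.r0_Δ
  refine ⟨ve hw, ?_⟩
  show D.f w (D.r 0) = 1
  rw [D.f_symm hw (D.r_mem 0), D.f_Δ D.r0_Δ]; exact hw1

include I in
/-- `|U| = 2 · 4 ^ m` -/
theorem card_U : ∃ m, Nat.card D.U = 4 ^ m * 2 := by
  obtain ⟨m, hm⟩ := FormPow.form_pow (L := I.op.E) (g := I.op.F) I.op.ops.add I.op.ops.symm I.op.ops.alt I.op.R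
    (fun c => I.op.mem_R)
  rw [I.op.card_R] at hm
  exact ⟨m, hm⟩

theorem ker_iota (c : D.L) : c ∈ I.iota.ker ↔ ∀ e, g e c = 0 := by
  have hF := I.B.full
  rw [AddMonoidHom.mem_ker, I.iota_eq_zero]
  constructor
  · intro h e
    rw [g_symm hF]; exact g_U hF h e
  · intro h
    by_contra hcon
    obtain ⟨y, hy⟩ := g_ker hF hcon
    rw [g_symm hF, h y] at hy
    exact zero_ne_one hy

theorem card_ker : Nat.card I.iota.ker = 4 := by
  have hzN : D.z ∈ D.NO (D.r 0) := D.mem_NO.2 ⟨self_mem_gen _ _, fun u hu => (D.U_z hu).symm⟩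
  have hrN : D.r 0 ∈ D.NO (D.r 0) := D.mem_NO.2 ⟨D.r_mem_N, fun u hu => (D.U_r hu).symm⟩
  have e : (I.iota.ker : Set D.L) = {0, lv hzN, lv hrN, lv hrN + lv hzN} := by
    ext x
    show I.iota x = 0 ↔ _
    rw [I.iota_eq_zero]
    constructor
    · intro h
      rcases U_N D.r0_Δ h (le_U x) with h | h | h | h
      · left; exact le_inj h
      · right; right; left; exact le_inj h
      · right; left; exact le_inj h
      · right; right; right; exact le_inj h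
    · rintro (h | h | h | h)
      · rw [h]; exact one_mem _
      · rw [h]; exact D.z_mem
      · rw [h]; exact D.r_mem 0
      · rw [Set.mem_singleton_iff] at h
        rw [h]; exact Subgroup.mul_mem _ (D.r_mem 0) D.z_mem
  have h1 : Nat.card I.iota.ker = (I.iota.ker : Set D.L).ncard := rfl
  have hz1 := D.z_ne
  have hr1 : D.r 0 ≠ 1 := D.Ms.one_notin D.r0_Δ
  have hrz : D.r 0 ≠ D.z := D.Ms.z_notin D.r0_Δ
  have n1 : (0 : D.L) ≠ lv hzN := fun h => hz1 (congrArg le h).symm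
  have n2 : (0 : D.L) ≠ lv hrN := fun h => hr1 (congrArg le h).symm
  have n3 : (0 : D.L) ≠ lv hrN + lv hzN := fun h => by
    have h2 : (1 : G) = D.r 0 * D.z := congrArg le h
    apply hrz
    have h3 : D.r 0 = D.z⁻¹ := eq_inv_of_mul_eq_one_left h2.symm
    rw [h3, inv_eq_of_mul_eq_one_left D.z_sq]
  have n4 : (lv hzN : D.L) ≠ lv hrN := fun h => hrz (congrArg le h).symm
  have n5 : (lv hzN : D.L) ≠ lv hrN + lv hzN := fun h => by
    have h2 : D.z = D.r 0 * D.z := congrArg le h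
    exact hr1 (right_eq_mul.1 h2)
  have n6 : (lv hrN : D.L) ≠ lv hrN + lv hzN := fun h => by
    have h2 : D.r 0 = D.r 0 * D.z := congrArg le h
    exact hz1 (left_eq_mul.1 h2)
  rw [h1, e, Set.ncard_insert_of_notMem, Set.ncard_insert_of_notMem, Set.ncard_pair n6]
  · rintro (h | h)
    · exact n4 h
    · exact n5 h
  · rintro (h | h | h)
    · exact n1 h
    · exact n2 h
    · exact n3 h

/-- `|NO r| = 4 |Σ_r|`, `|Σ_r| = 4 ^ n` -/
theorem card_range : ∃ n, Nat.card (I.op.T I.q).range = 4 ^ n ∧ Nat.card (D.NO (D.r 0)) = 4 ^ n * 4 := by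
  have hF := I.B.full
  obtain ⟨n, hn⟩ := FormPow.form_pow (L := D.L) (g := g) (g_add hF) (g_symm hF) (g_alt hF) I.iota.ker I.ker_iota
  have h1 : Nat.card D.L = Nat.card I.iota.range * Nat.card I.iota.ker := by
    rw [AddSubgroup.card_eq_card_quotient_mul_card_addSubgroup I.iota.ker]
    congr 1
    exact Nat.card_congr (QuotientAddGroup.quotientKerEquivRange I.iota).toEquiv
  rw [I.card_ker] at hn h1
  refine ⟨n, ?_, hn⟩
  rw [← I.iota_range]
  rw [hn] at h1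
  exact (Nat.eq_of_mul_eq_mul_right (by norm_num) h1).symm

/-- **(18)** -/
theorem two_three (hk : ∃ x ∈ D.NO (D.r 0), x ∉ D.U) :
    (Nat.card D.U = 2 * 4 ^ 2 ∧ Nat.card (I.op.T I.q).range = 4) ∨
    (Nat.card D.U = 2 * 4 ^ 3 ∧ Nat.card (I.op.T I.q).range = 4 ^ 2 ∧ Nat.card (D.NO (D.r 0)) = 2 ^ 6) := by
  have hF := I.B.full
  obtain ⟨m, hm⟩ := I.card_U
  obtain ⟨n, hn, hn'⟩ := I.card_range
  obtain ⟨p, hp⟩ := I.exists_q
  have hn1 : 1 ≤ n := by
    by_contra hcon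
    have h0 : n = 0 := by omega
    rw [h0, pow_zero] at hn
    obtain ⟨x, hx, hxU⟩ := hk
    apply hxU
    have h1 : I.iota (lv hx) = 0 := by
      have h2 : I.iota (lv hx) ∈ (I.op.T I.q).range := by rw [← I.iota_range]; exact ⟨_, rfl⟩
      have h3 : Subsingleton (I.op.T I.q).range := (Nat.card_eq_one_iff_unique.1 hn).1
      have h4 := congrArg Subtype.val (Subsingleton.elim (⟨_, h2⟩ : (I.op.T I.q).range) ⟨0, AddSubgroup.zero_mem _⟩)
      exact h4
    exact I.iota_eq_zero.1 h1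
  rcases I.op.ops.final hp I.op.R (fun c => I.op.mem_R) (m := m) (n := n)
    (by rw [I.op.card_R]; exact hm) hn hn1 I.iota I.iota_range g g_two (g_add hF) (g_symm hF) (g_alt hF)
    (fun x hx => g_ker hF (fun h => hx (I.iota_eq_zero.2 h)))
    (fun x hx => g_U hF (I.iota_eq_zero.1 hx)) I.iso I.tv I.q_perp with ⟨rfl, rfl⟩ | ⟨rfl, rfl⟩
  · left
    exact ⟨by rw [hm, mul_comm], by rw [hn]; norm_num⟩
  · right
    exact ⟨by rw [hm, mul_comm], hn, by rw [hn']; norm_num⟩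

include I in
/-- **the end of (18)-(20)** -/
theorem f4 (hk : ∃ x ∈ D.NO (D.r 0), x ∉ D.U) (hnab : ∃ g ∈ D.Gam, ∃ h ∈ D.Gam, g * h ≠ h * g) :
    Nat.card D.U = 2 ^ 7 ∧ Nat.card (D.NO (D.r 0)) = 2 ^ 6 ∧ O2 D.M = D.Gam ∧ Nat.card (O2 D.M) = 2 ^ 15 := by
  have hG : I.op.Γ = D.Gam := D.Gam_eq
  rcases I.two_three hk with ⟨h1, h2⟩ | ⟨h1, h2, h3⟩
  · exfalso
    obtain ⟨a, ha, b, hb, hne⟩ := hnab
    rw [← hG] at ha hb
    exact hne (I.op.dead h1 h2 a ha b hb)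
  · refine ⟨by rw [h1]; norm_num, h3, ?_, ?_⟩
    · rw [← hG]
      exact I.op.O_eq (n := 0) h1
    · have h4 := I.op.card_O (n := 0) h1
      have h5 : Nat.card (O2 D.M) = Nat.card (I.op.T I.q).range ^ 2 * Nat.card D.U := h4
      rw [h5, h1, h2]; norm_num

end Inp

end TS

end Cfsg.Agent.Omega.HOneTwo.Trans
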