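import Cfsg.Agent.Omega.HOneTwo.TransDefs

/-!
# II.0h1, `q = 2`, after the transvection statement: RESULT A of #15507

* `TS.zt_act`: elements of `Z(Q p)` act on `U` as `1` or as `t p`;
* `TS.lemmaL`; `TS.conn` (5): the graph on `Δ` is connected;
* `TS.mul_mem`, `TS.mul_z_mem`, `TS.mem_U_iff`, `TS.mem_U0_iff`, `TS.C_U`.
-/

set_option autoImplicit false
set_option linter.unusedSectionVars false

namespace Cfsg.Agent.Omega.HOneTwo.Trans

open Subgroup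

universe u

variable {G : Type u} [Group G]

namespace TS

variable (D : TS G)

/-- `φ p u` -/
noncomputable abbrev φ (p u : G) : ZMod 2 := D.Ms.φ p u

theorem φ_eq_zero_iff {p u : G} : D.φ p u = 0 ↔ u ∈ D.Q p := by
  show D.Ms.φ p u = 0 ↔ u ∈ D.Q p
  unfold Side.φ
  by_cases h : u ∈ D.Q p
  · rw [if_pos (show u ∈ D.Ms.K p from h)]; exact ⟨fun _ => h, fun _ => rfl⟩
  · rw [if_neg (show u ∉ D.Ms.K p from h)]; exact ⟨fun h' => absurd h' one_ne_zero, fun h' => absurd h' h⟩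

theorem mem_A {g : G} : g ∈ D.Ms.A ↔ g ∈ D.M := Iff.rfl

theorem r0_Δ : D.r 0 ∈ D.Δ := self_mem_Dl _ _

theorem pw_zz (x : G) (hx : x * x = 1) (c : ZMod 2) : pw x c * pw x c = 1 := by
  rw [← pw_add hx]
  have : c + c = 0 := by rcases zmod_cases c with rfl | rfl <;> decide
  rw [this, pw_zero]

/-- `Z(Q₁)` acts on `U` as `⟨t (r 0)⟩` -/
theorem zt_act0 {g : G} (hg : g ∈ zt (D.Q (D.r 0))) : (∀ u ∈ D.U, g * u * g⁻¹ = u) ∨
    ∀ u ∈ D.U, g * u * g⁻¹ = u * pw (D.r 0 * D.z) (D.φ (D.r 0) u) := by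
  have hg' := mem_zt.1 hg
  have hgA : g ∈ D.Ms.A := D.Q_M hg'.1
  have hr : D.r 0 ∈ D.Ms.Δ := D.r0_Δ
  obtain ⟨v, hv, hv1⟩ := D.Ms.exists_nbr hr
  have hvU : v ∈ D.U := D.Ms.Δ_le hv
  have hgv : g * v * g⁻¹ ∈ D.U := D.Ms.U_conj g hgA v hvU
  set a := g * v * g⁻¹ * v⁻¹ with ha
  have haU : a ∈ D.U := mul_mem hgv (inv_mem hvU)
  have act0 : ∀ u ∈ D.U, D.φ (D.r 0) u = 0 → g * u * g⁻¹ = u := by
    intro u _ h0
    exact conj_of_comm (hg'.2 u (D.φ_eq_zero_iff.1 h0))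
  have act : ∀ u ∈ D.U, g * u * g⁻¹ = u * pw a (D.φ (D.r 0) u) := by
    intro u hu
    rcases zmod_cases (D.φ (D.r 0) u) with h | h
    · rw [act0 u hu h, h, pw_zero, mul_one]
    · have hvu : v⁻¹ * u ∈ D.U := mul_mem (inv_mem hvU) hu
      have h0 : D.φ (D.r 0) (v⁻¹ * u) = 0 := by
        rw [D.Ms.U_inv hvU]
        show D.Ms.φ (D.r 0) (v * u) = 0
        rw [D.Ms.φ_mul hr hvU hu, hv1, show D.Ms.φ (D.r 0) u = 1 from h]
        decide
      rw [h, pw_one]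
      calc g * u * g⁻¹ = (g * v * g⁻¹) * (g * (v⁻¹ * u) * g⁻¹) := by group
        _ = a * v * (v⁻¹ * u) := by rw [act0 _ hvu h0, ha]; group
        _ = a * u := by group
        _ = u * a := D.U_comm haU hu
  -- the functional `φ q a`
  have e0 : ∀ q ∈ D.Δ, D.φ (D.r 0) q = 0 → D.φ q a = 0 := by
    intro q hq h0
    have hqU : q ∈ D.U := D.Ms.Δ_le hq
    have h1 := D.Ms.φ_conj hgA hq hvU
    rw [act0 q hqU h0, act v hvU, show D.φ (D.r 0) v = 1 from hv1, pw_one] at h1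
    rw [D.Ms.φ_mul hq hvU haU] at h1
    exact left_eq_add.1 h1.symm
  have e1 : ∀ q ∈ D.Δ, D.φ (D.r 0) q = 1 → D.φ q a = D.φ v a := by
    intro q hq h1
    have hqU : q ∈ D.U := D.Ms.Δ_le hq
    have hq' : g * q * g⁻¹ ∈ D.Ms.Δ := D.Ms.Δ_conj g hgA q hq
    have h2 := D.Ms.φ_conj hgA hq hvU
    rw [act q hqU, h1, pw_one] at hq'
    rw [act q hqU, h1, pw_one, act v hvU, show D.φ (D.r 0) v = 1 from hv1, pw_one,
      D.Ms.φ_mul hq' hvU haU, D.Ms.symm hq' hv, D.Ms.φ_mul hv hqU haU, D.Ms.symm hv hq] at h2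
    -- `φ (q a) a = φ q a`
    have h3 : D.Ms.φ (q * a) a = D.Ms.φ q a := by
      have h4 : D.Ms.φ (q * a) a = D.Ms.φ (q * a) q := by
        have h5 := D.Ms.φ_mul hq' hqU haU
        rw [D.Ms.φ_self hq'] at h5
        rcases zmod_cases (D.Ms.φ (q * a) a) with h6 | h6 <;> rcases zmod_cases (D.Ms.φ (q * a) q) with h7 | h7 <;>
          rw [h6, h7] at h5 ⊢ <;> revert h5 <;> decide
      rw [h4, D.Ms.symm hq' hq, D.Ms.φ_mul hq hqU haU, D.Ms.φ_self hq, zero_add]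
    rw [h3] at h2
    show D.Ms.φ q a = D.Ms.φ v a
    rcases zmod_cases (D.Ms.φ q a) with h6 | h6 <;> rcases zmod_cases (D.Ms.φ v a) with h7 | h7 <;>
      rcases zmod_cases (D.Ms.φ q v) with h8 | h8 <;> rw [h6, h7, h8] at h2 <;> rw [h6, h7] <;> revert h2 <;> decide
  rcases zmod_cases (D.φ v a) with hc | hc
  · -- `a ∈ U₀`
    have haU0 : a ∈ D.Ms.U0 := by
      refine ⟨haU, fun q hq => ?_⟩
      rcases zmod_cases (D.φ (D.r 0) q) with h | h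
      · exact e0 q hq h
      · exact (e1 q hq h).trans hc
    left
    intro u hu
    have hker : g ∈ D.Ms.Ker := by
      refine ⟨hgA, fun w hw => ?_, fun w hw => ?_⟩
      · rw [act w hw]
        have h2 : pw a (D.φ (D.r 0) w) ∈ D.Ms.U0 := by
          rcases zmod_cases (D.φ (D.r 0) w) with h | h <;> rw [h]
          · rw [pw_zero]; exact one_mem _
          · rw [pw_one]; exact haU0
        rw [D.U_comm hw h2.1, mul_inv_cancel_right]
        exact h2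
      · exact act0 w hw.1 (hw.2 _ hr)
    exact conj_of_comm (D.Ms.ker_comm D.Ms_O2 hker hu)
  · -- `r₀ a ∈ U₀`
    right
    have hra : a * D.r 0 ∈ D.Ms.U0 := by
      refine ⟨mul_mem haU (D.r_mem 0), fun q hq => ?_⟩
      rw [D.Ms.φ_mul hq haU (D.r_mem 0), D.Ms.symm hq hr]
      rcases zmod_cases (D.φ (D.r 0) q) with h | h
      · rw [show D.Ms.φ (D.r 0) q = 0 from h, show D.Ms.φ q a = 0 from e0 q hq h, add_zero]
      · rw [show D.Ms.φ (D.r 0) q = 1 from h, show D.Ms.φ q a = 1 from (e1 q hq h).trans hc]; decide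
    have hφa : D.φ (D.r 0) a = 0 := e0 _ hr (D.Ms.φ_self hr)
    have hb : D.r 0 * D.z * a ∈ D.Ms.U0 := by
      have e : D.r 0 * D.z * a = (a * D.r 0) * D.z := by
        rw [D.U_comm (mul_mem (D.r_mem 0) D.z_mem) haU]
        exact (mul_assoc _ _ _).symm
      rw [e]
      exact mul_mem hra D.Ms.z_U0
    -- `t g`
    have key : ∀ u ∈ D.U, D.Ms.t (D.r 0) * g * u * (D.Ms.t (D.r 0) * g)⁻¹ =
        u * pw (D.r 0 * D.z * a) (D.φ (D.r 0) u) := by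
      intro u hu
      have e : D.Ms.t (D.r 0) * g * u * (D.Ms.t (D.r 0) * g)⁻¹ =
          D.Ms.t (D.r 0) * (g * u * g⁻¹) * (D.Ms.t (D.r 0))⁻¹ := by group
      have hm : u * pw a (D.φ (D.r 0) u) ∈ D.Ms.U := mul_mem hu (D.Ms.pw_mem haU _)
      rw [e, act u hu, D.Ms.t_act hr hm, D.Ms.φ_mul hr hu (D.Ms.pw_mem haU _), D.Ms.φ_pw hr,
        show D.Ms.φ (D.r 0) a = 0 from hφa, mul_zero, add_zero, mul_assoc]
      congr 1
      rcases zmod_cases (D.φ (D.r 0) u) with h | h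
      · rw [h, show D.Ms.φ (D.r 0) u = 0 from h]; simp
      · rw [h, show D.Ms.φ (D.r 0) u = 1 from h, pw_one, pw_one, pw_one]
        exact D.U_comm haU (D.Ms.pz_mem hr)
    have hker : D.Ms.t (D.r 0) * g ∈ D.Ms.Ker := by
      refine ⟨mul_mem (D.Ms.t_A hr) hgA, fun w hw => ?_, fun w hw => ?_⟩
      · rw [key w hw]
        have h2 : pw (D.r 0 * D.z * a) (D.φ (D.r 0) w) ∈ D.Ms.U0 := by
          rcases zmod_cases (D.φ (D.r 0) w) with h | h <;> rw [h]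
          · rw [pw_zero]; exact one_mem _
          · rw [pw_one]; exact hb
        rw [D.U_comm hw h2.1, mul_inv_cancel_right]
        exact h2
      · rw [key w hw.1, show D.φ (D.r 0) w = 0 from hw.2 _ hr, pw_zero, mul_one]
    have h3 := D.Ms.ker_comm D.Ms_O2 hker hvU
    have h4 := key v hvU
    rw [h3, mul_inv_cancel_right, show D.φ (D.r 0) v = 1 from hv1, pw_one] at h4
    have h5 : D.r 0 * D.z * a = 1 := mul_eq_left.mp h4.symm
    have h6 : a = D.r 0 * D.z := by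
      have h7 := D.Ms.pz_sq hr
      calc a = (D.r 0 * D.z * (D.r 0 * D.z)) * a := by
            rw [show D.r 0 * D.z * (D.r 0 * D.z) = 1 from h7, one_mul]
        _ = D.r 0 * D.z * (D.r 0 * D.z * a) := by group
        _ = D.r 0 * D.z := by rw [h5, mul_one]
    intro u hu
    rw [act u hu, h6]

/-- elements of `Z(Q p)`, `p ∈ Δ`, act on `U` as `1` or as `t p` -/
theorem zt_act {p g : G} (hp : p ∈ D.Δ) (hg : g ∈ zt (D.Q p)) : (∀ u ∈ D.U, g * u * g⁻¹ = u) ∨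
    ∀ u ∈ D.U, g * u * g⁻¹ = u * pw (p * D.z) (D.φ p u) := by
  obtain ⟨m, hm, rfl⟩ := hp
  have hmA : m ∈ D.Ms.A := hm
  have hg1 := D.zt_conj (g := m⁻¹) hg
  have e : m⁻¹ * (m * D.r 0 * m⁻¹) * m⁻¹⁻¹ = D.r 0 := by group
  rw [e, inv_inv] at hg1
  rcases D.zt_act0 hg1 with h | h
  · left
    intro u hu
    have h1 := h _ (gn_inv' hm hu)
    calc g * u * g⁻¹ = m * ((m⁻¹ * g * m) * (m⁻¹ * u * m) * (m⁻¹ * g * m)⁻¹) * m⁻¹ := by group
      _ = u := by rw [h1]; group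
  · right
    intro u hu
    have hu' := gn_inv' hm hu
    have h1 := h _ hu'
    have h2 := D.Ms.φ_conj hmA D.r0_Δ hu'
    have e2 : m * (m⁻¹ * u * m) * m⁻¹ = u := by group
    rw [e2] at h2
    have e3 : m * (D.r 0 * D.z) * m⁻¹ = m * D.r 0 * m⁻¹ * D.z := by
      calc m * (D.r 0 * D.z) * m⁻¹ = m * D.r 0 * m⁻¹ * (m * D.z * m⁻¹) := by group
        _ = _ := by rw [D.m_z hm]
    calc g * u * g⁻¹ = m * ((m⁻¹ * g * m) * (m⁻¹ * u * m) * (m⁻¹ * g * m)⁻¹) * m⁻¹ := by group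
      _ = u * (m * pw (D.r 0 * D.z) (D.φ (D.r 0) (m⁻¹ * u * m)) * m⁻¹) := by rw [h1]; group
      _ = _ := by
        rw [pw_conj, e3]
        show _ = u * pw (m * D.r 0 * m⁻¹ * D.z) (D.Ms.φ (m * D.r 0 * m⁻¹) u)
        rw [h2]

/-! ### (2) -/

theorem mul_C {x y : G} (hx : x ∈ D.C) (hxy : y * x ∈ D.C) : y ∈ D.C := by
  have := mul_mem hxy (inv_mem hx)
  rwa [mul_inv_cancel_right] at this

theorem exists_ne (i : Fin 3) : ∃ j : Fin 3, i ≠ j := by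
  revert i; decide

/-- `U ∩ Z(Q_i) ≤ ⟨r_i⟩ × C` -/
theorem two {i : Fin 3} {c : G} (hc : c ∈ D.U) (hcz : c ∈ zt (D.Q (D.r i))) : c ∈ D.C ∨ D.r i * c ∈ D.C := by
  obtain ⟨j, hij⟩ := exists_ne i
  have hj : D.r j ∈ D.Ms.Δ := D.r_Δ j
  rcases zmod_cases (D.φ (D.r j) c) with h | h
  · exact D.a i j hij c hcz (D.φ_eq_zero_iff.1 h)
  · exfalso
    have ht := D.Ms.t_mem hj
    have ht' : D.Ms.t (D.r j) ∈ zt (D.Q (D.r j)) := D.N_le_zt j ht
    have h1 := D.b i j hij c hcz _ ht'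
    have h2 := D.Ms.t_act hj hc
    rw [show D.Ms.φ (D.r j) c = 1 from h, pw_one] at h2
    have hp : D.r j * D.z ∈ D.U := D.Ms.pz_mem hj
    have h3 : c * D.Ms.t (D.r j) * c⁻¹ * (D.Ms.t (D.r j))⁻¹ = D.r j * D.z := by
      calc c * D.Ms.t (D.r j) * c⁻¹ * (D.Ms.t (D.r j))⁻¹
          = c * (D.Ms.t (D.r j) * c * (D.Ms.t (D.r j))⁻¹)⁻¹ := by group
        _ = c * (c * (D.r j * D.z))⁻¹ := by rw [h2]; rfl
        _ = (c * (D.r j * D.z) * c⁻¹)⁻¹ := by group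
        _ = (D.r j * D.z)⁻¹ := by rw [D.U_comm hc hp, mul_inv_cancel_right]
        _ = D.r j * D.z := D.Ms.U_inv hp
    rw [h3] at h1
    exact D.r_C j (D.mul_C D.z_C h1)

/-- **LEMMA L** -/
theorem lemmaL {c p : G} (hc : c ∈ D.U) (hcC : c ∈ D.C) (hp : p ∈ D.Δ) (h1 : D.φ p c = 1) : p ∈ D.C := by
  have hpU : p ∈ D.U := D.Ms.Δ_le hp
  have key : ∀ i, D.φ p (D.r i) = 0 → p ∈ zt (D.Q (D.r i)) := by
    intro i h0
    have h2 := D.Ms.t_act hp (D.r_mem i)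
    rw [show D.Ms.φ p (D.r i) = 0 from h0, pw_zero, mul_one] at h2
    have h3 := D.zt_conj' (comm_of_conj h2) (D.C_le i hcC)
    have h4 := D.Ms.t_act hp hc
    rw [show D.Ms.φ p c = 1 from h1, pw_one] at h4
    rw [h4] at h3
    have h5 := mul_mem (inv_mem (D.C_le i hcC)) h3
    rw [inv_mul_cancel_left] at h5
    have h6 := mul_mem h5 (inv_mem (D.z_zt i))
    have e : p * D.Ms.z * D.z⁻¹ = p := mul_inv_cancel_right _ _
    rwa [e] at h6
  have hsum : D.φ p (D.r 0) + D.φ p (D.r 1) + D.φ p (D.r 2) = 0 := by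
    have h2 : D.Ms.φ p (D.r 0 * D.r 1 * D.r 2) = 0 := by rw [D.r_prod]; exact D.Ms.φ_one hp
    rw [D.Ms.φ_mul hp (mul_mem (D.r_mem 0) (D.r_mem 1)) (D.r_mem 2), D.Ms.φ_mul hp (D.r_mem 0) (D.r_mem 1)] at h2
    exact h2
  obtain ⟨i, hi⟩ : ∃ i, D.φ p (D.r i) = 0 := by
    rcases zmod_cases (D.φ p (D.r 0)) with h | h
    · exact ⟨0, h⟩
    rcases zmod_cases (D.φ p (D.r 1)) with h' | h'
    · exact ⟨1, h'⟩
    rw [h, h'] at hsum
    refine ⟨2, ?_⟩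
    rcases zmod_cases (D.φ p (D.r 2)) with h'' | h''
    · exact h''
    · rw [h''] at hsum; exact absurd hsum (by decide)
  rcases D.two hpU (key i hi) with h | h
  · exact h
  · -- `p ∈ Q_j` for all `j`
    have hQ : ∀ j, p ∈ D.Q (D.r j) := by
      intro j
      have h2 := mul_mem (inv_mem (D.r_Q i j)) (mem_zt.1 (D.C_le j h)).1
      rwa [inv_mul_cancel_left] at h2
    have hz : ∀ j, p ∈ zt (D.Q (D.r j)) := by
      intro j
      apply key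
      exact (D.Ms.symm hp (D.r_Δ j)).trans (D.φ_eq_zero_iff.2 (hQ j))
    exact D.le_C 0 1 (by decide) ⟨hz 0, hz 1⟩

/-! ### The graph -/

/-- adjacency on `Δ` -/
def Adj (p q : G) : Prop := p ∈ D.Δ ∧ q ∈ D.Δ ∧ D.φ p q = 1

/-- connectedness -/
def Conn : G → G → Prop := Relation.ReflTransGen D.Adj

theorem Adj.symm {D : TS G} {p q : G} (h : D.Adj p q) : D.Adj q p :=
  ⟨h.2.1, h.1, (D.Ms.symm h.2.1 h.1).trans h.2.2⟩

theorem Conn.symm {D : TS G} {p q : G} (h : D.Conn p q) : D.Conn q p := by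
  induction h with
  | refl => exact Relation.ReflTransGen.refl
  | tail _ h ih => exact Relation.ReflTransGen.head h.symm ih

theorem Conn.trans' {D : TS G} {p q s : G} (h : D.Conn p q) (h' : D.Conn q s) : D.Conn p s :=
  Relation.ReflTransGen.trans h h'

theorem Adj.conn {D : TS G} {p q : G} (h : D.Adj p q) : D.Conn p q := Relation.ReflTransGen.single h

theorem Adj.conj {D : TS G} {p q g : G} (hg : g ∈ D.M) (h : D.Adj p q) :
    D.Adj (g * p * g⁻¹) (g * q * g⁻¹) :=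
  ⟨Dl_inv hg h.1, Dl_inv hg h.2.1, (D.Ms.φ_conj hg h.1 (D.Ms.Δ_le h.2.1)).trans h.2.2⟩

theorem Conn.conj {D : TS G} {p q g : G} (hg : g ∈ D.M) (h : D.Conn p q) :
    D.Conn (g * p * g⁻¹) (g * q * g⁻¹) := by
  induction h with
  | refl => exact Relation.ReflTransGen.refl
  | tail _ h ih => exact ih.tail (h.conj hg)

theorem Conn.mem_C {D : TS G} {p q : G} (h : D.Conn p q) (hp : p ∈ D.C) : q ∈ D.C := by
  induction h with
  | refl => exact hp
  | tail _ h ih => exact D.lemmaL (D.Ms.Δ_le h.1) ih h.2.1 h.symm.2.2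

/-- (2), second part -/
theorem mem_C_of_zt {q : G} (hq : q ∈ D.Δ) (hz : q ∈ zt (D.Q (D.r 0))) (hne : q ≠ D.r 0) : q ∈ D.C := by
  have hqU : q ∈ D.U := D.Ms.Δ_le hq
  rcases D.two hqU hz with h | h
  · exact h
  · exfalso
    have hr : D.r 0 ∈ D.Ms.Δ := D.r0_Δ
    set c := D.r 0 * q with hc
    have hcU : c ∈ D.U := mul_mem (D.r_mem 0) hqU
    have hqc : D.r 0 * c = q := by rw [hc, ← mul_assoc, D.r_sq, one_mul]
    have hc0 : c ∉ D.Ms.U0 := by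
      intro h0
      have h1 := D.Ms.inj D.Ms_O2 hr (by rw [hqc]; exact hq) h0
      apply hne
      rw [← hqc, h1, mul_one]
    obtain ⟨p, hp, hpc⟩ : ∃ p ∈ D.Ms.Δ, D.Ms.φ p c = 1 := by
      by_contra hcon
      push Not at hcon
      exact hc0 ⟨hcU, fun p hp => (zmod_cases _).resolve_right (hcon p hp)⟩
    have hpC := D.lemmaL hcU h hp hpc
    have h2 : D.φ (D.r 0) p = 0 := D.φ_eq_zero_iff.2 (mem_zt.1 (D.C_le 0 hpC)).1
    have h3 : D.Ms.φ p q = 1 := by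
      rw [← hqc, D.Ms.φ_mul hp (D.r_mem 0) hcU, D.Ms.symm hp hr, show D.Ms.φ (D.r 0) p = 0 from h2, zero_add, hpc]
    have h4 := D.lemmaL (D.Ms.Δ_le hp) hpC hq ((D.Ms.symm hq hp).trans h3)
    exact D.r_C 0 (D.mul_C h4 h)

theorem not_conn_C {q : G} (h : D.Conn (D.r 0) q) : q ∉ D.C := fun hq => D.r_C 0 (h.symm.mem_C hq)

/-- noncentral elements of `Δ` in `Q₁` are conjugate to `r₀ q` -/
theorem exists_conj {q : G} (hq : q ∈ D.Q (D.r 0)) (hz : q ∉ zt (D.Q (D.r 0))) :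
    ∃ g ∈ D.Q (D.r 0), g * q * g⁻¹ = D.r 0 * q := by
  rw [mem_zt] at hz
  push Not at hz
  obtain ⟨g, hg, h⟩ := hz hq
  refine ⟨g, hg, ?_⟩
  rcases D.Q_der g hg q hq with h1 | h1
  · exact absurd h1.symm h
  · rw [h1]; group

/-- (3) for `p = r 0` -/
theorem mul_mem0 {q : G} (hq : q ∈ D.Δ) (hne : q ≠ D.r 0) (hc : D.Conn (D.r 0) q) (h0 : D.φ (D.r 0) q = 0) :
    D.r 0 * q ∈ D.Δ ∧ D.Conn (D.r 0) (D.r 0 * q) := by
  have hz : q ∉ zt (D.Q (D.r 0)) := fun h => D.not_conn_C hc (D.mem_C_of_zt hq h hne)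
  obtain ⟨g, hg, h1⟩ := D.exists_conj (D.φ_eq_zero_iff.1 h0) hz
  have hgz := D.Q_M hg
  have h2 := hc.conj hgz
  rw [h1, conj_of_comm (D.Q_cent g hg)] at h2
  refine ⟨?_, h2⟩
  rw [← h1]
  exact Dl_inv hgz hq

/-- **(3)** -/
theorem mul_mem' {p q : G} (hp : p ∈ D.Δ) (hq : q ∈ D.Δ) (hne : p ≠ q) (hc : D.Conn p q) (h0 : D.φ p q = 0) :
    p * q ∈ D.Δ ∧ D.Conn p (p * q) := by
  obtain ⟨m, hm, rfl⟩ := hp
  have hm' := inv_mem hm
  have e : m⁻¹ * (m * D.r 0 * m⁻¹) * m⁻¹⁻¹ = D.r 0 := by group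
  have h1 := hc.conj hm'
  rw [e] at h1
  have h2 := D.Ms.φ_conj (show m⁻¹ ∈ D.Ms.A from hm') ⟨m, hm, rfl⟩ (D.Ms.Δ_le hq)
  rw [e] at h2
  obtain ⟨h3, h4⟩ := D.mul_mem0 (Dl_inv hm' hq) (by
    intro h
    apply hne
    rw [← h]; group) h1 (h2.trans h0)
  have e2 : m * (D.r 0 * (m⁻¹ * q * m⁻¹⁻¹)) * m⁻¹ = m * D.r 0 * m⁻¹ * q := by group
  have h5 := Dl_inv hm h3
  have h6 := h4.conj hm
  rw [e2] at h5 h6
  exact ⟨h5, h6⟩

theorem mul_z_mem' {p q : G} (hp : p ∈ D.Δ) (hq : q ∈ D.Δ) (h1 : D.φ p q = 1) : p * q * D.z ∈ D.Δ := by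
  have h2 := D.Ms.t_act hp (D.Ms.Δ_le hq)
  rw [show D.Ms.φ p q = 1 from h1, pw_one] at h2
  have h3 := D.Ms.Δ_conj _ (D.Ms.t_A hp) q hq
  rw [h2] at h3
  have e : q * (p * D.Ms.z) = p * q * D.z := by
    rw [← mul_assoc, D.U_comm (D.Ms.Δ_le hq) (D.Ms.Δ_le hp)]; rfl
  rw [e] at h3
  exact h3

/-- `p, p', p p' ∈ Δ` are in one component -/
theorem conn_of_mul {p p' : G} (hp : p ∈ D.Δ) (hp' : p' ∈ D.Δ) (hpp : p * p' ∈ D.Δ) : D.Conn p p' := by
  have key : ∀ p ∈ D.Δ, ∀ p' ∈ D.Δ, p * p' ∈ D.Δ → ¬ D.Conn p p' → D.Conn p (p * p') := by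
    intro p hp p' hp' hpp hn
    obtain ⟨q, hq, h1⟩ := D.Ms.exists_nbr (p := p) hp
    have h2 : D.φ p' q = 0 := by
      rcases zmod_cases (D.φ p' q) with h | h
      · exact h
      · exact absurd ((Adj.conn ⟨hp, hq, h1⟩).trans' (Adj.conn ⟨hp', hq, h⟩).symm) hn
    have h3 : D.Ms.φ q (p * p') = 1 := by
      rw [D.Ms.φ_mul hq (D.Ms.Δ_le hp) (D.Ms.Δ_le hp'), D.Ms.symm hq hp, D.Ms.symm hq hp', h1,
        show D.Ms.φ p' q = 0 from h2, add_zero]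
    exact (Adj.conn ⟨hp, hq, h1⟩).trans' (Adj.conn ⟨hq, hpp, h3⟩)
  by_contra hn
  have h1 := key p hp p' hp' hpp hn
  have hpp' : p' * p ∈ D.Δ := by rw [D.U_comm (D.Ms.Δ_le hp') (D.Ms.Δ_le hp)]; exact hpp
  have h2 := key p' hp' p hp hpp' fun h => hn h.symm
  rw [D.U_comm (D.Ms.Δ_le hp') (D.Ms.Δ_le hp)] at h2
  exact hn (h1.trans' h2.symm)

theorem r_conn (i : Fin 3) : D.Conn (D.r 0) (D.r i) := by
  have h01 : D.r 0 * D.r 1 = D.r 2 := by
    have h1 := D.r_prod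
    rw [mul_eq_one_iff_eq_inv, D.Ms.U_inv (D.r_mem 2)] at h1
    exact h1
  have h02 : D.r 0 * D.r 2 = D.r 1 := by
    rw [← h01, ← mul_assoc, D.r_sq, one_mul]
  have hi : i = 0 ∨ i = 1 ∨ i = 2 := by revert i; decide
  rcases hi with rfl | rfl | rfl
  · exact Relation.ReflTransGen.refl
  · exact D.conn_of_mul D.r0_Δ (D.r_Δ 1) (by rw [h01]; exact D.r_Δ 2)
  · exact D.conn_of_mul D.r0_Δ (D.r_Δ 2) (by rw [h02]; exact D.r_Δ 1)

/-- elements of other components are in `C` -/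
theorem mem_C_of_not_conn {q : G} (hq : q ∈ D.Δ) (hn : ¬ D.Conn (D.r 0) q) : q ∈ D.C := by
  have h0 : D.φ (D.r 0) q = 0 := by
    rcases zmod_cases (D.φ (D.r 0) q) with h | h
    · exact h
    · exact absurd (Adj.conn ⟨D.r0_Δ, hq, h⟩) hn
  by_cases hz : q ∈ zt (D.Q (D.r 0))
  · exact D.mem_C_of_zt hq hz fun h => hn (h ▸ Relation.ReflTransGen.refl)
  · exfalso
    obtain ⟨g, hg, h1⟩ := D.exists_conj (D.φ_eq_zero_iff.1 h0) hz
    apply hn
    apply D.conn_of_mul D.r0_Δ hq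
    rw [← h1]
    exact Dl_inv (D.Q_M hg) hq

/-! ### (5) -/

theorem N_le_zt' {p : G} (hp : p ∈ D.Δ) : gen p D.z ≤ zt (D.Q p) := by
  obtain ⟨m, hm, rfl⟩ := hp
  have hz : D.z ∈ zt (D.Q (m * D.r 0 * m⁻¹)) := by
    have := D.zt_conj (g := m) (D.z_zt 0)
    rwa [D.m_z hm] at this
  unfold gen
  rw [closure_le]
  rintro x ⟨k, hk, rfl⟩
  exact D.zt_conj' hk hz

/-- `U_y` on `Z(Q₁)` -/
theorem Uy_act {h : G} (hh : h * D.r 0 = D.r 0 * h) {g : G} (hg : g ∈ zt (D.Q (D.r 0))) {u : G}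
    (hu : u ∈ D.Uy (h * D.z * h⁻¹)) :
    u * g * u⁻¹ = g ∨ u * g * u⁻¹ = g * (h * D.z * h⁻¹ * D.r 0) := by
  have hu' := D.Uy_le hh hu
  have hg' : h⁻¹ * g * h ∈ zt (D.Q (D.r 0)) := by
    have := D.zt_conj' (inv_comm hh) hg
    rwa [inv_inv] at this
  have hcomm : (h⁻¹ * g * h) * (h⁻¹ * u * h) = (h⁻¹ * u * h) * (h⁻¹ * g * h) → u * g * u⁻¹ = g := by
    intro h1
    apply conj_of_comm
    calc u * g = h * ((h⁻¹ * u * h) * (h⁻¹ * g * h)) * h⁻¹ := by group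
      _ = g * u := by rw [← h1]; group
  rcases D.zt_act0 hg' with h1 | h1
  · exact Or.inl (hcomm (comm_of_conj (h1 _ hu')))
  · have h2 := h1 _ hu'
    rcases zmod_cases (D.φ (D.r 0) (h⁻¹ * u * h)) with h3 | h3
    · rw [h3, pw_zero, mul_one] at h2
      exact Or.inl (hcomm (comm_of_conj h2))
    · right
      rw [h3, pw_one] at h2
      -- `g' u' = u' (r₀ z) g'`
      have hrz : D.r 0 * D.z ∈ D.U := mul_mem (D.r_mem 0) D.z_mem
      have hrzQ : D.r 0 * D.z ∈ D.Q (D.r 0) := mul_mem (D.r_Q 0 0) (mem_zt.1 (D.z_zt 0)).1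
      have h4 : (h⁻¹ * g * h) * (h⁻¹ * u * h) = (h⁻¹ * u * h) * (D.r 0 * D.z) * (h⁻¹ * g * h) := by
        rw [← h2]; group
      have hsq : D.r 0 * D.z * (D.r 0 * D.z) = 1 := D.U_sq _ hrz
      have h5 : (h⁻¹ * u * h) * (h⁻¹ * g * h) = (h⁻¹ * g * h) * (D.r 0 * D.z) * (h⁻¹ * u * h) := by
        calc (h⁻¹ * u * h) * (h⁻¹ * g * h)
            = (h⁻¹ * u * h) * (D.r 0 * D.z * (D.r 0 * D.z)) * (h⁻¹ * g * h) := by rw [hsq, mul_one]
          _ = ((h⁻¹ * u * h) * (D.r 0 * D.z)) * (D.r 0 * D.z) * (h⁻¹ * g * h) := by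
              simp only [mul_assoc]
          _ = ((D.r 0 * D.z) * (h⁻¹ * u * h)) * (D.r 0 * D.z) * (h⁻¹ * g * h) := by
              rw [D.U_comm hu' hrz]
          _ = (D.r 0 * D.z) * ((h⁻¹ * u * h) * (D.r 0 * D.z) * (h⁻¹ * g * h)) := by
              simp only [mul_assoc]
          _ = (D.r 0 * D.z) * ((h⁻¹ * g * h) * (h⁻¹ * u * h)) := by rw [h4]
          _ = _ := by rw [← mul_assoc, (mem_zt.1 hg').2 _ hrzQ]
      calc u * g * u⁻¹ = h * ((h⁻¹ * u * h) * (h⁻¹ * g * h)) * h⁻¹ * u⁻¹ := by group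
        _ = g * (h * D.r 0 * h⁻¹) * (h * D.z * h⁻¹) := by rw [h5]; group
        _ = g * (h * D.z * h⁻¹ * D.r 0) := by
            rw [conj_of_comm hh, mul_assoc, D.y_r hh]

theorem Uy_comm {h : G} (hh : h * D.r 0 = D.r 0 * h) {g : G} (hg : g ∈ zt (D.Q (D.r 0))) {u : G}
    (hu : u ∈ D.Uy (h * D.z * h⁻¹)) {c : G} (hc : c ∈ zt (D.Q (D.r 0))) (hne : u * c ≠ c * u)
    (hug : u * g = g * u) {x : G} (hx : x ∈ D.Uy (h * D.z * h⁻¹)) : x * g = g * x := by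
  have hu' := D.Uy_le hh hu
  have hx' := D.Uy_le hh hx
  have hg' : h⁻¹ * g * h ∈ zt (D.Q (D.r 0)) := by
    have := D.zt_conj' (inv_comm hh) hg
    rwa [inv_inv] at this
  have hc' : h⁻¹ * c * h ∈ zt (D.Q (D.r 0)) := by
    have := D.zt_conj' (inv_comm hh) hc
    rwa [inv_inv] at this
  have hcomm : (h⁻¹ * g * h) * (h⁻¹ * x * h) = (h⁻¹ * x * h) * (h⁻¹ * g * h) → x * g = g * x := by
    intro h1
    calc x * g = h * ((h⁻¹ * x * h) * (h⁻¹ * g * h)) * h⁻¹ := by group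
      _ = g * x := by rw [← h1]; group
  rcases D.zt_act0 hg' with h1 | h1
  · exact hcomm (comm_of_conj (h1 _ hx'))
  · exfalso
    have h2 := h1 _ hu'
    have h3 : (h⁻¹ * g * h) * (h⁻¹ * u * h) * (h⁻¹ * g * h)⁻¹ = h⁻¹ * u * h := by
      apply conj_of_comm
      calc (h⁻¹ * g * h) * (h⁻¹ * u * h) = h⁻¹ * (g * u) * h := by group
        _ = (h⁻¹ * u * h) * (h⁻¹ * g * h) := by rw [← hug]; group
    rw [h3] at h2
    have h4 : D.φ (D.r 0) (h⁻¹ * u * h) = 0 := by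
      apply pw_inj (D.Ms.pz_ne D.r0_Δ)
      rw [pw_zero]
      exact (mul_eq_left.mp h2.symm)
    have h5 := (mem_zt.1 hc').2 _ (D.φ_eq_zero_iff.1 h4)
    apply hne
    calc u * c = h * ((h⁻¹ * u * h) * (h⁻¹ * c * h)) * h⁻¹ := by group
      _ = c * u := by rw [← h5]; group

/-- **(5)**: the graph is connected -/
theorem conn0 {q0 : G} (hq0 : q0 ∈ D.Δ) : D.Conn (D.r 0) q0 := by
  by_contra hn
  -- `y`, `u`
  have hzΔ : D.z ∈ D.Hs.Δ := self_mem_Delta (D.r 0) D.z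
  obtain ⟨y, hy, h1⟩ := D.Hs.exists_nbr hzΔ
  have h1' : D.Hs.φ y D.z = 1 := (D.Hs.symm hy hzΔ).trans h1
  have hyU := D.Hs.Δ_le hy
  obtain ⟨h, hh, rfl⟩ := hy
  set y := h * D.z * h⁻¹ with hydef
  have hy : y ∈ D.Hs.Δ := ⟨h, hh, rfl⟩
  set u := D.Hs.t y with hu
  have huy : u ∈ D.Uy y := D.Hs.t_mem hy
  have hzN : D.z ∈ D.Hs.U := self_mem_gen (D.r 0) D.z
  have huz : u * D.z * u⁻¹ = D.z * (y * D.r 0) := by
    have := D.Hs.t_act hy hzN
    rw [h1', pw_one] at this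
    exact this
  have he : y * D.r 0 ≠ 1 := D.Hs.pz_ne hy
  have heN : y * D.r 0 ∈ D.Hs.U := D.Hs.pz_mem hy
  have hesq : y * D.r 0 * (y * D.r 0) = 1 := D.N_sq heN
  have hezt : y * D.r 0 ∈ zt (D.Q (D.r 0)) := D.N_le_zt 0 heN
  have huzne : u * D.z ≠ D.z * u := by
    intro h2
    rw [conj_of_comm h2] at huz
    exact he (mul_eq_left.mp huz.symm)
  -- the line in the other component
  obtain ⟨m, hm, rfl⟩ := hq0
  have hqΔ : ∀ i, m * D.r i * m⁻¹ ∈ D.Δ := fun i => Dl_inv hm (D.r_Δ i)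
  have hqn : ∀ i, ¬ D.Conn (D.r 0) (m * D.r i * m⁻¹) :=
    fun i hc => hn (hc.trans' ((D.r_conn i).conj hm).symm)
  have hqC : ∀ i, m * D.r i * m⁻¹ ∈ D.C := fun i => D.mem_C_of_not_conn (hqΔ i) (hqn i)
  obtain ⟨i, hi⟩ : ∃ i, u * (m * D.r i * m⁻¹) * u⁻¹ = m * D.r i * m⁻¹ := by
    by_contra hcon
    push Not at hcon
    have h2 : ∀ i, u * (m * D.r i * m⁻¹) * u⁻¹ = m * D.r i * m⁻¹ * (y * D.r 0) :=
      fun i => (D.Uy_act hh (D.C_le 0 (hqC i)) huy).resolve_left (hcon i)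
    have hce : ∀ i, m * D.r i * m⁻¹ * (y * D.r 0) = y * D.r 0 * (m * D.r i * m⁻¹) :=
      fun i => ((mem_zt.1 hezt).2 _ (mem_zt.1 (D.C_le 0 (hqC i))).1).symm
    have hprod : (m * D.r 0 * m⁻¹) * (m * D.r 1 * m⁻¹) * (m * D.r 2 * m⁻¹) = 1 := by
      calc (m * D.r 0 * m⁻¹) * (m * D.r 1 * m⁻¹) * (m * D.r 2 * m⁻¹) = m * (D.r 0 * D.r 1 * D.r 2) * m⁻¹ := by group
        _ = 1 := by rw [D.r_prod]; group
    apply he
    have tri : ∀ e x0 x1 x2 : G, e * e = 1 → x1 * e = e * x1 →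
        (x0 * e) * (x1 * e) * (x2 * e) = x0 * x1 * x2 * e := by
      intro e x0 x1 x2 h0 h1
      calc (x0 * e) * (x1 * e) * (x2 * e) = x0 * (e * (x1 * e)) * (x2 * e) := by group
        _ = x0 * (e * e) * x1 * (x2 * e) := by rw [h1]; group
        _ = x0 * x1 * x2 * e := by rw [h0]; group
    have h3 := tri (y * D.r 0) (m * D.r 0 * m⁻¹) (m * D.r 1 * m⁻¹) (m * D.r 2 * m⁻¹) hesq (hce 1)
    rw [← h2, ← h2, ← h2, hprod, one_mul] at h3
    rw [← h3]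
    calc u * (m * D.r 0 * m⁻¹) * u⁻¹ * (u * (m * D.r 1 * m⁻¹) * u⁻¹) * (u * (m * D.r 2 * m⁻¹) * u⁻¹)
        = u * ((m * D.r 0 * m⁻¹) * (m * D.r 1 * m⁻¹) * (m * D.r 2 * m⁻¹)) * u⁻¹ := by group
      _ = 1 := by rw [hprod]; group
  -- `q`
  set q := m * D.r i * m⁻¹ with hq
  have hqU : q ∈ D.U := D.Ms.Δ_le (hqΔ i)
  have huq : u * q = q * u := comm_of_conj hi
  have hqy : ∀ x ∈ D.Uy y, x * q = q * x := fun x hx =>
    D.Uy_comm hh (D.C_le 0 (hqC i)) huy (D.z_zt 0) huzne huq hx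
  -- `a`
  obtain ⟨a, haU, haC, hqa, hua⟩ : ∃ a ∈ D.U, a ∈ D.C ∧ D.φ q a = 1 ∧ u * a = a * u := by
    obtain ⟨b, hb, hqb⟩ := D.Ms.exists_nbr (p := q) (hqΔ i)
    have hbn : ¬ D.Conn (D.r 0) b := fun hc => hqn i (hc.trans' (Adj.conn ⟨hqΔ i, hb, hqb⟩).symm)
    have hbC := D.mem_C_of_not_conn hb hbn
    have hbU := D.Ms.Δ_le hb
    rcases D.Uy_act hh (D.C_le 0 hbC) huy with h2 | h2
    · exact ⟨b, hbU, hbC, hqb, comm_of_conj h2⟩
    · refine ⟨b * D.z, mul_mem hbU D.z_mem, mul_mem hbC D.z_C, ?_, ?_⟩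
      · show D.Ms.φ q (b * D.z) = 1
        rw [D.Ms.φ_mul (hqΔ i) hbU D.z_mem, show D.Ms.φ q D.z = 0 from D.Ms.φ_z (hqΔ i), add_zero, hqb]
      · apply comm_of_conj
        calc u * (b * D.z) * u⁻¹ = (u * b * u⁻¹) * (u * D.z * u⁻¹) := by group
          _ = b * (y * D.r 0) * (D.z * (y * D.r 0)) := by rw [h2, huz]
          _ = b * ((y * D.r 0) * D.z) * (y * D.r 0) := by group
          _ = b * (D.z * (y * D.r 0)) * (y * D.r 0) := by rw [(mem_zt.1 hezt).2 _ (mem_zt.1 (D.z_zt 0)).1]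
          _ = b * D.z * (y * D.r 0 * (y * D.r 0)) := by group
          _ = b * D.z := by rw [hesq, mul_one]
  have hay : ∀ x ∈ D.Uy y, x * a = a * x := fun x hx =>
    D.Uy_comm hh (D.C_le 0 haC) huy (D.z_zt 0) huzne hua hx
  -- `y ∈ N_q`
  set v := D.Hs.t D.z with hv
  have hvU : v ∈ D.U := by
    rw [← D.Uy_z]; exact D.Hs.t_mem hzΔ
  have hvy : v * y * v⁻¹ = y * (D.z * D.r 0) := by
    have := D.Hs.t_act hzΔ hyU
    rw [h1, pw_one] at this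
    exact this
  have hyz : y * D.z = D.z * y := D.Hs.U_comm hyU hzN
  have hyN : y ∈ gen q D.z := by
    have hvq : v * q = q * v := D.U_comm hvU hqU
    have hvz : v * D.z * v⁻¹ = D.z := conj_of_comm (D.U_z hvU)
    have hvr : v * D.r 0 * v⁻¹ = D.r 0 := conj_of_comm (D.U_r hvU)
    have hvz' : v⁻¹ * D.z * v = D.z := by
      have := conj_of_comm (inv_comm (D.U_z hvU))
      rwa [inv_inv] at this
    have h2 : (v * u * v⁻¹) * D.z * (v * u * v⁻¹)⁻¹ = y := by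
      calc (v * u * v⁻¹) * D.z * (v * u * v⁻¹)⁻¹ = v * (u * (v⁻¹ * D.z * v) * u⁻¹) * v⁻¹ := by group
        _ = (v * D.z * v⁻¹) * (v * y * v⁻¹) * (v * D.r 0 * v⁻¹) := by rw [hvz', huz]; group
        _ = D.z * (y * (D.z * D.r 0)) * D.r 0 := by rw [hvz, hvy, hvr]
        _ = D.z * (y * D.z) * (D.r 0 * D.r 0) := by group
        _ = (D.z * D.z) * y := by rw [D.r_sq, mul_one, hyz, mul_assoc]
        _ = y := by rw [D.z_sq, one_mul]
    apply Subgroup.subset_closure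
    refine ⟨v * u * v⁻¹, ?_, h2.symm⟩
    calc v * u * v⁻¹ * q = v * u * (v⁻¹ * q) := by group
      _ = v * (u * q) * v⁻¹ := by rw [inv_comm hvq]; group
      _ = (v * q) * u * v⁻¹ := by rw [huq]; group
      _ = q * (v * u * v⁻¹) := by rw [hvq]; group
  -- the contradiction
  set t := D.Ms.t q with ht
  have htN : t ∈ gen q D.z := D.Ms.t_mem (hqΔ i)
  have hty : t * y = y * t :=
    (mem_zt.1 (D.N_le_zt' (hqΔ i) htN)).2 _ (mem_zt.1 (D.N_le_zt' (hqΔ i) hyN)).1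
  have hta : t * a * t⁻¹ = a * (q * D.z) := by
    have := D.Ms.t_act (hqΔ i) haU
    rw [show D.Ms.φ q a = 1 from hqa, pw_one] at this
    exact this
  have htr : t * D.r 0 = D.r 0 * t := by
    have h2 := D.Ms.t_act (hqΔ i) (D.r_mem 0)
    have h3 : D.Ms.φ q (D.r 0) = 0 := by
      rcases zmod_cases (D.φ (D.r 0) q) with h | h
      · exact (D.Ms.symm (hqΔ i) D.r0_Δ).trans h
      · exact absurd (Adj.conn ⟨D.r0_Δ, hqΔ i, h⟩) (hqn i)
    rw [h3, pw_zero, mul_one] at h2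
    exact comm_of_conj h2
  have h2 : t⁻¹ * u * t ∈ D.Uy y := by
    have := D.Uy_conj' (inv_comm htr) (inv_comm hty) huy
    rwa [inv_inv] at this
  have h3 := hay _ h2
  have h4 : u * (a * (q * D.z)) = a * (q * D.z) * u := by
    rw [← hta]
    calc u * (t * a * t⁻¹) = t * ((t⁻¹ * u * t) * a) * t⁻¹ := by group
      _ = t * a * t⁻¹ * u := by rw [h3]; group
  apply huzne
  have h5 : a * q * (u * D.z) = a * q * (D.z * u) := by
    calc a * q * (u * D.z) = a * (q * u) * D.z := by group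
      _ = (a * u) * q * D.z := by rw [← huq]; group
      _ = u * (a * (q * D.z)) := by rw [← hua]; group
      _ = a * q * (D.z * u) := by rw [h4]; group
  exact mul_left_cancel h5

/-- **(5)** -/
theorem conn {p q : G} (hp : p ∈ D.Δ) (hq : q ∈ D.Δ) : D.Conn p q :=
  (D.conn0 hp).symm.trans' (D.conn0 hq)

/-! ### RESULT A -/

theorem mul_mem {p q : G} (hp : p ∈ D.Δ) (hq : q ∈ D.Δ) (hne : p ≠ q) (h0 : D.φ p q = 0) : p * q ∈ D.Δ :=
  (D.mul_mem' hp hq hne (D.conn hp hq) h0).1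

theorem mul_z_mem {p q : G} (hp : p ∈ D.Δ) (hq : q ∈ D.Δ) (h1 : D.φ p q = 1) : p * q * D.z ∈ D.Δ :=
  D.mul_z_mem' hp hq h1

theorem mem_U_iff {u : G} : u ∈ D.U ↔ u = 1 ∨ u = D.z ∨ u ∈ D.Δ ∨ u * D.z ∈ D.Δ := by
  constructor
  · intro hu
    have key : ∀ x ∈ D.Δ, ∀ w, (w = 1 ∨ w = D.z ∨ w ∈ D.Δ ∨ w * D.z ∈ D.Δ) →
        (x * w = 1 ∨ x * w = D.z ∨ x * w ∈ D.Δ ∨ x * w * D.z ∈ D.Δ) := by
      intro x hx w hw
      have hxU := D.Ms.Δ_le hx
      have hxx : x * x = 1 := D.U_sq x hxU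
      have hzz := D.z_sq
      have h3 : ∀ w ∈ D.Δ, x * w = 1 ∨ x * w = D.z ∨ x * w ∈ D.Δ ∨ x * w * D.z ∈ D.Δ := by
        intro w hw
        by_cases hne : x = w
        · left; rw [← hne, hxx]
        · rcases zmod_cases (D.φ x w) with h | h
          · exact Or.inr (Or.inr (Or.inl (D.mul_mem hx hw hne h)))
          · exact Or.inr (Or.inr (Or.inr (D.mul_z_mem hx hw h)))
      rcases hw with rfl | rfl | hw | hw
      · rw [mul_one]; exact Or.inr (Or.inr (Or.inl hx))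
      · right; right; right
        rw [mul_assoc, hzz, mul_one]; exact hx
      · exact h3 w hw
      · have e : x * w = x * (w * D.z) * D.z := by rw [← mul_assoc, mul_assoc _ D.z, hzz, mul_one]
        rcases h3 _ hw with h | h | h | h
        · right; left
          rw [e, h, one_mul]
        · left
          rw [e, h, hzz]
        · right; right; right
          rw [e, mul_assoc _ D.z, hzz, mul_one]; exact h
        · right; right; left
          rw [e]; exact h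
    have hu' : u ∈ closure D.Δ := hu
    induction hu' using closure_induction_left with
    | one => exact Or.inl rfl
    | mul_left x hx y _ ih =>
      exact key x hx y (ih (by
        rename_i hy
        exact hy))
    | inv_mul_cancel x hx y _ ih =>
      rw [D.Ms.U_inv (D.Ms.Δ_le hx)]
      exact key x hx y (ih (by
        rename_i hy
        exact hy))
  · rintro (rfl | rfl | h | h)
    · exact one_mem _
    · exact D.z_mem
    · exact D.Ms.Δ_le h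
    · have := Subgroup.mul_mem D.U (D.Ms.Δ_le h) D.z_mem
      rwa [mul_assoc, D.z_sq, mul_one] at this

theorem mem_U0_iff {u : G} : u ∈ D.Ms.U0 ↔ u = 1 ∨ u = D.z := by
  constructor
  · intro hu
    rcases D.mem_U_iff.1 hu.1 with h | h | h | h
    · exact Or.inl h
    · exact Or.inr h
    · exact absurd hu (D.Ms.not_mem_U0 h)
    · exact absurd (Subgroup.mul_mem _ hu D.Ms.z_U0) (D.Ms.not_mem_U0 h)
  · rintro (rfl | rfl)
    · exact one_mem _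
    · exact D.Ms.z_U0

/-- no element of `Δ` is in `C` -/
theorem Δ_C {p : G} (hp : p ∈ D.Δ) : p ∉ D.C := D.not_conn_C (D.conn0 hp)

/-- `U ∩ C = ⟨z⟩` -/
theorem C_U {c : G} (hc : c ∈ D.U) (hcC : c ∈ D.C) : c = 1 ∨ c = D.z := by
  rcases D.mem_U_iff.1 hc with h | h | h | h
  · exact Or.inl h
  · exact Or.inr h
  · exact absurd hcC (D.Δ_C h)
  · exact absurd (Subgroup.mul_mem _ hcC D.z_C) (D.Δ_C h)

end TS

end Cfsg.Agent.Omega.HOneTwo.Trans
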