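import Mathlib

/-!
# II.0h1, `q = 2`, after the transvection statement: one side ((1) and (4) of #15507)

`Side`: an elementary abelian normal subgroup `U = ⟨Δ⟩` of `A`, `Δ` invariant under `A`, `z ∈ U ∩ Z(A)`, and for
`p ∈ Δ` a subgroup `N p ≤ A` which induces on `U` the transvection `u ↦ u (p z) ^ φ p u`, `φ p` with kernel `K p`.

* `Side.symm`: `φ p q = φ q p` for `p, q ∈ Δ`;
* `Side.inj`: if `A / C(U)` has no normal 2-subgroup then `Δ → U / rad` is injective.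
-/

set_option autoImplicit false
set_option linter.unusedSectionVars false

namespace Cfsg.Agent.Omega.HOneTwo.Trans

open Subgroup

universe u

/-- `x ^ c`, `c ∈ F₂` -/
def pw {G : Type u} [Group G] (x : G) (c : ZMod 2) : G := if c = 0 then 1 else x

section pw

variable {G : Type u} [Group G]

@[simp] theorem pw_zero (x : G) : pw x 0 = 1 := if_pos rfl

@[simp] theorem pw_one (x : G) : pw x 1 = x := if_neg (by decide)

theorem zmod_cases (c : ZMod 2) : c = 0 ∨ c = 1 := by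
  revert c; decide

theorem zmod_one {c : ZMod 2} (h : c ≠ 0) : c = 1 := (zmod_cases c).resolve_left h

theorem pw_add {x : G} (hx : x * x = 1) (a b : ZMod 2) : pw x (a + b) = pw x a * pw x b := by
  rcases zmod_cases a with rfl | rfl <;> rcases zmod_cases b with rfl | rfl
  · simp
  · simp
  · simp
  · have : (1 : ZMod 2) + 1 = 0 := by decide
    rw [this]; simp [hx]

theorem pw_inj {x : G} (hx : x ≠ 1) {a b : ZMod 2} (h : pw x a = pw x b) : a = b := by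
  rcases zmod_cases a with rfl | rfl <;> rcases zmod_cases b with rfl | rfl
  · rfl
  · simp only [pw_zero, pw_one] at h; exact absurd h.symm hx
  · simp only [pw_zero, pw_one] at h; exact absurd h hx
  · rfl

theorem pw_conj (g x : G) (c : ZMod 2) : g * pw x c * g⁻¹ = pw (g * x * g⁻¹) c := by
  rcases zmod_cases c with rfl | rfl <;> simp

end pw

/-- one side -/
structure Side (G : Type u) [Group G] where
  A : Subgroup G
  U : Subgroup G
  Δ : Set G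
  z : G
  N : G → Subgroup G
  K : G → Subgroup G
  U_sq : ∀ u ∈ U, u * u = 1
  U_conj : ∀ m ∈ A, ∀ u ∈ U, m * u * m⁻¹ ∈ U
  Δ_gen : closure Δ = U
  Δ_conj : ∀ m ∈ A, ∀ p ∈ Δ, m * p * m⁻¹ ∈ Δ
  z_mem : z ∈ U
  z_comm : ∀ m ∈ A, m * z = z * m
  N_le : ∀ p ∈ Δ, N p ≤ A
  N_conj : ∀ m ∈ A, ∀ p ∈ Δ, ∀ n ∈ N p, m * n * m⁻¹ ∈ N (m * p * m⁻¹)
  act : ∀ p ∈ Δ, ∀ n ∈ N p, (∀ u ∈ U, n * u * n⁻¹ = u) ∨
    (∀ u ∈ U, (u ∈ K p → n * u * n⁻¹ = u) ∧ (u ∉ K p → n * u * n⁻¹ = u * (p * z)))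
  exN : ∀ p ∈ Δ, ∃ n ∈ N p, ∃ u ∈ U, n * u * n⁻¹ ≠ u
  zK : ∀ p ∈ Δ, z ∈ K p
  pK : ∀ p ∈ Δ, p ∈ K p

namespace Side

variable {G : Type u} [Group G] (D : Side G)

open Classical in
/-- the functional -/
noncomputable def φ (p u : G) : ZMod 2 := if u ∈ D.K p then 0 else 1

theorem Δ_le {p : G} (hp : p ∈ D.Δ) : p ∈ D.U := by
  rw [← D.Δ_gen]; exact subset_closure hp

theorem U_comm {u v : G} (hu : u ∈ D.U) (hv : v ∈ D.U) : u * v = v * u := by
  have h1 := D.U_sq _ (D.U.mul_mem hu hv)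
  have h2 := D.U_sq u hu
  have h3 := D.U_sq v hv
  calc u * v = u * (u * v * (u * v)) * v := by rw [h1, mul_one]
    _ = (u * u) * (v * u) * (v * v) := by group
    _ = v * u := by rw [h2, h3, one_mul, mul_one]

theorem U_inv {u : G} (hu : u ∈ D.U) : u⁻¹ = u := inv_eq_of_mul_eq_one_left (D.U_sq u hu)

theorem pz_mem {p : G} (hp : p ∈ D.Δ) : p * D.z ∈ D.U := D.U.mul_mem (D.Δ_le hp) D.z_mem

theorem pz_sq {p : G} (hp : p ∈ D.Δ) : p * D.z * (p * D.z) = 1 := D.U_sq _ (D.pz_mem hp)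

/-- elements of `N p` act as `1` or as the transvection -/
theorem act' {p : G} (hp : p ∈ D.Δ) {n : G} (hn : n ∈ D.N p) : (∀ u ∈ D.U, n * u * n⁻¹ = u) ∨
    ∀ u ∈ D.U, n * u * n⁻¹ = u * pw (p * D.z) (D.φ p u) := by
  rcases D.act p hp n hn with h | h
  · exact Or.inl h
  · refine Or.inr fun u hu => ?_
    unfold φ
    by_cases h1 : u ∈ D.K p
    · rw [if_pos h1, pw_zero, mul_one]; exact (h u hu).1 h1
    · rw [if_neg h1, pw_one]; exact (h u hu).2 h1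

theorem exists_t {p : G} (hp : p ∈ D.Δ) : ∃ t ∈ D.N p, ∀ u ∈ D.U, t * u * t⁻¹ = u * pw (p * D.z) (D.φ p u) := by
  obtain ⟨n, hn, u, hu, h⟩ := D.exN p hp
  exact ⟨n, hn, (D.act' hp hn).resolve_left fun h' => h (h' u hu)⟩

open Classical in
/-- an element of `N p` that acts as the transvection -/
noncomputable def t (p : G) : G := if hp : p ∈ D.Δ then (D.exists_t hp).choose else 1

theorem t_mem {p : G} (hp : p ∈ D.Δ) : D.t p ∈ D.N p := by
  unfold t; rw [dif_pos hp]; exact (D.exists_t hp).choose_spec.1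

theorem t_act {p : G} (hp : p ∈ D.Δ) {u : G} (hu : u ∈ D.U) :
    D.t p * u * (D.t p)⁻¹ = u * pw (p * D.z) (D.φ p u) := by
  unfold t; rw [dif_pos hp]; exact (D.exists_t hp).choose_spec.2 u hu

theorem t_A {p : G} (hp : p ∈ D.Δ) : D.t p ∈ D.A := D.N_le p hp (D.t_mem hp)

theorem pz_ne {p : G} (hp : p ∈ D.Δ) : p * D.z ≠ 1 := by
  intro h
  obtain ⟨n, hn, u, hu, h1⟩ := D.exN p hp
  apply h1
  rcases D.act p hp n hn with h2 | h2
  · exact h2 u hu
  · by_cases h3 : u ∈ D.K p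
    · exact (h2 u hu).1 h3
    · rw [(h2 u hu).2 h3, h, mul_one]

theorem φ_ne {p : G} (hp : p ∈ D.Δ) : ∃ u ∈ D.U, D.φ p u = 1 := by
  obtain ⟨n, hn, u, hu, h⟩ := D.exN p hp
  refine ⟨u, hu, zmod_one fun h0 => h ?_⟩
  rcases D.act' hp hn with h1 | h1
  · exact h1 u hu
  · rw [h1 u hu, h0, pw_zero, mul_one]

theorem φ_eq {p n : G} (hp : p ∈ D.Δ) (hn : n ∈ D.N p) {v : G} (hv : v ∈ D.U) (hnv : n * v * n⁻¹ ≠ v)
    {u : G} (hu : u ∈ D.U) : n * u * n⁻¹ = u * pw (p * D.z) (D.φ p u) :=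
  (D.act' hp hn).resolve_left (fun h => hnv (h v hv)) u hu

theorem φ_mul {p : G} (hp : p ∈ D.Δ) {u v : G} (hu : u ∈ D.U) (hv : v ∈ D.U) :
    D.φ p (u * v) = D.φ p u + D.φ p v := by
  apply pw_inj (D.pz_ne hp)
  rw [pw_add (D.pz_sq hp)]
  have h1 := D.t_act hp (D.U.mul_mem hu hv)
  have h2 : D.t p * (u * v) * (D.t p)⁻¹ = (D.t p * u * (D.t p)⁻¹) * (D.t p * v * (D.t p)⁻¹) := by group
  rw [h2, D.t_act hp hu, D.t_act hp hv] at h1
  have h3 : pw (p * D.z) (D.φ p u) ∈ D.U := by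
    rcases zmod_cases (D.φ p u) with h | h <;> rw [h]
    · rw [pw_zero]; exact D.U.one_mem
    · rw [pw_one]; exact D.pz_mem hp
  have h4 : u * pw (p * D.z) (D.φ p u) * (v * pw (p * D.z) (D.φ p v)) =
      u * v * (pw (p * D.z) (D.φ p u) * pw (p * D.z) (D.φ p v)) := by
    rw [mul_assoc u, ← mul_assoc (pw _ _) v, D.U_comm h3 hv]
    group
  rw [h4] at h1
  exact (mul_left_cancel h1).symm

theorem φ_z {p : G} (hp : p ∈ D.Δ) : D.φ p D.z = 0 := if_pos (D.zK p hp)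

theorem φ_self {p : G} (hp : p ∈ D.Δ) : D.φ p p = 0 := if_pos (D.pK p hp)

theorem φ_pz {p q : G} (hp : p ∈ D.Δ) (hq : q ∈ D.Δ) : D.φ q (p * D.z) = D.φ q p := by
  rw [D.φ_mul hq (D.Δ_le hp) D.z_mem, D.φ_z hq, add_zero]

theorem φ_one {p : G} (hp : p ∈ D.Δ) : D.φ p 1 = 0 := by
  have := D.φ_mul hp D.U.one_mem D.U.one_mem
  rw [mul_one] at this
  exact left_eq_add.mp this

theorem pw_mem {x : G} (hx : x ∈ D.U) (c : ZMod 2) : pw x c ∈ D.U := by
  rcases zmod_cases c with rfl | rfl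
  · rw [pw_zero]; exact D.U.one_mem
  · rw [pw_one]; exact hx

theorem φ_pw {p x : G} (hp : p ∈ D.Δ) (c : ZMod 2) : D.φ p (pw x c) = c * D.φ p x := by
  rcases zmod_cases c with rfl | rfl
  · rw [pw_zero, D.φ_one hp, zero_mul]
  · rw [pw_one, one_mul]

/-- `φ` is invariant -/
theorem φ_conj {m p u : G} (hm : m ∈ D.A) (hp : p ∈ D.Δ) (hu : u ∈ D.U) :
    D.φ (m * p * m⁻¹) (m * u * m⁻¹) = D.φ p u := by
  have hp' := D.Δ_conj m hm p hp
  have hn := D.N_conj m hm p hp _ (D.t_mem hp)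
  obtain ⟨v, hv, hv1⟩ := D.φ_ne hp
  have hpz : m * (p * D.z) * m⁻¹ = m * p * m⁻¹ * D.z := by
    calc m * (p * D.z) * m⁻¹ = m * p * m⁻¹ * (m * D.z) * m⁻¹ := by group
      _ = m * p * m⁻¹ * (D.z * m) * m⁻¹ := by rw [D.z_comm m hm]
      _ = m * p * m⁻¹ * D.z := by group
  have key : ∀ w ∈ D.U, m * D.t p * m⁻¹ * (m * w * m⁻¹) * (m * D.t p * m⁻¹)⁻¹ =
      m * w * m⁻¹ * pw (m * p * m⁻¹ * D.z) (D.φ p w) := by
    intro w hw
    have h1 := D.t_act hp hw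
    calc m * D.t p * m⁻¹ * (m * w * m⁻¹) * (m * D.t p * m⁻¹)⁻¹
        = m * (D.t p * w * (D.t p)⁻¹) * m⁻¹ := by group
      _ = m * w * m⁻¹ * (m * pw (p * D.z) (D.φ p w) * m⁻¹) := by rw [h1]; group
      _ = _ := by rw [pw_conj, hpz]
  have h2 := D.φ_eq hp' hn (D.U_conj m hm v hv) (by
    rw [key v hv, hv1, pw_one]
    intro h
    exact D.pz_ne hp' (mul_eq_left.mp h)) (D.U_conj m hm u hu)
  rw [key u hu] at h2
  exact (pw_inj (D.pz_ne hp') (mul_left_cancel h2)).symm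

/-- **(1)** -/
theorem symm {p q : G} (hp : p ∈ D.Δ) (hq : q ∈ D.Δ) : D.φ p q = D.φ q p := by
  -- it is enough to exclude `φ p q = 1`, `φ q p = 0`
  have key : ∀ p ∈ D.Δ, ∀ q ∈ D.Δ, D.φ p q = 1 → D.φ q p = 0 → False := by
    intro p hp q hq h1 h0
    have hp' := D.Δ_le hp
    have hq' := D.Δ_le hq
    set s := D.t p with hs
    set t := D.t q with ht
    -- `t` centralises `p`
    have e1 : t * p * t⁻¹ = p := by rw [ht, D.t_act hq hp', h0, pw_zero, mul_one]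
    -- `q' = q ^ s`
    have e2 : s * q * s⁻¹ = q * (p * D.z) := by rw [hs, D.t_act hp hq', h1, pw_one]
    -- `c = [t, s] ∈ N p`
    have hc : t * s * t⁻¹ * s⁻¹ ∈ D.N p := by
      have h2 := D.N_conj t (D.t_A hq) p hp s (D.t_mem hp)
      rw [e1] at h2
      exact (D.N p).mul_mem h2 ((D.N p).inv_mem (D.t_mem hp))
    -- the action of `s t s⁻¹`
    have hst : ∀ u ∈ D.U, s * t * s⁻¹ * u * (s * t * s⁻¹)⁻¹ = u * pw (q * p) (D.φ q u) := by
      intro u hu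
      have hu' : s⁻¹ * u * s ∈ D.U := by
        have := D.U_conj s⁻¹ (D.A.inv_mem (D.t_A hp)) u hu
        rwa [inv_inv] at this
      have h3 : D.φ q (s⁻¹ * u * s) = D.φ q u := by
        have h4 := D.t_act hp hu'
        have h5 : D.t p * (s⁻¹ * u * s) * (D.t p)⁻¹ = u := by rw [← hs]; group
        rw [h5] at h4
        have h6 := congrArg (D.φ q) h4
        rw [D.φ_mul hq hu' (D.pw_mem (D.pz_mem hp) _), D.φ_pw hq, D.φ_pz hp hq, h0, mul_zero, add_zero] at h6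
        exact h6.symm
      have h4 := D.t_act hq hu'
      rw [← ht, h3] at h4
      have h5 : s * (q * D.z) * s⁻¹ = q * p := by
        calc s * (q * D.z) * s⁻¹ = (s * q * s⁻¹) * (s * D.z * s⁻¹) := by group
          _ = q * (p * D.z) * D.z := by
            rw [e2, D.z_comm s (D.t_A hp), mul_inv_cancel_right]
          _ = q * p * (D.z * D.z) := by group
          _ = q * p := by rw [D.U_sq _ D.z_mem, mul_one]
      calc s * t * s⁻¹ * u * (s * t * s⁻¹)⁻¹ = s * (t * (s⁻¹ * u * s) * t⁻¹) * s⁻¹ := by group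
        _ = s * (s⁻¹ * u * s) * s⁻¹ * (s * pw (q * D.z) (D.φ q u) * s⁻¹) := by rw [h4]; group
        _ = u * pw (q * p) (D.φ q u) := by rw [pw_conj, h5]; group
    -- the action of `c = t (s t⁻¹ s⁻¹)`
    have hcu : ∀ u ∈ D.U, (t * s * t⁻¹ * s⁻¹) * u * (t * s * t⁻¹ * s⁻¹)⁻¹ = u * pw (p * D.z) (D.φ q u) := by
      intro u hu
      -- `s t⁻¹ s⁻¹ u s t s⁻¹ = u * pw (q p) (φ q u)` as well
      have hqp : q * p ∈ D.U := D.U.mul_mem hq' hp'
      have h6 : D.φ q (u * pw (q * p) (D.φ q u)) = D.φ q u := by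
        rw [D.φ_mul hq hu (D.pw_mem hqp _), D.φ_pw hq, D.φ_mul hq hq' hp', D.φ_self hq, h0, add_zero, mul_zero,
          add_zero]
      have h7 : (s * t * s⁻¹)⁻¹ * u * (s * t * s⁻¹) = u * pw (q * p) (D.φ q u) := by
        have hv := D.U.mul_mem hu (D.pw_mem hqp (D.φ q u))
        have h8 := hst _ hv
        rw [h6, mul_assoc u, ← pw_add (D.U_sq _ hqp)] at h8
        have h9 : D.φ q u + D.φ q u = 0 := by
          rcases zmod_cases (D.φ q u) with h | h <;> rw [h] <;> decide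
        rw [h9, pw_zero, mul_one] at h8
        calc (s * t * s⁻¹)⁻¹ * u * (s * t * s⁻¹) = (s * t * s⁻¹)⁻¹ * (s * t * s⁻¹ *
              (u * pw (q * p) (D.φ q u)) * (s * t * s⁻¹)⁻¹) * (s * t * s⁻¹) := by rw [h8]
          _ = u * pw (q * p) (D.φ q u) := by group
      have hv := D.U.mul_mem hu (D.pw_mem hqp (D.φ q u))
      calc (t * s * t⁻¹ * s⁻¹) * u * (t * s * t⁻¹ * s⁻¹)⁻¹
          = t * ((s * t * s⁻¹)⁻¹ * u * (s * t * s⁻¹)) * t⁻¹ := by group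
        _ = t * (u * pw (q * p) (D.φ q u)) * t⁻¹ := by rw [h7]
        _ = u * pw (q * p) (D.φ q u) * pw (q * D.z) (D.φ q u) := by
            rw [ht, D.t_act hq hv, h6]
        _ = u * pw (p * D.z) (D.φ q u) := by
            rw [mul_assoc]
            congr 1
            rcases zmod_cases (D.φ q u) with h | h
            · rw [h, pw_zero, pw_zero, pw_zero, mul_one]
            · rw [h, pw_one, pw_one, pw_one, D.U_comm hq' hp', mul_assoc, ← mul_assoc q, D.U_sq q hq', one_mul]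
    -- `c` acts nontrivially
    obtain ⟨v, hv, hv1⟩ := D.φ_ne hq
    have h3 := D.φ_eq hp hc hv (by
      rw [hcu v hv, hv1, pw_one]
      intro h
      exact D.pz_ne hp (mul_eq_left.mp h)) hq'
    rw [hcu q hq'] at h3
    have h4 := pw_inj (D.pz_ne hp) (mul_left_cancel h3)
    rw [D.φ_self hq, h1] at h4
    exact zero_ne_one h4
  rcases zmod_cases (D.φ p q) with h1 | h1 <;> rcases zmod_cases (D.φ q p) with h2 | h2
  · rw [h1, h2]
  · exact (key q hq p hp h2 h1).elim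
  · exact (key p hp q hq h1 h2).elim
  · rw [h1, h2]

/-! ### The radical -/

/-- the radical: `u ∈ U` with `φ p u = 0` for all `p ∈ Δ` -/
def U0 : Subgroup G where
  carrier := {u | u ∈ D.U ∧ ∀ p ∈ D.Δ, D.φ p u = 0}
  one_mem' := ⟨D.U.one_mem, fun _ hp => D.φ_one hp⟩
  mul_mem' := by
    rintro a b ⟨ha, ha'⟩ ⟨hb, hb'⟩
    exact ⟨D.U.mul_mem ha hb, fun p hp => by rw [D.φ_mul hp ha hb, ha' p hp, hb' p hp, add_zero]⟩
  inv_mem' := by
    rintro a ⟨ha, ha'⟩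
    rw [D.U_inv ha]
    exact ⟨ha, ha'⟩

theorem mem_U0 {u : G} : u ∈ D.U0 ↔ u ∈ D.U ∧ ∀ p ∈ D.Δ, D.φ p u = 0 := Iff.rfl

theorem z_U0 : D.z ∈ D.U0 := ⟨D.z_mem, fun _ hp => D.φ_z hp⟩

/-- a homomorphism `U → F₂` that vanishes on `Δ` vanishes on `U` -/
theorem eq_zero_of_Δ {f : G → ZMod 2} (h1 : f 1 = 0) (hf : ∀ u ∈ D.U, ∀ v ∈ D.U, f (u * v) = f u + f v)
    (h : ∀ p ∈ D.Δ, f p = 0) {u : G} (hu : u ∈ D.U) : f u = 0 := by
  rw [← D.Δ_gen] at hu
  induction hu using closure_induction with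
  | mem x hx => exact h x hx
  | one => exact h1
  | mul x y hx hy hx' hy' => rw [D.Δ_gen] at hx hy; rw [hf x hx y hy, hx', hy', add_zero]
  | inv x hx hx' => rw [D.Δ_gen] at hx; rw [D.U_inv hx]; exact hx'

theorem exists_nbr {p : G} (hp : p ∈ D.Δ) : ∃ q ∈ D.Δ, D.φ p q = 1 := by
  by_contra hcon
  push Not at hcon
  obtain ⟨u, hu, h1⟩ := D.φ_ne hp
  have := D.eq_zero_of_Δ (D.φ_one hp) (fun u hu v hv => D.φ_mul hp hu hv)
    (fun q hq => (zmod_cases _).resolve_right (hcon q hq)) hu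
  rw [this] at h1
  exact zero_ne_one h1

theorem not_mem_U0 {p : G} (hp : p ∈ D.Δ) : p ∉ D.U0 := by
  intro h
  obtain ⟨q, hq, h1⟩ := D.exists_nbr hp
  rw [D.symm hp hq, h.2 q hq] at h1
  exact zero_ne_one h1

theorem z_notin {p : G} (hp : p ∈ D.Δ) : p ≠ D.z := fun h => D.not_mem_U0 hp (h ▸ D.z_U0)

theorem one_notin {p : G} (hp : p ∈ D.Δ) : p ≠ 1 := fun h => D.not_mem_U0 hp (h ▸ D.U0.one_mem)

theorem U0_conj {m u : G} (hm : m ∈ D.A) (hu : u ∈ D.U0) : m * u * m⁻¹ ∈ D.U0 := by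
  refine ⟨D.U_conj m hm u hu.1, fun p hp => ?_⟩
  have hp' : m⁻¹ * p * m ∈ D.Δ := by
    have := D.Δ_conj m⁻¹ (D.A.inv_mem hm) p hp
    rwa [inv_inv] at this
  have h1 := D.φ_conj hm hp' hu.1
  have e : m * (m⁻¹ * p * m) * m⁻¹ = p := by group
  rw [e] at h1
  rw [h1]
  exact hu.2 _ hp'

/-- the functionals of `p` and `p c`, `c ∈ U₀` agree -/
theorem φ_mul_left {p c : G} (hp : p ∈ D.Δ) (hpc : p * c ∈ D.Δ) (hc : c ∈ D.U0) {u : G} (hu : u ∈ D.U) :
    D.φ (p * c) u = D.φ p u := by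
  have key : ∀ q ∈ D.Δ, D.φ (p * c) q = D.φ p q := by
    intro q hq
    rw [D.symm hpc hq, D.φ_mul hq (D.Δ_le hp) hc.1, hc.2 q hq, add_zero, D.symm hq hp]
  have h1 := D.eq_zero_of_Δ (f := fun u => D.φ (p * c) u + D.φ p u)
    (by show D.φ (p * c) 1 + D.φ p 1 = 0; rw [D.φ_one hp, D.φ_one hpc, add_zero])
    (fun u hu v hv => by
      show D.φ (p * c) (u * v) + D.φ p (u * v) = (D.φ (p * c) u + D.φ p u) + (D.φ (p * c) v + D.φ p v)
      rw [D.φ_mul hpc hu hv, D.φ_mul hp hu hv]; ring)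
    (fun q hq => by
      show D.φ (p * c) q + D.φ p q = 0
      rw [key q hq]
      rcases zmod_cases (D.φ p q) with h | h <;> rw [h] <;> decide) hu
  have h2 : D.φ (p * c) u + D.φ p u = 0 := h1
  rcases zmod_cases (D.φ (p * c) u) with h | h <;> rcases zmod_cases (D.φ p u) with h' | h' <;>
    rw [h, h'] at h2 ⊢ <;> revert h2 <;> decide

/-- elements of `A` that act as `1` on `U / U₀` and on `U₀` -/
def Ker : Subgroup G where
  carrier := {a | a ∈ D.A ∧ (∀ u ∈ D.U, a * u * a⁻¹ * u⁻¹ ∈ D.U0) ∧ ∀ u ∈ D.U0, a * u * a⁻¹ = u}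
  one_mem' := ⟨D.A.one_mem, fun u _ => by
    have : 1 * u * (1 : G)⁻¹ * u⁻¹ = 1 := by group
    rw [this]; exact D.U0.one_mem, fun u _ => by group⟩
  mul_mem' := by
    rintro a b ⟨ha, ha1, ha2⟩ ⟨hb, hb1, hb2⟩
    refine ⟨D.A.mul_mem ha hb, fun u hu => ?_, fun u hu => ?_⟩
    · have e : a * b * u * (a * b)⁻¹ * u⁻¹ =
          (a * (b * u * b⁻¹) * a⁻¹ * (b * u * b⁻¹)⁻¹) * (b * u * b⁻¹ * u⁻¹) := by group
      rw [e]
      exact D.U0.mul_mem (ha1 _ (D.U_conj b hb u hu)) (hb1 u hu)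
    · have e : a * b * u * (a * b)⁻¹ = a * (b * u * b⁻¹) * a⁻¹ := by group
      rw [e, hb2 u hu, ha2 u hu]
  inv_mem' := by
    rintro a ⟨ha, ha1, ha2⟩
    refine ⟨D.A.inv_mem ha, fun u hu => ?_, fun u hu => ?_⟩
    · have hv : a⁻¹ * u * a ∈ D.U := by
        have := D.U_conj a⁻¹ (D.A.inv_mem ha) u hu
        rwa [inv_inv] at this
      have h1 := D.U0.inv_mem (ha1 _ hv)
      have e : a⁻¹ * u * a⁻¹⁻¹ * u⁻¹ = (a * (a⁻¹ * u * a) * a⁻¹ * (a⁻¹ * u * a)⁻¹)⁻¹ := by group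
      rw [e]; exact h1
    · have h1 := ha2 u hu
      calc a⁻¹ * u * a⁻¹⁻¹ = a⁻¹ * (a * u * a⁻¹) * a⁻¹⁻¹ := by rw [h1]
        _ = u := by group

/-- what `O₂(A / C(U)) = 1` gives -/
def O2 : Prop := ∀ B : Subgroup G, B ≤ D.A → (∀ m ∈ D.A, ∀ b ∈ B, m * b * m⁻¹ ∈ B) →
  (∀ b ∈ B, ∀ u ∈ D.U, b * b * u = u * (b * b)) → ∀ b ∈ B, ∀ u ∈ D.U, b * u = u * b

theorem ker_comm (hO : D.O2) {a : G} (ha : a ∈ D.Ker) {u : G} (hu : u ∈ D.U) : a * u = u * a := by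
  refine hO D.Ker (fun a ha => ha.1) ?_ ?_ a ha u hu
  · rintro m hm b ⟨hb, hb1, hb2⟩
    have key : ∀ u ∈ D.U, m⁻¹ * u * m ∈ D.U := by
      intro u hu
      have := D.U_conj m⁻¹ (D.A.inv_mem hm) u hu
      rwa [inv_inv] at this
    have key0 : ∀ u ∈ D.U0, m⁻¹ * u * m ∈ D.U0 := by
      intro u hu
      have := D.U0_conj (D.A.inv_mem hm) hu
      rwa [inv_inv] at this
    refine ⟨D.A.mul_mem (D.A.mul_mem hm hb) (D.A.inv_mem hm), fun u hu => ?_, fun u hu => ?_⟩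
    · have e : m * b * m⁻¹ * u * (m * b * m⁻¹)⁻¹ * u⁻¹ =
          m * (b * (m⁻¹ * u * m) * b⁻¹ * (m⁻¹ * u * m)⁻¹) * m⁻¹ := by group
      rw [e]
      exact D.U0_conj hm (hb1 _ (key u hu))
    · have e : m * b * m⁻¹ * u * (m * b * m⁻¹)⁻¹ = m * (b * (m⁻¹ * u * m) * b⁻¹) * m⁻¹ := by group
      rw [e, hb2 _ (key0 u hu)]
      group
  · rintro b ⟨hb, hb1, hb2⟩ u hu
    set c := b * u * b⁻¹ * u⁻¹ with hc
    have h1 : c ∈ D.U0 := hb1 u hu
    have e1 : b * u * b⁻¹ = c * u := by rw [hc]; group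
    have e2 : b * (b * u * b⁻¹) * b⁻¹ = u := by
      rw [e1]
      calc b * (c * u) * b⁻¹ = (b * c * b⁻¹) * (b * u * b⁻¹) := by group
        _ = c * (c * u) := by rw [hb2 c h1, e1]
        _ = u := by rw [← mul_assoc, D.U_sq c h1.1, one_mul]
    calc b * b * u = b * (b * u * b⁻¹) * b⁻¹ * (b * b) := by group
      _ = u * (b * b) := by rw [e2]

/-- **`Δ → U / U₀` is injective** -/
theorem inj (hO : D.O2) {p c : G} (hp : p ∈ D.Δ) (hpc : p * c ∈ D.Δ) (hc : c ∈ D.U0) : c = 1 := by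
  have hp' := D.Δ_le hp
  have hz := D.z_mem
  have key : ∀ u ∈ D.U, D.t (p * c) * D.t p * u * (D.t (p * c) * D.t p)⁻¹ = u * pw c (D.φ p u) := by
    intro u hu
    have e : D.t (p * c) * D.t p * u * (D.t (p * c) * D.t p)⁻¹ =
        D.t (p * c) * (D.t p * u * (D.t p)⁻¹) * (D.t (p * c))⁻¹ := by group
    have h1 : u * pw (p * D.z) (D.φ p u) ∈ D.U := D.U.mul_mem hu (D.pw_mem (D.pz_mem hp) _)
    rw [e, D.t_act hp hu, D.t_act hpc h1, D.φ_mul_left hp hpc hc h1, D.φ_mul hp hu (D.pw_mem (D.pz_mem hp) _),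
      D.φ_pw hp, D.φ_pz hp hp, D.φ_self hp, mul_zero, add_zero, mul_assoc]
    congr 1
    rcases zmod_cases (D.φ p u) with h | h <;> rw [h]
    · rw [pw_zero, pw_zero, pw_zero, mul_one]
    · rw [pw_one, pw_one, pw_one]
      calc p * D.z * (p * c * D.z) = p * D.z * (p * (D.z * c)) := by
            rw [mul_assoc p c, D.U_comm hc.1 hz]
        _ = (p * D.z * (p * D.z)) * c := by group
        _ = c := by rw [D.pz_sq hp, one_mul]
  have hker : D.t (p * c) * D.t p ∈ D.Ker := by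
    refine ⟨D.A.mul_mem (D.t_A hpc) (D.t_A hp), fun u hu => ?_, fun u hu => ?_⟩
    · rw [key u hu]
      have h2 : pw c (D.φ p u) ∈ D.U0 := by
        rcases zmod_cases (D.φ p u) with h | h <;> rw [h]
        · rw [pw_zero]; exact D.U0.one_mem
        · rw [pw_one]; exact hc
      rw [D.U_comm hu h2.1, mul_inv_cancel_right]
      exact h2
    · rw [key u hu.1, hu.2 p hp, pw_zero, mul_one]
  obtain ⟨u, hu, h1⟩ := D.φ_ne hp
  have h2 := D.ker_comm hO hker hu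
  have h3 := key u hu
  rw [h2, mul_inv_cancel_right, h1, pw_one] at h3
  exact (mul_eq_left.mp h3.symm)

end Side

end Cfsg.Agent.Omega.HOneTwo.Trans
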