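import Cfsg.Agent.Omega.HOneTwo.TransSide

/-!
# II.0h1, `q = 2`: the bilinear form of a full side (helper467, #16429)

A side is full if `U = {1, z} ∪ Δ ∪ Δ z` and `Δ ∩ Δ z = ∅`.  Then `f u v` (the functional of the member of
`{u, u z}` in `Δ`) is a symmetric alternating bilinear form on `U` with radical `{1, z}`; every homomorphism
`U → F₂` with `z` in the kernel is `f u` for some `u`.
-/

set_option autoImplicit false
set_option maxHeartbeats 400000
set_option linter.unusedSectionVars false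

namespace Cfsg.Agent.Omega.HOneTwo.Trans

open Subgroup

universe u

namespace Side

variable {G : Type u} [Group G] (D : Side G)

/-- `U = {1, z} ∪ Δ ∪ Δ z`, `Δ ∩ Δ z = ∅` -/
structure IsFull : Prop where
  full : ∀ u ∈ D.U, u = 1 ∨ u = D.z ∨ u ∈ D.Δ ∨ u * D.z ∈ D.Δ
  inj : ∀ p ∈ D.Δ, p * D.z ∉ D.Δ

open Classical in
/-- the bilinear form -/
noncomputable def f (u v : G) : ZMod 2 :=
  if u ∈ D.Δ then D.φ u v else if u * D.z ∈ D.Δ then D.φ (u * D.z) v else 0

variable {D}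

theorem f_Δ {p v : G} (hp : p ∈ D.Δ) : D.f p v = D.φ p v := by
  unfold f; rw [if_pos hp]

namespace IsFull

variable (h : D.IsFull)
include h

theorem zz : D.z * D.z = 1 := D.U_sq _ D.z_mem

theorem f_Δz {u v : G} (hp : u * D.z ∈ D.Δ) : D.f u v = D.φ (u * D.z) v := by
  have h1 : u ∉ D.Δ := by
    intro h2
    exact h.inj u h2 hp
  unfold f; rw [if_neg h1, if_pos hp]

theorem f_one {v : G} : D.f 1 v = 0 := by
  have h1 : (1 : G) ∉ D.Δ := fun h' => D.one_notin h' rfl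
  have h2 : (1 : G) * D.z ∉ D.Δ := by
    rw [one_mul]
    exact fun h' => D.z_notin h' rfl
  unfold f; rw [if_neg h1, if_neg h2]

theorem f_z {v : G} : D.f D.z v = 0 := by
  have h1 : D.z ∉ D.Δ := fun h' => D.z_notin h' rfl
  have h2 : D.z * D.z ∉ D.Δ := by
    rw [h.zz]
    exact fun h' => D.one_notin h' rfl
  unfold f; rw [if_neg h1, if_neg h2]

/-- the cases for `u ∈ U` -/
theorem cases {u : G} (hu : u ∈ D.U) : (u = 1 ∨ u = D.z) ∨ ∃ p ∈ D.Δ, (u = p ∨ u = p * D.z) := by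
  rcases h.full u hu with h1 | h1 | h1 | h1
  · exact Or.inl (Or.inl h1)
  · exact Or.inl (Or.inr h1)
  · exact Or.inr ⟨u, h1, Or.inl rfl⟩
  · refine Or.inr ⟨u * D.z, h1, Or.inr ?_⟩
    rw [mul_assoc, h.zz, mul_one]

theorem f_pz {p v : G} (hp : p ∈ D.Δ) : D.f (p * D.z) v = D.φ p v := by
  have e : p * D.z * D.z = p := by rw [mul_assoc, h.zz, mul_one]
  have := h.f_Δz (u := p * D.z) (v := v) (by rw [e]; exact hp)
  rw [this, e]

theorem f_mul_right {u v w : G} (hv : v ∈ D.U) (hw : w ∈ D.U) (hu : u ∈ D.U) :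
    D.f u (v * w) = D.f u v + D.f u w := by
  rcases h.cases hu with (rfl | rfl) | ⟨p, hp, rfl | rfl⟩
  · rw [h.f_one, h.f_one, h.f_one, add_zero]
  · rw [h.f_z, h.f_z, h.f_z, add_zero]
  · rw [f_Δ hp, f_Δ hp, f_Δ hp, D.φ_mul hp hv hw]
  · rw [h.f_pz hp, h.f_pz hp, h.f_pz hp, D.φ_mul hp hv hw]

theorem f_right_one {u : G} (hu : u ∈ D.U) : D.f u 1 = 0 := by
  rcases h.cases hu with (rfl | rfl) | ⟨p, hp, rfl | rfl⟩
  · exact h.f_one
  · exact h.f_z
  · rw [f_Δ hp, D.φ_one hp]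
  · rw [h.f_pz hp, D.φ_one hp]

theorem f_right_z {u : G} (hu : u ∈ D.U) : D.f u D.z = 0 := by
  rcases h.cases hu with (rfl | rfl) | ⟨p, hp, rfl | rfl⟩
  · exact h.f_one
  · exact h.f_z
  · rw [f_Δ hp, D.φ_z hp]
  · rw [h.f_pz hp, D.φ_z hp]

theorem φ_mul_z {p v : G} (hp : p ∈ D.Δ) (hv : v ∈ D.U) : D.φ p (v * D.z) = D.φ p v := by
  rw [D.φ_mul hp hv D.z_mem, D.φ_z hp, add_zero]

theorem f_symm {u v : G} (hu : u ∈ D.U) (hv : v ∈ D.U) : D.f u v = D.f v u := by
  rcases h.cases hu with (rfl | rfl) | ⟨p, hp, rfl | rfl⟩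
  · rw [h.f_one, h.f_right_one hv]
  · rw [h.f_z, h.f_right_z hv]
  · rcases h.cases hv with (rfl | rfl) | ⟨q, hq, rfl | rfl⟩
    · rw [h.f_one, h.f_right_one hu]
    · rw [h.f_z, h.f_right_z hu]
    · rw [f_Δ hp, f_Δ hq, D.symm hp hq]
    · rw [f_Δ hp, h.f_pz hq, h.φ_mul_z hp (D.Δ_le hq), D.symm hp hq]
  · rcases h.cases hv with (rfl | rfl) | ⟨q, hq, rfl | rfl⟩
    · rw [h.f_one, h.f_right_one hu]
    · rw [h.f_z, h.f_right_z hu]
    · rw [h.f_pz hp, f_Δ hq, h.φ_mul_z hq (D.Δ_le hp), D.symm hp hq]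
    · rw [h.f_pz hp, h.f_pz hq, h.φ_mul_z hq (D.Δ_le hp), h.φ_mul_z hp (D.Δ_le hq), D.symm hp hq]

theorem f_mul_left {u v w : G} (hu : u ∈ D.U) (hv : v ∈ D.U) (hw : w ∈ D.U) :
    D.f (u * v) w = D.f u w + D.f v w := by
  rw [h.f_symm (D.U.mul_mem hu hv) hw, h.f_mul_right hu hv hw, h.f_symm hw hu, h.f_symm hw hv]

theorem f_self {u : G} (hu : u ∈ D.U) : D.f u u = 0 := by
  rcases h.cases hu with (h1 | h1) | ⟨p, hp, h1 | h1⟩
  · rw [h1]; exact h.f_one
  · rw [h1]; exact h.f_z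
  · rw [h1, f_Δ hp, D.φ_self hp]
  · rw [h1, h.f_pz hp, h.φ_mul_z hp (D.Δ_le hp), D.φ_self hp]

/-- the radical of `f` is `{1, z}` -/
theorem rad {u : G} (hu : u ∈ D.U) (h0 : ∀ p ∈ D.Δ, D.f u p = 0) : u = 1 ∨ u = D.z := by
  rcases h.cases hu with h1 | ⟨p, hp, hup⟩
  · exact h1
  · exfalso
    obtain ⟨q, hq, h1⟩ := D.exists_nbr hp
    have h2 := h0 q hq
    rcases hup with rfl | rfl
    · rw [f_Δ hp, h1] at h2
      exact one_ne_zero h2
    · rw [h.f_pz hp, h1] at h2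
      exact one_ne_zero h2

theorem f_conj {m u v : G} (hm : m ∈ D.A) (hu : u ∈ D.U) (hv : v ∈ D.U) :
    D.f (m * u * m⁻¹) (m * v * m⁻¹) = D.f u v := by
  have hz : m * D.z * m⁻¹ = D.z := by rw [D.z_comm m hm, mul_inv_cancel_right]
  rcases h.cases hu with (rfl | rfl) | ⟨p, hp, rfl | rfl⟩
  · rw [mul_one, mul_inv_cancel, h.f_one, h.f_one]
  · rw [hz, h.f_z, h.f_z]
  · rw [f_Δ (D.Δ_conj m hm u hp), f_Δ hp, D.φ_conj hm hp hv]
  · have e : m * (p * D.z) * m⁻¹ = m * p * m⁻¹ * D.z := by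
      calc m * (p * D.z) * m⁻¹ = m * p * m⁻¹ * (m * D.z * m⁻¹) := by group
        _ = _ := by rw [hz]
    rw [e, h.f_pz (D.Δ_conj m hm p hp), h.f_pz hp, D.φ_conj hm hp hv]

end IsFull

/-- duality for a form on a finite elementary abelian group with radical `{1, z}` -/
theorem dual_exists {E : Type u} [CommGroup E] [Finite E] (hsq : ∀ u : E, u * u = 1) (f : E → E → ZMod 2)
    (hl : ∀ u v w, f (u * v) w = f u w + f v w) (hr : ∀ u v w, f u (v * w) = f u v + f u w)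
    (z : E) (hz : ∀ u, f u z = 0) (rad : ∀ u, (∀ v, f u v = 0) → u = 1 ∨ u = z)
    (ψ : E → ZMod 2) (hψ : ∀ u v, ψ (u * v) = ψ u + ψ v) (hψz : ψ z = 0) : ∃ u, ∀ v, ψ v = f u v := by
  letI : Module (ZMod 2) (Additive E) := AddCommGroup.zmodModule (n := 2) (by
    intro x
    change (2 : ℕ) • x = 0
    rw [two_nsmul]
    exact hsq x.toMul)
  have : Finite (Additive E) := inferInstanceAs (Finite E)
  have : Module.Finite (ZMod 2) (Additive E) := Module.Finite.of_finite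
  have f1 : ∀ u, f u 1 = 0 := by
    intro u
    have := hr u 1 1
    rw [mul_one] at this
    simpa using this
  have f1' : ∀ v, f 1 v = 0 := by
    intro u
    have := hl 1 1 u
    rw [mul_one] at this
    simpa using this
  have ψ1 : ψ 1 = 0 := by
    have := hψ 1 1
    rw [mul_one] at this
    simpa using this
  let F (u : E) : Module.Dual (ZMod 2) (Additive E) :=
    AddMonoidHom.toZModLinearMap 2
      { toFun := fun v => f u v.toMul, map_zero' := f1 u, map_add' := fun v w => hr u _ _ }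
  let B : Additive E →ₗ[ZMod 2] Module.Dual (ZMod 2) (Additive E) :=
    AddMonoidHom.toZModLinearMap 2
      { toFun := fun u => F u.toMul
        map_zero' := by
          apply LinearMap.ext
          intro v
          exact f1' _
        map_add' := by
          intro u w
          apply LinearMap.ext
          intro v
          exact hl _ _ _ }
  let Ψ : Module.Dual (ZMod 2) (Additive E) :=
    AddMonoidHom.toZModLinearMap 2
      { toFun := fun v => ψ v.toMul, map_zero' := ψ1, map_add' := fun v w => hψ _ _ }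
  let W : Submodule (ZMod 2) (Additive E) := Submodule.span (ZMod 2) {Additive.ofMul z}
  have h1 : LinearMap.range B ≤ W.dualAnnihilator := by
    rintro _ ⟨u, rfl⟩
    rw [Submodule.mem_dualAnnihilator]
    intro w hw
    obtain ⟨c, rfl⟩ := Submodule.mem_span_singleton.1 hw
    rw [map_smul]
    have : B u (Additive.ofMul z) = 0 := hz _
    rw [this, smul_zero]
  have h2 : LinearMap.ker B ≤ W := by
    intro u hu
    have h3 : ∀ v, f u.toMul v = 0 := by
      intro v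
      have := LinearMap.congr_fun (LinearMap.mem_ker.1 hu) (Additive.ofMul v)
      exact this
    rcases rad _ h3 with h4 | h4
    · have : u = 0 := h4
      rw [this]
      exact W.zero_mem
    · have : u = Additive.ofMul z := h4
      rw [this]
      exact Submodule.mem_span_singleton_self _
  have h3 := LinearMap.finrank_range_add_finrank_ker B
  have h4 := Subspace.finrank_add_finrank_dualAnnihilator_eq W
  have h5 := Submodule.finrank_mono h2
  have h6 : LinearMap.range B = W.dualAnnihilator :=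
    Submodule.eq_of_le_of_finrank_le h1 (by omega)
  have h7 : Ψ ∈ W.dualAnnihilator := by
    rw [Submodule.mem_dualAnnihilator]
    intro w hw
    obtain ⟨c, rfl⟩ := Submodule.mem_span_singleton.1 hw
    rw [map_smul]
    have : Ψ (Additive.ofMul z) = 0 := hψz
    rw [this, smul_zero]
  rw [← h6] at h7
  obtain ⟨u, hu⟩ := h7
  refine ⟨u.toMul, fun v => ?_⟩
  have := LinearMap.congr_fun hu (Additive.ofMul v)
  exact this.symm

theorem mz1 {p q : G} (hp : p ∈ D.Δ) (hq : q ∈ D.Δ) (h1 : D.φ p q = 1) : p * q * D.z ∈ D.Δ := by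
  have h2 := D.t_act hp (D.Δ_le hq)
  rw [h1, pw_one] at h2
  have h3 := D.Δ_conj _ (D.t_A hp) q hq
  rw [h2] at h3
  have e : q * (p * D.z) = p * q * D.z := by
    rw [← mul_assoc, D.U_comm (D.Δ_le hq) (D.Δ_le hp)]
  rwa [e] at h3

/-- a full side whose `Δ` is closed under products of perpendicular members -/
structure IsOrth : Prop extends D.IsFull where
  mm : ∀ p ∈ D.Δ, ∀ q ∈ D.Δ, p ≠ q → D.φ p q = 0 → p * q ∈ D.Δ

namespace IsOrth

variable (h : D.IsOrth)
include h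

theorem mz {p q : G} (hp : p ∈ D.Δ) (hq : q ∈ D.Δ) (h1 : D.φ p q = 1) : p * q * D.z ∈ D.Δ := by
  have h2 := D.t_act hp (D.Δ_le hq)
  rw [h1, pw_one] at h2
  have h3 := D.Δ_conj _ (D.t_A hp) q hq
  rw [h2] at h3
  have e : q * (p * D.z) = p * q * D.z := by
    rw [← mul_assoc, D.U_comm (D.Δ_le hq) (D.Δ_le hp)]
  rwa [e] at h3

/-- the extension of a function on `Δ` -/
theorem exists_rep [Finite G] (ψ : G → ZMod 2)
    (h1 : ∀ p ∈ D.Δ, ∀ q ∈ D.Δ, D.φ p q = 1 → ψ (p * q * D.z) = ψ p + ψ q)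
    (h0 : ∀ p ∈ D.Δ, ∀ q ∈ D.Δ, p ≠ q → D.φ p q = 0 → ψ (p * q) = ψ p + ψ q) :
    ∃ u ∈ D.U, ∀ p ∈ D.Δ, ψ p = D.φ p u := by
  classical
  have zz := h.toIsFull.zz
  let Ψ : G → ZMod 2 := fun u => if u ∈ D.Δ then ψ u else if u * D.z ∈ D.Δ then ψ (u * D.z) else 0
  have ex : ∀ u : G, u * D.z * D.z = u := fun u => by rw [mul_assoc, zz, mul_one]
  have a1 : ∀ u ∈ D.Δ, Ψ u = ψ u := fun u hu => if_pos hu
  have a2 : ∀ u, Ψ (u * D.z) = Ψ u := by
    intro u
    by_cases hu : u ∈ D.Δ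
    · have h3 : u * D.z ∉ D.Δ := h.inj u hu
      have h4 : u * D.z * D.z ∈ D.Δ := by rw [ex]; exact hu
      show (if u * D.z ∈ D.Δ then ψ (u * D.z) else if u * D.z * D.z ∈ D.Δ then ψ (u * D.z * D.z) else 0) =
        if u ∈ D.Δ then ψ u else if u * D.z ∈ D.Δ then ψ (u * D.z) else 0
      rw [if_neg h3, if_pos h4, if_pos hu, ex]
    · by_cases h3 : u * D.z ∈ D.Δ
      · show (if u * D.z ∈ D.Δ then ψ (u * D.z) else if u * D.z * D.z ∈ D.Δ then ψ (u * D.z * D.z) else 0) =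
          if u ∈ D.Δ then ψ u else if u * D.z ∈ D.Δ then ψ (u * D.z) else 0
        rw [if_pos h3, if_neg hu, if_pos h3]
      · have h4 : u * D.z * D.z ∉ D.Δ := by rw [ex]; exact hu
        show (if u * D.z ∈ D.Δ then ψ (u * D.z) else if u * D.z * D.z ∈ D.Δ then ψ (u * D.z * D.z) else 0) =
          if u ∈ D.Δ then ψ u else if u * D.z ∈ D.Δ then ψ (u * D.z) else 0
        rw [if_neg h3, if_neg h4, if_neg hu, if_neg h3]
  have a3 : Ψ 1 = 0 := by
    have h3 : (1 : G) ∉ D.Δ := fun h' => D.one_notin h' rfl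
    have h4 : (1 : G) * D.z ∉ D.Δ := by rw [one_mul]; exact fun h' => D.z_notin h' rfl
    show (if (1 : G) ∈ D.Δ then ψ 1 else if (1 : G) * D.z ∈ D.Δ then ψ (1 * D.z) else 0) = 0
    rw [if_neg h3, if_neg h4]
  have a4 : Ψ D.z = 0 := by
    have := a2 1
    rw [one_mul] at this
    rw [this, a3]
  -- additivity on `Δ`
  have b1 : ∀ p ∈ D.Δ, ∀ q ∈ D.Δ, Ψ (p * q) = Ψ p + Ψ q := by
    intro p hp q hq
    by_cases hpq : p = q
    · subst hpq
      rw [D.U_sq p (D.Δ_le hp), a3]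
      have : ∀ c : ZMod 2, 0 = c + c := by decide
      exact this _
    · rcases zmod_cases (D.φ p q) with h3 | h3
      · rw [a1 _ (h.mm p hp q hq hpq h3), a1 p hp, a1 q hq, h0 p hp q hq hpq h3]
      · rw [← a2, a1 _ (h.mz hp hq h3), a1 p hp, a1 q hq, h1 p hp q hq h3]
  have b2 : ∀ u ∈ D.U, ∀ v ∈ D.U, Ψ (u * v) = Ψ u + Ψ v := by
    intro u hu v hv
    have key : ∀ p ∈ D.Δ, ∀ v ∈ D.U, Ψ (p * v) = Ψ p + Ψ v := by
      intro p hp v hv
      rcases h.toIsFull.cases hv with (h3 | h3) | ⟨q, hq, h3 | h3⟩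
      · rw [h3, mul_one, a3, add_zero]
      · rw [h3, a2, a4, add_zero]
      · rw [h3, b1 p hp q hq]
      · rw [h3, ← mul_assoc, a2, a2, b1 p hp q hq]
    rcases h.toIsFull.cases hu with (h3 | h3) | ⟨q, hq, h3 | h3⟩
    · rw [h3, one_mul, a3, zero_add]
    · rw [h3, D.U_comm D.z_mem hv, a2, a4, zero_add]
    · rw [h3, key q hq v hv]
    · rw [h3, a2, mul_assoc, D.U_comm D.z_mem hv, ← mul_assoc, a2, key q hq v hv]
  letI : CommGroup D.U := { (inferInstance : Group D.U) with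
    mul_comm := fun a b => Subtype.ext (D.U_comm a.2 b.2) }
  obtain ⟨u, hu⟩ := dual_exists (E := D.U) (fun u => Subtype.ext (D.U_sq _ u.2)) (fun u v => D.f u v)
    (fun u v w => h.toIsFull.f_mul_left u.2 v.2 w.2) (fun u v w => h.toIsFull.f_mul_right v.2 w.2 u.2)
    ⟨D.z, D.z_mem⟩ (fun u => h.toIsFull.f_right_z u.2)
    (fun u hu => by
      rcases h.toIsFull.rad u.2 (fun p hp => hu ⟨p, D.Δ_le hp⟩) with h3 | h3
      · exact Or.inl (Subtype.ext h3)
      · exact Or.inr (Subtype.ext h3))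
    (fun u => Ψ u) (fun u v => b2 _ u.2 _ v.2) a4
  refine ⟨u, u.2, fun p hp => ?_⟩
  have h3 := hu ⟨p, D.Δ_le hp⟩
  rw [← f_Δ hp, h.toIsFull.f_symm (D.Δ_le hp) u.2, ← h3, ← a1 p hp]

end IsOrth

end Side

end Cfsg.Agent.Omega.HOneTwo.Trans
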