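import Cfsg.Agent.Omega.HOneTwo.TwoForm
import Cfsg.Agent.Omega.HOneTwo.TransDefs

/-!
# II.0h1, `q = 2`: (14) of #16429 (helper467), abstract form

`Four S O`: the side of `M`, `O = O₂(M)`, `K p = Q_p`.  An `x ∈ O` which acts on every `N_p` as `1` or as the
elements of `U` do (`Loc`) lies in `U`.
-/

set_option autoImplicit false
set_option maxHeartbeats 400000
set_option linter.unusedSectionVars false

namespace Cfsg.Agent.Omega.HOneTwo.Trans

open Subgroup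

universe u

variable {G : Type u} [Group G]

/-- the hypotheses of (14) -/
structure Four (S : Side G) (O : Subgroup G) : Prop where
  orth : S.IsOrth
  O_A : O ≤ S.A
  O_conj : ∀ m ∈ S.A, ∀ x ∈ O, m * x * m⁻¹ ∈ O
  O_U : ∀ x ∈ O, ∀ u ∈ S.U, x * u = u * x
  U_O : S.U ≤ O
  K_A : ∀ p ∈ S.Δ, S.K p ≤ S.A
  N_sq : ∀ p ∈ S.Δ, ∀ n ∈ S.N p, n * n = 1
  K_conj : ∀ m ∈ S.A, ∀ p ∈ S.Δ, ∀ x ∈ S.K p, m * x * m⁻¹ ∈ S.K (m * p * m⁻¹)
  K_cent : ∀ p ∈ S.Δ, ∀ x ∈ S.K p, x * p = p * x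
  K_der : ∀ p ∈ S.Δ, ∀ x ∈ S.K p, ∀ y ∈ S.K p, x * y = y * x ∨ x * y = p * (y * x)
  K_tr : ∀ p ∈ S.Δ, ∀ q ∈ S.Δ, q ∈ S.K p → q ≠ p → ∃ g ∈ S.K p, g * q * g⁻¹ = p * q
  O_K : ∀ p ∈ S.Δ, ∀ x ∈ O, (∀ n ∈ S.N p, x * n * x⁻¹ = n) → x ∈ S.K p
  cen : ∀ x ∈ O, (∀ p ∈ S.Δ, x ∈ S.K p) → (∀ p ∈ S.Δ, ∀ y ∈ S.K p, x * y = y * x) → x = 1 ∨ x = S.z

namespace Side

variable (S : Side G)

/-- `n` does not centralise `U` -/
def NC (n : G) : Prop := ¬ ∀ u ∈ S.U, n * u * n⁻¹ = u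

/-- `x` acts on each `N_p` as `1` or as an element of `U` -/
def Loc (x : G) : Prop := ∀ p ∈ S.Δ, (∀ n ∈ S.N p, ¬ S.NC n → x * n * x⁻¹ = n) ∧
  ((∀ n ∈ S.N p, x * n * x⁻¹ = n) ∨ ∀ n ∈ S.N p, S.NC n → x * n * x⁻¹ = n * (p * S.z))

open Classical in
/-- the function `ψ_x` -/
noncomputable def psi (x p : G) : ZMod 2 := if x * S.t p * x⁻¹ = S.t p then 0 else 1

variable {S}

theorem t_NC {p : G} (hp : p ∈ S.Δ) : S.NC (S.t p) := by
  intro h
  obtain ⟨u, hu, h1⟩ := S.φ_ne hp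
  have h2 := S.t_act hp hu
  rw [h u hu, h1, pw_one, left_eq_mul] at h2
  exact S.pz_ne hp h2

theorem NC_conj {m n : G} (hm : m ∈ S.A) (hn : S.NC n) : S.NC (m * n * m⁻¹) := by
  intro h
  apply hn
  intro u hu
  have h1 := h (m * u * m⁻¹) (S.U_conj m hm u hu)
  calc n * u * n⁻¹ = m⁻¹ * (m * n * m⁻¹ * (m * u * m⁻¹) * (m * n * m⁻¹)⁻¹) * m := by group
    _ = u := by rw [h1]; group

theorem NC_conj' {m n : G} (hm : m ∈ S.A) (hn : S.NC (m * n * m⁻¹)) : S.NC n := by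
  have := NC_conj (S.A.inv_mem hm) hn
  have e : m⁻¹ * (m * n * m⁻¹) * m⁻¹⁻¹ = n := by group
  rwa [e] at this

theorem loc_act {x : G} (hx : S.Loc x) {p n : G} (hp : p ∈ S.Δ) (hn : n ∈ S.N p) (hnc : S.NC n) :
    x * n * x⁻¹ = n * pw (p * S.z) (S.psi x p) := by
  rcases (hx p hp).2 with h | h
  · rw [h n hn]
    unfold psi
    rw [if_pos (h _ (S.t_mem hp)), pw_zero, mul_one]
  · rw [h n hn hnc]
    unfold psi
    rw [if_neg, pw_one]
    rw [h _ (S.t_mem hp) (t_NC hp)]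
    intro h1
    rw [mul_eq_left] at h1
    exact S.pz_ne hp h1

theorem loc_fix {x : G} (hx : S.Loc x) {p n : G} (hp : p ∈ S.Δ) (hn : n ∈ S.N p) (h0 : S.psi x p = 0) :
    x * n * x⁻¹ = n := by
  by_cases hnc : S.NC n
  · rw [loc_act hx hp hn hnc, h0, pw_zero, mul_one]
  · exact (hx p hp).1 n hn hnc

theorem loc_mul {x y : G} (hx : S.Loc x) (hy : S.Loc y) (hxU : ∀ u ∈ S.U, x * u = u * x) : S.Loc (x * y) := by
  intro p hp
  have key : ∀ n, x * y * n * (x * y)⁻¹ = x * (y * n * y⁻¹) * x⁻¹ := fun n => by group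
  have hpx : x * (p * S.z) * x⁻¹ = p * S.z := by rw [hxU _ (S.pz_mem hp), mul_inv_cancel_right]
  have key2 : ∀ n, x * (n * (p * S.z)) * x⁻¹ = x * n * x⁻¹ * (p * S.z) := fun n => by
    calc x * (n * (p * S.z)) * x⁻¹ = x * n * x⁻¹ * (x * (p * S.z) * x⁻¹) := by group
      _ = _ := by rw [hpx]
  refine ⟨fun n hn hnc => ?_, ?_⟩
  · rw [key, (hy p hp).1 n hn hnc, (hx p hp).1 n hn hnc]
  · rcases (hx p hp).2 with h1 | h1 <;> rcases (hy p hp).2 with h2 | h2
    · exact Or.inl fun n hn => by rw [key, h2 n hn, h1 n hn]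
    · exact Or.inr fun n hn hnc => by rw [key, h2 n hn hnc, key2, h1 n hn]
    · exact Or.inr fun n hn hnc => by rw [key, h2 n hn, h1 n hn hnc]
    · left
      intro n hn
      by_cases hnc : S.NC n
      · rw [key, h2 n hn hnc, key2, h1 n hn hnc, mul_assoc, S.pz_sq hp, mul_one]
      · rw [key, (hy p hp).1 n hn hnc, (hx p hp).1 n hn hnc]

end Side

namespace Four

variable {S : Side G} {O : Subgroup G} (F : Four S O)
include F

theorem t_inv {p : G} (hp : p ∈ S.Δ) : (S.t p)⁻¹ = S.t p := inv_eq_of_mul_eq_one_left (F.N_sq p hp _ (S.t_mem hp))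

/-- for `u ∈ U`: `u n u⁻¹ = n (p z)^{φ p u}` -/
theorem U_act {p u n : G} (hp : p ∈ S.Δ) (hu : u ∈ S.U) (hn : n ∈ S.N p) (hnc : S.NC n) :
    u * n * u⁻¹ = n * pw (p * S.z) (S.φ p u) := by
  have h0 := F.N_sq p hp n hn
  have hninv : n⁻¹ = n := inv_eq_of_mul_eq_one_left h0
  have h1 : n * u * n⁻¹ = u * pw (p * S.z) (S.φ p u) := by
    rcases S.act p hp n hn with h | h
    · exact absurd h hnc
    · have h2 := h u hu
      by_cases hk : u ∈ S.K p
      · have : S.φ p u = 0 := if_pos hk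
        rw [this, pw_zero, mul_one]
        exact h2.1 hk
      · have : S.φ p u = 1 := if_neg hk
        rw [this, pw_one]
        exact h2.2 hk
  have h2 : n * (u * n * u⁻¹) = pw (p * S.z) (S.φ p u) := by
    calc n * (u * n * u⁻¹) = (n * u * n⁻¹) * u⁻¹ := by rw [hninv]; group
      _ = u * pw (p * S.z) (S.φ p u) * u⁻¹ := by rw [h1]
      _ = pw (p * S.z) (S.φ p u) := by
        rw [S.U_comm hu (S.pw_mem (S.pz_mem hp) _), mul_inv_cancel_right]
  calc u * n * u⁻¹ = n * (n * (u * n * u⁻¹)) := by rw [← mul_assoc, h0, one_mul]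
    _ = _ := by rw [h2]

theorem U_loc {u : G} (hu : u ∈ S.U) : S.Loc u := by
  intro p hp
  have h0 : ∀ n ∈ S.N p, ¬ S.NC n → u * n * u⁻¹ = n := by
    intro n hn hnc
    unfold Side.NC at hnc
    push Not at hnc
    have h1 := hnc u hu
    have h2 : n * u = u * n := comm_of_conj h1
    rw [← h2, mul_inv_cancel_right]
  refine ⟨h0, ?_⟩
  rcases zmod_cases (S.φ p u) with h | h
  · left
    intro n hn
    by_cases hnc : S.NC n
    · rw [F.U_act hp hu hn hnc, h, pw_zero, mul_one]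
    · exact h0 n hn hnc
  · right
    intro n hn hnc
    rw [F.U_act hp hu hn hnc, h, pw_one]

theorem psi_U {u p : G} (hu : u ∈ S.U) (hp : p ∈ S.Δ) : S.psi u p = S.φ p u := by
  have h1 := Side.loc_act (F.U_loc hu) hp (S.t_mem hp) (Side.t_NC hp)
  have h2 := F.U_act hp hu (S.t_mem hp) (Side.t_NC hp)
  rw [h1] at h2
  exact pw_inj (S.pz_ne hp) (mul_left_cancel h2)

theorem psi_mul {x u p : G} (hx : S.Loc x) (hxU : ∀ u ∈ S.U, x * u = u * x) (hu : u ∈ S.U) (hp : p ∈ S.Δ) :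
    S.psi (x * u) p = S.psi x p + S.φ p u := by
  have h0 := Side.loc_mul hx (F.U_loc hu) hxU
  have h1 := Side.loc_act h0 hp (S.t_mem hp) (Side.t_NC hp)
  have hpx : ∀ c, x * pw (p * S.z) c * x⁻¹ = pw (p * S.z) c := fun c => by
    rw [hxU _ (S.pw_mem (S.pz_mem hp) c), mul_inv_cancel_right]
  have h2 : x * u * S.t p * (x * u)⁻¹ = S.t p * pw (p * S.z) (S.psi x p + S.φ p u) := by
    calc x * u * S.t p * (x * u)⁻¹ = x * (u * S.t p * u⁻¹) * x⁻¹ := by group
      _ = x * (S.t p * pw (p * S.z) (S.φ p u)) * x⁻¹ := by rw [F.U_act hp hu (S.t_mem hp) (Side.t_NC hp)]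
      _ = (x * S.t p * x⁻¹) * (x * pw (p * S.z) (S.φ p u) * x⁻¹) := by group
      _ = S.t p * pw (p * S.z) (S.psi x p) * pw (p * S.z) (S.φ p u) := by
        rw [Side.loc_act hx hp (S.t_mem hp) (Side.t_NC hp), hpx]
      _ = _ := by rw [mul_assoc, ← pw_add (S.pz_sq hp)]
  rw [h1] at h2
  exact pw_inj (S.pz_ne hp) (mul_left_cancel h2)

/-- (i) -/
theorem psi_one {x p q : G} (hx : S.Loc x) (hp : p ∈ S.Δ) (hq : q ∈ S.Δ) (h1 : S.φ p q = 1) :
    S.psi x (p * q * S.z) = S.psi x p + S.psi x q := by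
  have hp' := F.orth.mz hp hq h1
  have hq1 : S.φ q p = 1 := (S.symm hq hp).trans h1
  set a := S.psi x p with ha
  set b := S.psi x q with hb
  have hpU := S.Δ_le hp
  have hqU := S.Δ_le hq
  have htA := S.t_A hp
  have ht := Side.loc_act hx hp (S.t_mem hp) (Side.t_NC hp)
  have hs := Side.loc_act hx hq (S.t_mem hq) (Side.t_NC hq)
  rw [← ha] at ht
  rw [← hb] at hs
  have e1 : S.t p * q * (S.t p)⁻¹ = p * q * S.z := by
    rw [S.t_act hp hqU, h1, pw_one, ← mul_assoc, S.U_comm hqU hpU]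
  have hn := S.N_conj _ htA q hq _ (S.t_mem hq)
  rw [e1] at hn
  have hnc := Side.NC_conj htA (Side.t_NC hq)
  have h2 := Side.loc_act hx hp' hn hnc
  -- `A s = s A (q z)^a`
  have hA : pw (p * S.z) a ∈ S.U := S.pw_mem (S.pz_mem hp) a
  have hB : ∀ c, pw (q * S.z) c ∈ S.U := fun c => S.pw_mem (S.pz_mem hq) c
  have e2 : S.φ q (pw (p * S.z) a) = a := by
    rw [S.φ_pw hq, S.φ_pz hp hq, hq1, mul_one]
  have e3 : pw (p * S.z) a * S.t q = S.t q * (pw (p * S.z) a * pw (q * S.z) a) := by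
    have h3 := S.t_act hq hA
    rw [e2, F.t_inv hq] at h3
    have h4 := F.N_sq q hq _ (S.t_mem hq)
    calc pw (p * S.z) a * S.t q = (S.t q * S.t q) * (pw (p * S.z) a * S.t q) := by rw [h4, one_mul]
      _ = S.t q * (S.t q * pw (p * S.z) a * S.t q) := by group
      _ = _ := by rw [h3]
  have e4 : S.t p * (q * S.z) * (S.t p)⁻¹ = p * q * S.z * S.z := by
    calc S.t p * (q * S.z) * (S.t p)⁻¹ = (S.t p * q * (S.t p)⁻¹) * (S.t p * S.z * (S.t p)⁻¹) := by group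
      _ = _ := by rw [e1, S.z_comm _ htA, mul_inv_cancel_right]
  have h3 : x * (S.t p * S.t q * (S.t p)⁻¹) * x⁻¹ = S.t p * S.t q * (S.t p)⁻¹ * pw (p * q * S.z * S.z) (a + b) := by
    calc x * (S.t p * S.t q * (S.t p)⁻¹) * x⁻¹
        = (x * S.t p * x⁻¹) * (x * S.t q * x⁻¹) * (x * S.t p * x⁻¹)⁻¹ := by group
      _ = S.t p * ((pw (p * S.z) a * S.t q) * pw (q * S.z) b * (pw (p * S.z) a)⁻¹) * (S.t p)⁻¹ := by
        rw [ht, hs]; group
      _ = S.t p * (S.t q * (pw (p * S.z) a * (pw (q * S.z) a * pw (q * S.z) b) * (pw (p * S.z) a)⁻¹)) * (S.t p)⁻¹ := by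
        rw [e3]; group
      _ = S.t p * (S.t q * pw (q * S.z) (a + b)) * (S.t p)⁻¹ := by
        rw [← pw_add (S.pz_sq hq), S.U_comm hA (hB _), mul_inv_cancel_right]
      _ = S.t p * S.t q * (S.t p)⁻¹ * (S.t p * pw (q * S.z) (a + b) * (S.t p)⁻¹) := by group
      _ = _ := by rw [pw_conj, e4]
  rw [h2] at h3
  exact pw_inj (S.pz_ne hp') (mul_left_cancel h3)

/-- (ii) -/
theorem psi_zero {x p q : G} (hxO : x ∈ O) (hx : S.Loc x) (hp : p ∈ S.Δ) (hq : q ∈ S.Δ) (hne : p ≠ q)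
    (h0 : S.φ p q = 0) : S.psi x (p * q) = S.psi x p + S.psi x q := by
  have hr := F.orth.mm p hp q hq hne h0
  have hpU := S.Δ_le hp
  have hqU := S.Δ_le hq
  -- the case `ψ_x p = 0`
  have key : ∀ x ∈ O, S.Loc x → S.psi x p = 0 → S.psi x (p * q) = S.psi x q := by
    intro x hxO hx hp0
    have hxK : x ∈ S.K p := F.O_K p hp x hxO fun n hn => Side.loc_fix hx hp hn hp0
    have hqK : q ∈ S.K p := by
      by_contra h
      have : S.φ p q = 1 := if_neg h
      rw [this] at h0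
      exact one_ne_zero h0
    obtain ⟨g, hg, hgq⟩ := F.K_tr p hp q hq hqK hne.symm
    have hgA := F.K_A p hp hg
    obtain ⟨s, hs⟩ : ∃ s, s = S.t q := ⟨_, rfl⟩
    have hsN : s ∈ S.N q := by rw [hs]; exact S.t_mem hq
    have hsnc : S.NC s := by rw [hs]; exact Side.t_NC hq
    have hss := F.N_sq q hq _ hsN
    have hsA : s ∈ S.A := by rw [hs]; exact S.t_A hq
    have hsp : s * p * s⁻¹ = p := by
      rw [hs, S.t_act hq hpU, S.symm hq hp, h0, pw_zero, mul_one]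
    have hgN := S.N_conj g hgA q hq _ hsN
    rw [hgq] at hgN
    have hgnc := Side.NC_conj hgA hsnc
    have hd : s * (g * s * g⁻¹) ∈ S.K p := by
      have h1 := F.K_conj s hsA p hp g hg
      rw [hsp] at h1
      have h2 := (S.K p).mul_mem h1 ((S.K p).inv_mem hg)
      have hsi : s⁻¹ = s := inv_eq_of_mul_eq_one_left hss
      rw [hsi] at h2
      have e : s * (g * s * g⁻¹) = s * g * s * g⁻¹ := by group
      rw [e]; exact h2
    set b := S.psi x q with hb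
    set c := S.psi x (p * q) with hc
    have hsx := Side.loc_act hx hq hsN hsnc
    have hgx := Side.loc_act hx hr hgN hgnc
    rw [← hb] at hsx
    rw [← hc] at hgx
    -- `q` commutes with `s ^ g`
    have hqz : q * S.z ∈ S.U := S.pz_mem hq
    have hcomm : ∀ c, (g * s * g⁻¹) * pw (q * S.z) c = pw (q * S.z) c * (g * s * g⁻¹) := by
      intro c
      apply comm_of_conj
      have h1 : ∀ u ∈ S.U, S.φ (p * q) u = 0 → (g * s * g⁻¹) * u * (g * s * g⁻¹)⁻¹ = u := by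
        intro u hu h2
        rcases S.act _ hr _ hgN with h3 | h3
        · exact h3 u hu
        · exact (h3 u hu).1 (by
            by_contra h4
            have : S.φ (p * q) u = 1 := if_neg h4
            rw [this] at h2
            exact one_ne_zero h2)
      apply h1 _ (S.pw_mem hqz c)
      rw [S.φ_pw hr, S.φ_pz hq hr, S.symm hr hq, S.φ_mul hq hpU hqU, S.φ_self hq, add_zero, S.symm hq hp, h0,
        mul_zero]
    have hxd : x * (s * (g * s * g⁻¹)) * x⁻¹ =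
        s * (g * s * g⁻¹) * (pw (q * S.z) b * pw (p * q * S.z) c) := by
      calc x * (s * (g * s * g⁻¹)) * x⁻¹ = (x * s * x⁻¹) * (x * (g * s * g⁻¹) * x⁻¹) := by group
        _ = s * (pw (q * S.z) b * (g * s * g⁻¹)) * pw (p * q * S.z) c := by rw [hsx, hgx]; group
        _ = _ := by rw [← hcomm]; group
    have hw : pw (q * S.z) b * pw (p * q * S.z) c = 1 ∨ pw (q * S.z) b * pw (p * q * S.z) c = p := by
      rcases F.K_der p hp x hxK _ hd with h1 | h1
      · left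
        have h2 := conj_of_comm h1
        rw [hxd] at h2
        exact mul_eq_left.1 h2
      · right
        have h2 : x * (s * (g * s * g⁻¹)) * x⁻¹ = p * (s * (g * s * g⁻¹)) := by
          rw [h1]; group
        rw [hxd, ← F.K_cent p hp _ hd] at h2
        exact mul_left_cancel h2
    have hpz : p * S.z ≠ q := fun h => F.orth.inj p hp (h ▸ hq)
    have hpqz : p * q * S.z ≠ 1 := by
      intro h
      apply hpz
      have h1 : p * q = S.z := by
        have := mul_eq_one_iff_eq_inv.1 h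
        rw [this, S.U_inv S.z_mem]
      rw [← h1, ← mul_assoc, S.U_sq p hpU, one_mul]
    have hqz1 : q * S.z ≠ 1 := S.pz_ne hq
    have hqzp : q * S.z ≠ p := by
      intro h
      apply F.orth.inj q hq
      rw [h]; exact hp
    have hpqzp : p * q * S.z ≠ p := by
      intro h
      rw [mul_assoc, mul_eq_left] at h
      exact hqz1 h
    rcases zmod_cases b with h1 | h1 <;> rcases zmod_cases c with h2 | h2
    · rw [h1, h2]
    · rw [h1, h2, pw_zero, pw_one, one_mul] at hw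
      exact absurd hw (not_or.2 ⟨hpqz, hpqzp⟩)
    · rw [h1, h2, pw_zero, pw_one, mul_one] at hw
      exact absurd hw (not_or.2 ⟨hqz1, hqzp⟩)
    · rw [h1, h2]
  -- reduce to this case
  have hxU := F.O_U x hxO
  obtain ⟨u, hu, h1⟩ : ∃ u ∈ S.U, S.φ p u = S.psi x p := by
    rcases zmod_cases (S.psi x p) with h | h
    · exact ⟨1, S.U.one_mem, by rw [h, S.φ_one hp]⟩
    · obtain ⟨u, hu, h2⟩ := S.φ_ne hp
      exact ⟨u, hu, by rw [h, h2]⟩
  have h2 := F.psi_mul hx hxU hu hp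
  have h3 : S.psi (x * u) p = 0 := by
    rw [h2, h1]
    have : ∀ c : ZMod 2, c + c = 0 := by decide
    exact this _
  have h4 := key (x * u) (O.mul_mem hxO (F.U_O hu)) (Side.loc_mul hx (F.U_loc hu) hxU) h3
  rw [F.psi_mul hx hxU hu hr, F.psi_mul hx hxU hu hq] at h4
  have h5 : S.φ (p * q) u = S.φ p u + S.φ q u := by
    have h6 := F.orth.f_mul_left hpU hqU hu
    rwa [Side.f_Δ hr, Side.f_Δ hp, Side.f_Δ hq] at h6
  rw [h5, h1] at h4
  have h6 : ∀ a b c d : ZMod 2, a + (b + c) = d + c → a = b + d := by decide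
  exact h6 _ _ _ _ h4

/-- **(14)** -/
theorem four [Finite G] {x : G} (hxO : x ∈ O) (hx : S.Loc x) : x ∈ S.U := by
  obtain ⟨u, hu, h1⟩ := F.orth.exists_rep (S.psi x) (fun p hp q hq h => F.psi_one hx hp hq h)
    (fun p hp q hq hne h => F.psi_zero hxO hx hp hq hne h)
  have hxU := F.O_U x hxO
  have hyL := Side.loc_mul hx (F.U_loc hu) hxU
  have hyO : x * u ∈ O := O.mul_mem hxO (F.U_O hu)
  have hy0 : ∀ p ∈ S.Δ, ∀ n ∈ S.N p, x * u * n * (x * u)⁻¹ = n := by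
    intro p hp n hn
    apply Side.loc_fix hyL hp hn
    rw [F.psi_mul hx hxU hu hp, h1 p hp]
    have : ∀ c : ZMod 2, c + c = 0 := by decide
    exact this _
  -- the subgroup `B'`
  let B : Subgroup G :=
    { carrier := {y | y ∈ O ∧ ∀ p ∈ S.Δ, ∀ n ∈ S.N p, y * n * y⁻¹ = n}
      one_mem' := ⟨O.one_mem, fun p hp n hn => by group⟩
      mul_mem' := by
        rintro a b ⟨ha, ha'⟩ ⟨hb, hb'⟩
        refine ⟨O.mul_mem ha hb, fun p hp n hn => ?_⟩
        calc a * b * n * (a * b)⁻¹ = a * (b * n * b⁻¹) * a⁻¹ := by group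
          _ = n := by rw [hb' p hp n hn, ha' p hp n hn]
      inv_mem' := by
        rintro a ⟨ha, ha'⟩
        refine ⟨O.inv_mem ha, fun p hp n hn => ?_⟩
        calc a⁻¹ * n * a⁻¹⁻¹ = a⁻¹ * (a * n * a⁻¹) * a⁻¹⁻¹ := by rw [ha' p hp n hn]
          _ = n := by group }
  have hBconj : ∀ m ∈ S.A, ∀ y ∈ B, m * y * m⁻¹ ∈ B := by
    rintro m hm y ⟨hy, hy'⟩
    refine ⟨F.O_conj m hm y hy, fun p hp n hn => ?_⟩
    have hm' := S.A.inv_mem hm
    have h2 := hy' _ (S.Δ_conj _ hm' p hp) _ (S.N_conj _ hm' p hp n hn)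
    calc m * y * m⁻¹ * n * (m * y * m⁻¹)⁻¹ = m * (y * (m⁻¹ * n * m⁻¹⁻¹) * y⁻¹) * m⁻¹ := by group
      _ = n := by rw [h2]; group
  have hBcen : ∀ y ∈ B, ∀ p ∈ S.Δ, ∀ k ∈ S.K p, y * k = k * y := by
    intro y hy p hp k hk
    have hyK : y ∈ S.K p := F.O_K p hp y hy.1 fun n hn => hy.2 p hp n hn
    rcases F.K_der p hp y hyK k hk with h2 | h2
    · exact h2
    · exfalso
      have h3 := hBconj k (F.K_A p hp hk) y⁻¹ (B.inv_mem hy)
      have h4 : p ∈ B := by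
        have h5 := B.mul_mem hy h3
        have e : y * (k * y⁻¹ * k⁻¹) = p := by
          calc y * (k * y⁻¹ * k⁻¹) = (y * k) * (k * y)⁻¹ := by group
            _ = p := by rw [h2]; group
        rwa [e] at h5
      obtain ⟨q, hq, h5⟩ := S.exists_nbr hp
      have h6 := h4.2 q hq _ (S.t_mem hq)
      have h7 := F.U_act hq (S.Δ_le hp) (S.t_mem hq) (Side.t_NC hq)
      rw [h6, S.symm hq hp, h5, pw_one, left_eq_mul] at h7
      exact S.pz_ne hq h7
  have hyB : x * u ∈ B := ⟨hyO, hy0⟩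
  have h2 := F.cen _ hyO (fun p hp => F.O_K p hp _ hyO fun n hn => hy0 p hp n hn) (hBcen _ hyB)
  have h3 : x * u ∈ S.U := by
    rcases h2 with h | h
    · rw [h]; exact S.U.one_mem
    · rw [h]; exact S.z_mem
  have h4 := S.U.mul_mem h3 (S.U.inv_mem hu)
  rwa [mul_inv_cancel_right] at h4

end Four

end Cfsg.Agent.Omega.HOneTwo.Trans
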