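import Cfsg.Agent.Omega.HOneTwo.TwoFour
import Cfsg.Agent.Omega.HOneTwo.TransRes

/-!
# II.0h1, `q = 2`: (14) of #16429 (helper467)

`OM D O` : `O = O₂(M)`.  `Bz D` : `C_G(⟨Q_p⟩) = ⟨z⟩` and the `H`-side is full (the output of (8)-(13)).
* `OM.four` : `Four D.Ms O`;
* `OM.fourteen` : an `x ∈ O` with `[x, N_p] ≤ U` for all `p ∈ Δ` lies in `U`.
-/

set_option autoImplicit false
set_option maxHeartbeats 400000
set_option linter.unusedSectionVars false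

namespace Cfsg.Agent.Omega.HOneTwo.Trans

open Subgroup

universe u

variable {G : Type u} [Group G]

/-- `O = O₂(M)` -/
structure OM (D : TS G) (O : Subgroup G) : Prop where
  two : IsPGroup 2 O
  O_M : O ≤ D.M
  O_conj : ∀ m ∈ D.M, ∀ x ∈ O, m * x * m⁻¹ ∈ O
  O_U : ∀ x ∈ O, ∀ u ∈ D.U, x * u = u * x
  U_O : D.U ≤ O
  O_Q : ∀ x ∈ O, (∀ n ∈ gen (D.r 0) D.z, x * n = n * x) → x ∈ D.Q (D.r 0)
  Q_O : ∀ x ∈ D.Q (D.r 0), (∀ u ∈ D.U, x * u = u * x) → x ∈ O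

/-- the output of (8)-(13) -/
structure Bz (D : TS G) : Prop where
  cen : ∀ x, (∀ p ∈ D.Δ, x ∈ zt (D.Q p)) → x = 1 ∨ x = D.z
  full : D.Hs.IsFull

namespace TS

variable (D : TS G)

theorem Ms_orth : D.Ms.IsOrth where
  full := fun u hu => D.mem_U_iff.1 hu
  inj := fun p hp => D.zz_mem hp
  mm := fun p hp q hq hne h => D.mul_mem hp hq hne h

theorem r_r {i j : Fin 3} (h : i ≠ j) : D.r i ≠ D.r j := by
  have key : ∀ k, D.r k ≠ 1 := fun k hk => D.r_C k (hk ▸ D.C.one_mem)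
  have hp := D.r_prod
  intro e
  fin_cases i <;> fin_cases j <;> simp at h <;> simp at e
  · rw [e, D.r_sq, one_mul] at hp; exact key 2 hp
  · rw [e, D.U_comm (D.r_mem 2) (D.r_mem 1), mul_assoc, D.r_sq, mul_one] at hp; exact key 1 hp
  · rw [e, D.r_sq, one_mul] at hp; exact key 2 hp
  · rw [mul_assoc, e, D.r_sq, mul_one] at hp; exact key 0 hp
  · rw [← e, D.U_comm (D.r_mem 2) (D.r_mem 1), mul_assoc, D.r_sq, mul_one] at hp; exact key 1 hp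
  · rw [mul_assoc, e, D.r_sq, mul_one] at hp; exact key 0 hp

/-- `U ∩ Z(Q₁) = ⟨r, z⟩` -/
theorem U_zt {c : G} (hc : c ∈ D.U) (hz : c ∈ zt (D.Q (D.r 0))) :
    c = 1 ∨ c = D.z ∨ c = D.r 0 ∨ c = D.r 0 * D.z := by
  rcases D.two hc hz with h | h
  · rcases D.C_U hc h with h | h
    · exact Or.inl h
    · exact Or.inr (Or.inl h)
  · have h1 : D.r 0 * (D.r 0 * c) = c := by rw [← mul_assoc, D.r_sq, one_mul]
    rcases D.C_U (D.U.mul_mem (D.r_mem 0) hc) h with h | h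
    · rw [h, mul_one] at h1
      exact Or.inr (Or.inr (Or.inl h1.symm))
    · rw [h] at h1
      exact Or.inr (Or.inr (Or.inr h1.symm))

theorem NC_iff {n : G} : D.Ms.NC n ↔ D.Hs.φ D.z n = 1 := by
  have h1 : D.Hs.φ D.z n = 1 ↔ n ∉ D.Hs.K D.z := by
    unfold Side.φ
    by_cases h : n ∈ D.Hs.K D.z
    · rw [if_pos h]; exact ⟨fun h' => absurd h'.symm one_ne_zero, fun h' => absurd h h'⟩
    · rw [if_neg h]; exact ⟨fun _ => h, fun _ => rfl⟩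
  rw [h1]
  have h2 : n ∈ D.Hs.K D.z ↔ ∀ u ∈ D.U, n * u * n⁻¹ = u := by
    show n ∈ centralizer (D.Uy D.z : Set G) ↔ _
    rw [mem_centralizer_iff, D.Uy_z]
    exact ⟨fun h u hu => conj_of_comm (h u hu).symm, fun h u hu => (comm_of_conj (h u hu)).symm⟩
  rw [h2]
  rfl

theorem not_NC_iff {n : G} : ¬ D.Ms.NC n ↔ D.Hs.φ D.z n = 0 := by
  rw [D.NC_iff]
  rcases zmod_cases (D.Hs.φ D.z n) with h | h <;> rw [h]
  · exact ⟨fun _ => rfl, fun _ h => absurd h.symm one_ne_zero⟩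
  · exact ⟨fun h' => absurd rfl h', fun h' => absurd h' one_ne_zero⟩

end TS

namespace OM

variable {D : TS G} {O : Subgroup G} (F : OM D O) (B : Bz D)
include F

theorem O_r {x : G} (hx : x ∈ O) : x * D.r 0 = D.r 0 * x := F.O_U x hx _ (D.r_mem 0)

theorem O_z {x : G} (hx : x ∈ O) : x * D.z = D.z * x := F.O_U x hx _ D.z_mem

/-- elements of `O` normalise `N₁` -/
theorem O_N {x n : G} (hx : x ∈ O) (hn : n ∈ gen (D.r 0) D.z) : x * n * x⁻¹ ∈ gen (D.r 0) D.z :=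
  gen_inv (F.O_r hx) hn

/-- `x n x⁻¹ n⁻¹` commutes with `U` for `n ∈ N₁` -/
theorem O_comm {x n : G} (hx : x ∈ O) (hn : n ∈ gen (D.r 0) D.z) : x * n * x⁻¹ * n⁻¹ ∈ O := by
  have h1 := F.O_conj n (D.N_M hn) x⁻¹ (O.inv_mem hx)
  have e : x * n * x⁻¹ * n⁻¹ = x * (n * x⁻¹ * n⁻¹) := by group
  rw [e]
  exact O.mul_mem hx h1

include B

/-- an `x ∈ O` with `[x, N₁] ≤ U` acts on `N₁` as an element of `U` -/
theorem loc0 {x : G} (hx : x ∈ O) (hxU : ∀ n ∈ gen (D.r 0) D.z, x * n * x⁻¹ * n⁻¹ ∈ D.U) :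
    (∀ n ∈ gen (D.r 0) D.z, ¬ D.Ms.NC n → x * n * x⁻¹ = n) ∧
    ((∀ n ∈ gen (D.r 0) D.z, x * n * x⁻¹ = n) ∨
      ∀ n ∈ gen (D.r 0) D.z, D.Ms.NC n → x * n * x⁻¹ = n * (D.r 0 * D.z)) := by
  have hF := B.full
  have hxr := F.O_r hx
  have hxz := F.O_z hx
  have hxA : x ∈ D.Hs.A := mem_centralizer_singleton_iff.2 hxr
  have zN : D.z ∈ gen (D.r 0) D.z := self_mem_gen _ _
  have rN : D.r 0 ∈ gen (D.r 0) D.z := D.r_mem_N
  have zΔ : D.z ∈ D.Hs.Δ := self_mem_Delta (D.r 0) D.z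
  have Nab : ∀ a ∈ gen (D.r 0) D.z, ∀ b ∈ gen (D.r 0) D.z, a * b = b * a := fun a ha b hb => D.Hs.U_comm ha hb
  have zsq := D.z_sq
  have rsq := D.r_sq 0
  -- the shape of `x n x⁻¹`
  have shape : ∀ n ∈ gen (D.r 0) D.z, ∃ a b : ZMod 2, x * n * x⁻¹ = n * (pw D.z a * pw (D.r 0) b) := by
    intro n hn
    have h1 := hxU n hn
    have h2 := (gen (D.r 0) D.z).mul_mem (F.O_N hx hn) ((gen (D.r 0) D.z).inv_mem hn)
    have h3 := D.U_zt h1 (D.N_le_zt 0 h2)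
    have e : x * n * x⁻¹ = n * (x * n * x⁻¹ * n⁻¹) := by
      rw [Nab n hn _ h2]; group
    rcases h3 with h3 | h3 | h3 | h3
    · exact ⟨0, 0, by rw [e, h3, pw_zero, pw_zero, mul_one (1 : G)]⟩
    · exact ⟨1, 0, by rw [e, h3, pw_one, pw_zero, mul_one]⟩
    · exact ⟨0, 1, by rw [e, h3, pw_one, pw_zero, one_mul]⟩
    · exact ⟨1, 1, by rw [e, h3, pw_one, pw_one, D.z_r]⟩
  have fpw : ∀ y ∈ gen (D.r 0) D.z, ∀ a b : ZMod 2,
      D.Hs.f y (pw D.z a * pw (D.r 0) b) = a * D.Hs.f y D.z := by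
    intro y hy a b
    have hz1 : ∀ c, pw D.z c ∈ D.Hs.U := fun c => D.Hs.pw_mem zN c
    have hr1 : ∀ c, pw (D.r 0) c ∈ D.Hs.U := fun c => D.Hs.pw_mem rN c
    rw [hF.f_mul_right (hz1 a) (hr1 b) hy]
    have h1 : D.Hs.f y (pw (D.r 0) b) = 0 := by
      rcases zmod_cases b with h | h
      · rw [h, pw_zero]; exact hF.f_right_one hy
      · rw [h, pw_one]; exact hF.f_right_z hy
    rw [h1, add_zero]
    rcases zmod_cases a with h | h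
    · rw [h, pw_zero, zero_mul]; exact hF.f_right_one hy
    · rw [h, pw_one, one_mul]
  obtain ⟨y, hy, hy1⟩ := D.Hs.exists_nbr zΔ
  have hyU := D.Hs.Δ_le hy
  obtain ⟨a0, b0, hxy⟩ := shape y hyU
  have hyz : D.Hs.f y D.z = 1 := by
    rw [hF.f_symm hyU zN, Side.f_Δ zΔ]; exact hy1
  -- the coefficient of `z`
  have coef : ∀ n ∈ gen (D.r 0) D.z, ∀ a b : ZMod 2, x * n * x⁻¹ = n * (pw D.z a * pw (D.r 0) b) →
      a = a0 * D.Hs.φ D.z n := by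
    intro n hn a b h1
    have h2 := hF.f_conj hxA hyU hn
    have hw : ∀ c d, pw D.z c * pw (D.r 0) d ∈ D.Hs.U := fun c d =>
      D.Hs.U.mul_mem (D.Hs.pw_mem zN c) (D.Hs.pw_mem rN d)
    rw [hxy, h1, hF.f_mul_left hyU (hw _ _) (D.Hs.U.mul_mem hn (hw _ _)), hF.f_mul_right hn (hw _ _) hyU,
      hF.f_mul_right hn (hw _ _) (hw _ _), fpw y hyU, hyz, hF.f_symm (hw a0 b0) hn, fpw n hn, fpw _ (hw a0 b0),
      hF.f_symm (hw a0 b0) zN, fpw D.z zN, hF.f_self zN, hF.f_symm hn zN, Side.f_Δ zΔ] at h2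
    have key : ∀ A a a0 p : ZMod 2, A + a * 1 + (a0 * p + a * (a0 * 0)) = A → a = a0 * p := by decide
    exact key _ _ _ _ h2
  -- `x n x⁻¹ ∈ {n, n r}` implies `x n x⁻¹ = n`
  have fixr : ∀ n ∈ gen (D.r 0) D.z, x * n * x⁻¹ = n * D.r 0 → False := by
    intro n hn h1
    have hΔc : ∀ w ∈ D.Hs.Δ, x * w * x⁻¹ ∈ D.Hs.Δ := fun w hw => D.Hs.Δ_conj x hxA w hw
    have r1 : D.r 0 ≠ 1 := fun h => D.r_C 0 (h ▸ D.C.one_mem)
    rcases hF.full n hn with h | h | h | h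
    · rw [h, one_mul, mul_one, mul_inv_cancel] at h1
      exact r1 h1.symm
    · have h' : n = D.r 0 := h
      rw [h', hxr, mul_inv_cancel_right, left_eq_mul] at h1
      exact r1 h1
    · have h2 := hΔc n h
      rw [h1] at h2
      exact hF.inj n h h2
    · have h2 := hΔc _ h
      have e : x * (n * D.Hs.z) * x⁻¹ = n := by
        calc x * (n * D.r 0) * x⁻¹ = (x * n * x⁻¹) * (x * D.r 0 * x⁻¹) := by group
          _ = n := by rw [h1, hxr, mul_inv_cancel_right, mul_assoc, rsq, mul_one]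
      rw [e] at h2
      exact hF.inj n h2 h
  have fix0 : ∀ n ∈ gen (D.r 0) D.z, a0 * D.Hs.φ D.z n = 0 → x * n * x⁻¹ = n := by
    intro n hn h0
    obtain ⟨a, b, h1⟩ := shape n hn
    have h2 := coef n hn a b h1
    rw [h0] at h2
    rw [h2, pw_zero, one_mul] at h1
    rcases zmod_cases b with h | h
    · rw [h, pw_zero, mul_one] at h1; exact h1
    · rw [h, pw_one] at h1
      exact (fixr n hn h1).elim
  refine ⟨fun n hn hnc => fix0 n hn (by rw [D.not_NC_iff.1 hnc, mul_zero]), ?_⟩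
  rcases zmod_cases a0 with ha | ha
  · exact Or.inl fun n hn => fix0 n hn (by rw [ha, zero_mul])
  · right
    intro n hn hnc
    have hn1 := D.NC_iff.1 hnc
    obtain ⟨a, b, h1⟩ := shape n hn
    have h2 := coef n hn a b h1
    rw [ha, hn1, one_mul] at h2
    rw [h2, pw_one] at h1
    rcases zmod_cases b with h | h
    · exfalso
      rw [h, pw_zero, mul_one] at h1
      have hΔc : ∀ w ∈ D.Hs.Δ, x * w * x⁻¹ ∈ D.Hs.Δ := fun w hw => D.Hs.Δ_conj x hxA w hw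
      have main : ∀ w ∈ D.Hs.Δ, D.Hs.φ D.z w = 1 → x * w * x⁻¹ = w * D.z → False := by
        intro w hw hw1 hwx
        have hwU := D.Hs.Δ_le hw
        have h3 := hΔc w hw
        rw [hwx] at h3
        have h4 := D.Hs.mz1 zΔ hw hw1
        rw [Nab D.z zN w hwU] at h4
        exact hF.inj _ h3 h4
      rcases hF.full n hn with h' | h' | h' | h'
      · rw [h'] at hn1
        have := D.Hs.φ_one zΔ
        rw [this] at hn1
        exact one_ne_zero hn1.symm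
      · rw [h'] at hn1
        have := D.Hs.φ_z zΔ
        rw [this] at hn1
        exact one_ne_zero hn1.symm
      · exact main n h' hn1 h1
      · apply main _ h'
        · have h3 := D.Hs.φ_mul zΔ hn D.Hs.z_mem
          rw [D.Hs.φ_z zΔ, add_zero] at h3
          rw [h3]
          exact hn1
        · calc x * (n * D.r 0) * x⁻¹ = (x * n * x⁻¹) * (x * D.r 0 * x⁻¹) := by group
            _ = n * D.z * D.r 0 := by rw [h1, hxr, mul_inv_cancel_right]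
            _ = n * D.r 0 * D.z := by rw [mul_assoc, D.z_r, ← mul_assoc]
    · rw [h1, h, pw_one, D.z_r]

/-- the same at `p ∈ Δ` -/
theorem loc {x : G} (hx : x ∈ O) (hxU : ∀ p ∈ D.Δ, ∀ n ∈ gen p D.z, x * n * x⁻¹ * n⁻¹ ∈ D.U) : D.Ms.Loc x := by
  rintro p ⟨m, hm, rfl⟩
  have hm' := D.M.inv_mem hm
  have hx' : m⁻¹ * x * m⁻¹⁻¹ ∈ O := F.O_conj _ hm' x hx
  have conjN : ∀ n ∈ gen (D.r 0) D.z, m * n * m⁻¹ ∈ gen (m * D.r 0 * m⁻¹) D.z := by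
    intro n hn
    have h1 := gen_conj m hn
    rwa [D.m_z hm] at h1
  have conjN' : ∀ n ∈ gen (m * D.r 0 * m⁻¹) D.z, m⁻¹ * n * m⁻¹⁻¹ ∈ gen (D.r 0) D.z := by
    intro n hn
    have h1 := gen_conj m⁻¹ hn
    rwa [D.m_z' hm, show m⁻¹ * (m * D.r 0 * m⁻¹) * m⁻¹⁻¹ = D.r 0 by group] at h1
  obtain ⟨h1, h2⟩ := F.loc0 B hx' (by
    intro n hn
    have h3 := hxU _ ⟨m, hm, rfl⟩ _ (conjN n hn)
    have h4 := gn_inv hm' h3
    have e : m⁻¹ * (x * (m * n * m⁻¹) * x⁻¹ * (m * n * m⁻¹)⁻¹) * m⁻¹⁻¹ =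
      m⁻¹ * x * m⁻¹⁻¹ * n * (m⁻¹ * x * m⁻¹⁻¹)⁻¹ * n⁻¹ := by group
    rwa [e] at h4)
  have hNC : ∀ n, D.Ms.NC (m⁻¹ * n * m⁻¹⁻¹) ↔ D.Ms.NC n := fun n =>
    ⟨fun h => Side.NC_conj' (S := D.Ms) (m := m⁻¹) hm' h, fun h => Side.NC_conj (S := D.Ms) hm' h⟩
  have back : ∀ n w, m⁻¹ * x * m⁻¹⁻¹ * (m⁻¹ * n * m⁻¹⁻¹) * (m⁻¹ * x * m⁻¹⁻¹)⁻¹ = m⁻¹ * n * m⁻¹⁻¹ * w →
      x * n * x⁻¹ = n * (m * w * m⁻¹) := by
    intro n w h
    calc x * n * x⁻¹ = m * (m⁻¹ * x * m⁻¹⁻¹ * (m⁻¹ * n * m⁻¹⁻¹) * (m⁻¹ * x * m⁻¹⁻¹)⁻¹) * m⁻¹ := by group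
      _ = n * (m * w * m⁻¹) := by rw [h]; group
  have back1 : ∀ n, m⁻¹ * x * m⁻¹⁻¹ * (m⁻¹ * n * m⁻¹⁻¹) * (m⁻¹ * x * m⁻¹⁻¹)⁻¹ = m⁻¹ * n * m⁻¹⁻¹ →
      x * n * x⁻¹ = n := by
    intro n h
    have := back n 1 (by rw [h, mul_one])
    rwa [mul_one, mul_inv_cancel, mul_one] at this
  refine ⟨fun n hn hnc => ?_, ?_⟩
  · apply back1
    exact h1 _ (conjN' n hn) fun h => hnc ((hNC n).1 h)
  · rcases h2 with h2 | h2
    · left
      intro n hn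
      apply back1
      exact h2 _ (conjN' n hn)
    · right
      intro n hn hnc
      have h3 := back n _ (h2 _ (conjN' n hn) ((hNC n).2 hnc))
      rw [h3]
      have e : m * (D.r 0 * D.z) * m⁻¹ = m * D.r 0 * m⁻¹ * D.Ms.z := by
        calc m * (D.r 0 * D.z) * m⁻¹ = m * D.r 0 * m⁻¹ * (m * D.z * m⁻¹) := by group
          _ = _ := by rw [D.m_z hm]; rfl
      rw [e]

theorem four : Four D.Ms O where
  orth := D.Ms_orth
  O_A := F.O_M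
  O_conj := F.O_conj
  O_U := F.O_U
  U_O := F.U_O
  K_A := by
    rintro p ⟨m, hm, rfl⟩ x hx
    have h1 := D.Q_conj m⁻¹ _ _ hx
    rw [show m⁻¹ * (m * D.r 0 * m⁻¹) * m⁻¹⁻¹ = D.r 0 by group] at h1
    have h2 := D.Q_M h1
    have e : x = m * (m⁻¹ * x * m⁻¹⁻¹) * m⁻¹ := by group
    rw [e]
    exact D.M.mul_mem (D.M.mul_mem hm h2) (D.M.inv_mem hm)
  N_sq := fun p hp n hn => D.N_sq' hp hn
  K_conj := fun m _ p _ x hx => D.Q_conj m p x hx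
  K_cent := by
    rintro p ⟨m, hm, rfl⟩ x hx
    have h1 := D.Q_conj m⁻¹ _ _ hx
    rw [show m⁻¹ * (m * D.r 0 * m⁻¹) * m⁻¹⁻¹ = D.r 0 by group] at h1
    have h2 := D.Q_cent _ h1
    calc x * (m * D.r 0 * m⁻¹) = m * ((m⁻¹ * x * m⁻¹⁻¹) * D.r 0) * m⁻¹ := by group
      _ = m * D.r 0 * m⁻¹ * x := by rw [h2]; group
  K_der := fun p hp x hx y hy => D.Q_der' hp hx hy
  K_tr := by
    intro p hp q hq hqK hne
    have h0 : D.φ p q = 0 := D.φ_eq_zero_iff.2 hqK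
    obtain ⟨g, hg, h1⟩ := D.Q_mv hp hq hne.symm h0
    exact ⟨g, hg, by rw [h1]; exact D.U_comm (D.Ms.Δ_le hq) (D.Ms.Δ_le hp)⟩
  O_K := by
    rintro p ⟨m, hm, rfl⟩ x hx h
    have hm' := D.M.inv_mem hm
    have hx' : m⁻¹ * x * m⁻¹⁻¹ ∈ O := F.O_conj _ hm' x hx
    have h1 := F.O_Q _ hx' (by
      intro n hn
      have h2 := gen_conj m hn
      rw [D.m_z hm] at h2
      have h3 := comm_of_conj (h _ h2)
      calc m⁻¹ * x * m⁻¹⁻¹ * n = m⁻¹ * (x * (m * n * m⁻¹)) * m := by group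
        _ = n * (m⁻¹ * x * m⁻¹⁻¹) := by rw [h3]; group)
    have h2 := D.Q_conj m _ _ h1
    have e : m * (m⁻¹ * x * m⁻¹⁻¹) * m⁻¹ = x := by group
    rwa [e] at h2
  cen := fun x _ h1 h2 => B.cen x fun p hp => mem_zt.2 ⟨h1 p hp, h2 p hp⟩

/-- **(14)** -/
theorem fourteen [Finite G] {x : G} (hx : x ∈ O)
    (hxU : ∀ p ∈ D.Δ, ∀ n ∈ gen p D.z, x * n * x⁻¹ * n⁻¹ ∈ D.U) : x ∈ D.U :=
  (F.four B).four hx (F.loc B hx hxU)

end OM

end Cfsg.Agent.Omega.HOneTwo.Trans
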